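import Groth.Agent.GrpdLib.Orbits
import Groth.Agent.SmoothLib.StalkCrit
import Mathlib.AlgebraicGeometry.Morphisms.Smooth

/-!
# Groupoids over a field: smoothness at one point gives smoothness everywhere
-/

set_option autoImplicit false
set_option backward.isDefEq.respectTransparency.types false

universe u

open CategoryTheory CategoryTheory.Limits AlgebraicGeometry

namespace Groth.Agent.GrpdLib

set_option maxHeartbeats 800000

theorem flat_to_field {X Y : Scheme.{u}} (f : X ⟶ Y) (k : Type u) [Field k] (e : Y ≅ Spec (CommRingCat.of k)) :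
    Flat f := by
  have : Flat (f ≫ e.hom) := by
    refine IsZariskiLocalAtSource.of_openCover (P := @Flat) X.affineCover fun i => ?_
    obtain ⟨φ, hφ⟩ := Spec.map_surjective (X.affineCover.f i ≫ f ≫ e.hom)
    show Flat (X.affineCover.f i ≫ f ≫ e.hom)
    refine hφ ▸ ?_
    refine (HasRingHomProperty.Spec_iff (P := @Flat)).2 ?_
    letI := φ.hom.toAlgebra
    exact RingHom.flat_algebraMap_iff.2 (Module.Flat.of_free : Module.Flat (CommRingCat.of k) _)
  have h2 : f = (f ≫ e.hom) ≫ e.inv := by simp
  rw [h2]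
  infer_instance

variable {S : Scheme.{u}} (G : Grpd.GroupoidScheme S)

/-- Over a single point, smoothness of `s` at one arrow spreads to all arrows. -/
theorem smooth_s_of_nhd [Subsingleton G.U] [Flat G.s] [LocallyOfFinitePresentation G.s] (a : G.R)
    (ha : ∃ V : G.R.Opens, a ∈ V ∧ Smooth (V.ι ≫ G.s)) : Smooth G.s := by
  have hall : ∀ c : G.R, (G.s.stalkMap c).hom.FormallySmooth := by
    intro c
    obtain ⟨q, hqa, hqc⟩ := Scheme.Pullback.exists_preimage_pullback (f := G.t) (g := G.t) a c (Subsingleton.elim _ _)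
    let α : pullback G.t G.t ⟶ G.R := pullback.fst _ _
    let γ : pullback G.t G.t ⟶ G.R := pullback.snd _ _
    have hγ : (γ ≫ G.i) ≫ G.s = α ≫ G.t := by rw [i_comp_s]; exact pullback.condition.symm
    let β : pullback G.t G.t ⟶ G.R := cmp G (γ ≫ G.i) α hγ
    have hβs : α ≫ G.s = β ≫ G.s := (cmp_s G _ _ _).symm
    have hβt : γ ≫ G.s = β ≫ G.t := ((cmp_t G _ _ _).trans (i_comp_t G γ)).symm
    let P1 := pullback G.s G.s
    let P2 := pullback G.s G.t
    have h12 : pullback.fst G.s G.s ≫ G.s = (pullback.snd G.s G.s ≫ G.i) ≫ G.t := by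
      rw [i_comp_t]; exact pullback.condition
    let ψ : P1 ⟶ P2 := pullback.lift (cmp G (pullback.fst _ _) (pullback.snd _ _ ≫ G.i) h12) (pullback.snd _ _)
      (by rw [cmp_s, i_comp_s])
    let χ : P2 ⟶ P1 := pullback.lift (cmp G (pullback.fst _ _) (pullback.snd _ _) pullback.condition) (pullback.snd _ _)
      (by rw [cmp_s])
    have hψχ : ψ ≫ χ = 𝟙 _ := by
      apply pullback.hom_ext
      · rw [Category.assoc, pullback.lift_fst, comp_cmp, Category.id_comp]
        have hh : (pullback.snd G.s G.s ≫ G.i) ≫ G.s = pullback.snd G.s G.s ≫ G.t := i_comp_s G _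
        refine (cmp_congr G (pullback.lift_fst _ _ _) (pullback.lift_snd _ _ _) _
          ((cmp_s G _ _ _).trans hh)).trans ?_
        refine (G.assoc (pullback.fst G.s G.s) _ _ h12 hh).trans ?_
        refine (cmp_congr G rfl ((G.i_comp _).trans (show pullback.snd G.s G.s ≫ G.s ≫ G.e =
          pullback.fst G.s G.s ≫ G.s ≫ G.e by rw [pullback.condition_assoc])) _ ?_).trans
          (G.comp_e (pullback.fst G.s G.s))
        rw [Category.assoc, Category.assoc, G.e_t, Category.comp_id]
      · rw [Category.assoc, pullback.lift_snd, pullback.lift_snd, Category.id_comp]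
    have hχψ : χ ≫ ψ = 𝟙 _ := by
      apply pullback.hom_ext
      · rw [Category.assoc, pullback.lift_fst, comp_cmp, Category.id_comp]
        refine (cmp_congr G (pullback.lift_fst _ _ _) (pullback.lift_snd_assoc _ _ _ _) _
          ((cmp_s G _ _ _).trans (i_comp_t G _).symm)).trans ?_
        exact cmp_cmp_inv_right G (pullback.snd G.s G.t) (pullback.fst G.s G.t) pullback.condition _
      · rw [Category.assoc, pullback.lift_snd, pullback.lift_snd, Category.id_comp]
    have : IsIso ψ := ⟨χ, hψχ, hχψ⟩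
    let x1 : P1 := (pullback.lift α β hβs : pullback G.t G.t ⟶ P1) q
    have hx1 : ∃ V : P1.Opens, x1 ∈ V ∧ Smooth (V.ι ≫ pullback.snd G.s G.s) :=
      SmoothLib.smooth_nhd_baseChange G.s G.s (IsPullback.of_hasPullback G.s G.s) x1 (by
        rw [← Scheme.Hom.comp_apply, pullback.lift_fst, hqa]
        exact ha)
    obtain ⟨V, hxV, hV⟩ := hx1
    let x2 : P2 := ψ x1
    have hx2 : ∃ V : P2.Opens, x2 ∈ V ∧ Smooth (V.ι ≫ pullback.snd G.s G.t) := by
      refine ⟨χ ⁻¹ᵁ V, ?_, ?_⟩
      · show χ (ψ x1) ∈ V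
        rw [← Scheme.Hom.comp_apply, hψχ]
        exact hxV
      · have : IsIso χ := ⟨ψ, hχψ, hψχ⟩
        have e : (χ ⁻¹ᵁ V).ι ≫ pullback.snd G.s G.t = (χ ∣_ V) ≫ V.ι ≫ pullback.snd G.s G.s := by
          rw [morphismRestrict_ι_assoc]
          congr 1
          exact (pullback.lift_snd _ _ _).symm
        rw [e]
        infer_instance
    have hfst : pullback.fst G.s G.t x2 = c := by
      show pullback.fst G.s G.t (ψ ((pullback.lift α β hβs : pullback G.t G.t ⟶ P1) q)) = c
      rw [← Scheme.Hom.comp_apply, ← Scheme.Hom.comp_apply]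
      have e : pullback.lift α β hβs ≫ ψ ≫ pullback.fst G.s G.t = γ := by
        rw [pullback.lift_fst, comp_cmp]
        refine (cmp_congr G (pullback.lift_fst _ _ _) (pullback.lift_snd_assoc _ _ _ _) _
          (hβs.trans (i_comp_t G β).symm)).trans ?_
        have h3 : γ ≫ G.s = β ≫ G.t := hβt
        have h4 : cmp G γ β h3 = α :=
          cmp_cmp_inv G γ α hγ h3
        refine (cmp_congr G h4.symm rfl _ ((cmp_s G _ _ _).trans (i_comp_t G β).symm)).trans ?_
        exact cmp_cmp_inv_right G β γ h3 _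
      rw [Category.assoc] at *
      rw [e]
      exact hqc
    obtain ⟨V2, hx2V, hV2⟩ := hx2
    rw [← hfst]
    exact SmoothLib.formallySmooth_stalkMap_of_baseChange G.s G.t (IsPullback.of_hasPullback G.s G.t) x2
      ((Flat.iff_flat_stalkMap G.s).1 inferInstance _) (SmoothLib.formallySmooth_stalkMap_of_nhd _ hx2V)
  rw [← Scheme.Hom.smoothLocus_eq_top_iff, eq_top_iff]
  exact fun c _ => hall c

/-- A reduced groupoid over a perfect field is smooth. -/
theorem smooth_s_t_of_perfectField (k : Type u) [Field k] [PerfectField k] (eU : G.U ≅ Spec (CommRingCat.of k))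
    [LocallyOfFiniteType G.s] [IsReduced G.R] : Smooth G.s ∧ Smooth G.t := by
  have : Subsingleton G.U := eU.hom.homeomorph.injective.subsingleton
  have := flat_to_field G.s k eU
  let s' := G.s ≫ eU.hom
  have : LocallyOfFinitePresentation s' := inferInstance
  have hs : G.s = s' ≫ eU.inv := by simp [s']
  have : LocallyOfFinitePresentation G.s := by rw [hs]; infer_instance
  have : Nonempty G.R := ⟨G.e (eU.inv (IsLocalRing.closedPoint k))⟩
  obtain ⟨a, ha⟩ := s'.dense_smoothLocus_of_perfectField.nonempty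
  have h1 : Smooth G.s := by
    refine smooth_s_of_nhd G a ⟨s'.smoothLocus, ha, ?_⟩
    have : Smooth (s'.smoothLocus.ι ≫ s') := by
      rw [← Scheme.Hom.smoothLocus_eq_top_iff, ← Scheme.Hom.preimage_smoothLocus_eq s'.smoothLocus.ι s',
        eq_top_iff]
      exact fun z _ => z.2
    rw [hs, ← Category.assoc]
    exact MorphismProperty.comp_mem @Smooth _ _ this inferInstance
  have := isIso_i G
  exact ⟨h1, G.i_s ▸ (inferInstance : Smooth (G.i ≫ G.s))⟩

end Groth.Agent.GrpdLib
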