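import Groth.Prelude.Def_Grpd
import Mathlib.AlgebraicGeometry.Morphisms.QuasiFinite
import Mathlib.AlgebraicGeometry.Morphisms.Integral

/-!
# Elementary facts on arrows and orbits of a groupoid scheme
-/

set_option autoImplicit false

universe u

open CategoryTheory CategoryTheory.Limits AlgebraicGeometry

namespace Groth.Agent.GrpdLib

set_option maxHeartbeats 400000

variable {S : Scheme.{u}} (G : Grpd.GroupoidScheme S)

/-- The composite of two `T`-points of arrows. -/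
noncomputable def cmp {T : Scheme.{u}} (α β : T ⟶ G.R) (h : α ≫ G.s = β ≫ G.t) : T ⟶ G.R :=
  pullback.lift α β h ≫ G.c

theorem cmp_congr {T : Scheme.{u}} {α α' β β' : T ⟶ G.R} (ha : α = α') (hb : β = β')
    (h : α ≫ G.s = β ≫ G.t) (h' : α' ≫ G.s = β' ≫ G.t) : cmp G α β h = cmp G α' β' h' := by
  subst ha hb; rfl

theorem cmp_s {T : Scheme.{u}} (α β : T ⟶ G.R) (h : α ≫ G.s = β ≫ G.t) : cmp G α β h ≫ G.s = β ≫ G.s :=
  G.comp_s α β h

theorem cmp_t {T : Scheme.{u}} (α β : T ⟶ G.R) (h : α ≫ G.s = β ≫ G.t) : cmp G α β h ≫ G.t = α ≫ G.t :=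
  G.comp_t α β h

theorem comp_cmp {T T' : Scheme.{u}} (f : T' ⟶ T) (α β : T ⟶ G.R) (h : α ≫ G.s = β ≫ G.t) :
    f ≫ cmp G α β h = cmp G (f ≫ α) (f ≫ β) (by rw [Category.assoc, h, Category.assoc]) := by
  rw [cmp, cmp, ← Category.assoc]
  congr 1
  apply pullback.hom_ext
  · rw [Category.assoc, pullback.lift_fst, pullback.lift_fst]
  · rw [Category.assoc, pullback.lift_snd, pullback.lift_snd]

theorem i_comp_s {T : Scheme.{u}} (α : T ⟶ G.R) : (α ≫ G.i) ≫ G.s = α ≫ G.t := by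
  rw [Category.assoc, G.i_s]

theorem i_comp_t {T : Scheme.{u}} (α : T ⟶ G.R) : (α ≫ G.i) ≫ G.t = α ≫ G.s := by
  rw [Category.assoc, G.i_t]

/-- Cancel an arrow: `α ∘ (α⁻¹ ∘ β) = β`. -/
theorem cmp_cmp_inv {T : Scheme.{u}} (α β : T ⟶ G.R) (h : (α ≫ G.i) ≫ G.s = β ≫ G.t)
    (h' : α ≫ G.s = cmp G (α ≫ G.i) β h ≫ G.t) : cmp G α (cmp G (α ≫ G.i) β h) h' = β := by
  have h1 : α ≫ G.s = (α ≫ G.i) ≫ G.t := (i_comp_t G α).symm
  refine (G.assoc α (α ≫ G.i) β h1 h).symm.trans ?_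
  have h2 : α ≫ G.t = β ≫ G.t := (i_comp_s G α).symm.trans h
  refine (cmp_congr G ((G.comp_i α).trans (show α ≫ G.t ≫ G.e = β ≫ G.t ≫ G.e by
    rw [← Category.assoc, h2, Category.assoc])) rfl _ ?_).trans (G.e_comp β)
  rw [Category.assoc, Category.assoc, G.e_s, Category.comp_id]

/-- Cancel an arrow: `α⁻¹ ∘ (α ∘ β) = β`. -/
theorem cmp_inv_cmp {T : Scheme.{u}} (α β : T ⟶ G.R) (h : α ≫ G.s = β ≫ G.t)
    (h' : (α ≫ G.i) ≫ G.s = cmp G α β h ≫ G.t) : cmp G (α ≫ G.i) (cmp G α β h) h' = β := by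
  refine (G.assoc (α ≫ G.i) α β (i_comp_s G α) h).symm.trans ?_
  refine (cmp_congr G ((G.i_comp α).trans (show α ≫ G.s ≫ G.e = β ≫ G.t ≫ G.e by
    rw [← Category.assoc, h, Category.assoc])) rfl _ ?_).trans (G.e_comp β)
  rw [Category.assoc, Category.assoc, G.e_s, Category.comp_id]

/-- Cancel an arrow on the right: `(β ∘ α) ∘ α⁻¹ = β`. -/
theorem cmp_cmp_inv_right {T : Scheme.{u}} (α β : T ⟶ G.R) (h : β ≫ G.s = α ≫ G.t)
    (h' : cmp G β α h ≫ G.s = (α ≫ G.i) ≫ G.t) : cmp G (cmp G β α h) (α ≫ G.i) h' = β := by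
  refine (G.assoc β α (α ≫ G.i) h (i_comp_t G α).symm).trans ?_
  refine (cmp_congr G rfl ((G.comp_i α).trans (show α ≫ G.t ≫ G.e = β ≫ G.s ≫ G.e by
    rw [← Category.assoc, ← h, Category.assoc])) _ ?_).trans (G.comp_e β)
  rw [Category.assoc, Category.assoc, G.e_t, Category.comp_id]

theorem i_comp_i : G.i ≫ G.i = 𝟙 G.R := by
  have h1 : (G.i ≫ G.i) ≫ G.s = G.i ≫ G.t := i_comp_s G G.i
  have h2 : 𝟙 G.R ≫ G.s = G.i ≫ G.t := (Category.id_comp _).trans G.i_t.symm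
  have hL : cmp G (G.i ≫ G.i) G.i h1 = G.t ≫ G.e := by
    refine (G.i_comp G.i).trans ?_
    rw [← Category.assoc, G.i_s]
  have hR : cmp G (𝟙 G.R) G.i h2 = G.t ≫ G.e := by
    refine (cmp_congr G rfl (Category.id_comp G.i).symm _ ?_).trans ((G.comp_i (𝟙 G.R)).trans (Category.id_comp _))
    rw [Category.id_comp, Category.id_comp, G.i_t]
  have hc : cmp G (G.i ≫ G.i) G.i h1 ≫ G.s = (G.i ≫ G.i) ≫ G.t := by
    rw [cmp_s, i_comp_t]
  have hc' : cmp G (𝟙 G.R) G.i h2 ≫ G.s = (G.i ≫ G.i) ≫ G.t := by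
    rw [cmp_s, i_comp_t]
  exact (cmp_cmp_inv_right G G.i (G.i ≫ G.i) h1 hc).symm.trans
    ((cmp_congr G (hL.trans hR.symm) rfl hc hc').trans (cmp_cmp_inv_right G G.i (𝟙 G.R) h2 hc'))

theorem isIso_i : IsIso G.i := ⟨G.i, i_comp_i G, i_comp_i G⟩

/-- Two arrows are joined by the composite at any point over the pair. -/
theorem exists_arrow_trans (r₁ r₂ : G.R) (h : G.s r₁ = G.t r₂) :
    ∃ r₃ : G.R, G.t r₃ = G.t r₁ ∧ G.s r₃ = G.s r₂ := by
  obtain ⟨z, hz₁, hz₂⟩ := Scheme.Pullback.exists_preimage_pullback (f := G.s) (g := G.t) r₁ r₂ h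
  refine ⟨G.c z, ?_, ?_⟩
  · have e : G.c ≫ G.t = pullback.fst G.s G.t ≫ G.t := by
      have := G.comp_t (pullback.fst G.s G.t) (pullback.snd G.s G.t) pullback.condition
      rwa [show pullback.lift (pullback.fst G.s G.t) (pullback.snd G.s G.t) pullback.condition = 𝟙 _ from
        pullback.hom_ext (by simp) (by simp), Category.id_comp] at this
    rw [← Scheme.Hom.comp_apply, e, Scheme.Hom.comp_apply, hz₁]
  · have e : G.c ≫ G.s = pullback.snd G.s G.t ≫ G.s := by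
      have := G.comp_s (pullback.fst G.s G.t) (pullback.snd G.s G.t) pullback.condition
      rwa [show pullback.lift (pullback.fst G.s G.t) (pullback.snd G.s G.t) pullback.condition = 𝟙 _ from
        pullback.hom_ext (by simp) (by simp), Category.id_comp] at this
    rw [← Scheme.Hom.comp_apply, e, Scheme.Hom.comp_apply, hz₂]

theorem s_i_apply (r : G.R) : G.s (G.i r) = G.t r := by rw [← Scheme.Hom.comp_apply, G.i_s]

theorem t_i_apply (r : G.R) : G.t (G.i r) = G.s r := by rw [← Scheme.Hom.comp_apply, G.i_t]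

/-- The saturation `t (s⁻¹ W)` is invariant. -/
theorem saturation_invariant (W : Set G.U) :
    ⇑G.s ⁻¹' (⇑G.t '' (⇑G.s ⁻¹' W)) = ⇑G.t ⁻¹' (⇑G.t '' (⇑G.s ⁻¹' W)) := by
  have key : ∀ (q r : G.R), G.s q ∈ W → G.t q = G.s r → G.t r ∈ ⇑G.t '' (⇑G.s ⁻¹' W) := fun q r hq h => by
    obtain ⟨m, hm₁, hm₂⟩ := exists_arrow_trans G r q h.symm
    exact ⟨m, by simpa [Set.mem_preimage, hm₂] using hq, hm₁⟩
  ext r
  constructor
  · rintro ⟨q, hq, h⟩
    exact key q r hq h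
  · rintro ⟨q, hq, h⟩
    have := key q (G.i r) hq (by rw [s_i_apply, h])
    rwa [t_i_apply] at this

/-- Source and target being finite, points of one orbit do not specialize to one another. -/
theorem not_specializes [IsFinite G.s] [IsFinite G.t] (r : G.R) (hne : G.s r ≠ G.t r) : ¬ (G.s r ⤳ G.t r) := by
  classical
  intro hsp
  let u := G.s r
  let O : Set G.U := ⇑G.t '' (⇑G.s ⁻¹' {u})
  have hfib : ∀ {a b : G.R}, a ⤳ b → G.s a = G.s b → a = b := fun {a b} hab h => by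
    have : DiscreteTopology ↥(⇑G.s ⁻¹' {G.s b}) :=
      (G.s.isDiscrete_preimage_singleton (G.s b)).to_subtype
    have hab' : (⟨a, h⟩ : ↥(⇑G.s ⁻¹' {G.s b})) ⤳ ⟨b, rfl⟩ := (subtype_specializes_iff _ _).2 hab
    exact congrArg Subtype.val (specializes_iff_eq.1 hab')
  have hOfin : O.Finite := (G.s.finite_preimage_singleton u).image _
  have hu : u ∈ O := ⟨G.e u, by show G.s (G.e u) = u; rw [← Scheme.Hom.comp_apply, G.e_s]; rfl,
    by rw [← Scheme.Hom.comp_apply, G.e_t]; rfl⟩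
  have hstep : ∀ z ∈ O, ∃ z' ∈ O, z' ≠ z ∧ z ⤳ z' := by
    rintro z ⟨q, hq, rfl⟩
    obtain ⟨q', hqq', hq'⟩ := G.t.isClosedMap.specializingMap (show G.t (G.i q) ⤳ G.t r from by
      rw [t_i_apply, show G.s q = u from hq]; exact hsp)
    refine ⟨G.s q', ?_, ?_, ?_⟩
    · obtain ⟨m, hm₁, hm₂⟩ := exists_arrow_trans G (G.i q') r (by rw [s_i_apply, hq'])
      exact ⟨m, hm₂, by rw [hm₁, t_i_apply]⟩
    · intro h
      have he := hfib hqq' (by rw [s_i_apply, h])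
      rw [← he, t_i_apply, show G.s q = u from hq] at hq'
      exact hne hq'
    · have := hqq'.map G.s.continuous
      rwa [s_i_apply] at this
  obtain ⟨z, hz, hmax⟩ := hOfin.exists_minimalFor (fun z => {w ∈ hOfin.toFinset | z ⤳ w}.card) O ⟨u, hu⟩
  obtain ⟨z', hz', hne', hzz'⟩ := hstep z hz
  have hsub : {w ∈ hOfin.toFinset | z' ⤳ w} ⊂ {w ∈ hOfin.toFinset | z ⤳ w} := by
    refine Finset.ssubset_iff_of_subset (fun w hw => ?_) |>.2 ⟨z, by simpa using ⟨hz, specializes_rfl⟩, ?_⟩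
    · simp only [Finset.mem_filter] at hw ⊢
      exact ⟨hw.1, hzz'.trans hw.2⟩
    · simp only [Finset.mem_filter, not_and]
      exact fun _ h => hne' (h.antisymm hzz').eq
  exact absurd (hmax hz' (Finset.card_le_card hsub.1)) (not_le.2 (Finset.card_lt_card hsub))

end Groth.Agent.GrpdLib
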