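import Groth.Agent.GrpdLib.OrbitScheme
import Groth.Agent.GrpdLib.Orbits
import Mathlib.RingTheory.LocalRing.ResidueField.Ideal

/-!
# Invariant affine neighbourhoods for finite locally free groupoids
-/

set_option autoImplicit false

universe u

open CategoryTheory CategoryTheory.Limits AlgebraicGeometry TensorProduct

namespace Groth.Agent.GrpdLib

set_option maxHeartbeats 800000

namespace ProjPres

variable {A B : Type u} [CommRing A] [CommRing B] [Algebra A B] (p : ProjPres A B)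

theorem dvd_algebraMap_norm (z : B) : z ∣ algebraMap A B (p.norm z) := by
  have h : ∀ v : Fin p.n → A, p.proj (Matrix.mulVec (1 + p.mat (z - 1)) v) = z * p.proj v := fun v => by
    rw [Matrix.add_mulVec, Matrix.one_mulVec, map_add,
      show Matrix.mulVec (p.mat (z - 1)) v = p.endo (z - 1) v from LinearMap.toMatrix'_mulVec _ v]
    simp only [endo, LinearMap.comp_apply, Algebra.coe_lmul_eq_mul, LinearMap.mul_apply', p.proj_sect]
    ring
  have h2 := h (Matrix.mulVec (1 + p.mat (z - 1)).adjugate (p.sect 1))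
  rw [Matrix.mulVec_mulVec, Matrix.mul_adjugate, Matrix.smul_mulVec, Matrix.one_mulVec, map_smul, p.proj_sect,
    Algebra.smul_def, mul_one] at h2
  exact ⟨_, h2⟩

theorem norm_notMem_iff (q : Ideal A) [q.IsPrime] (z : B) :
    p.norm z ∉ q ↔ ∀ P : Ideal B, P.IsPrime → P.comap (algebraMap A B) = q → z ∉ P := by
  refine ⟨fun h P _ hP hz => h ?_, fun h hN => ?_⟩
  · rw [← hP]
    exact P.mem_of_dvd (p.dvd_algebraMap_norm z) hz
  · let K := q.ResidueField
    let F := K ⊗[A] B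
    let _ := Algebra.TensorProduct.rightAlgebra (R := A) (A := K) (B := B)
    have hnu : ¬ IsUnit (algebraMap B F z) := fun hu => by
      have h2 := (p.baseChange K F).isUnit_norm hu
      rw [ProjPres.norm_baseChange, Ideal.algebraMap_residueField_eq_zero.2 hN] at h2
      exact not_isUnit_zero h2
    obtain ⟨M, hM, hzM⟩ := exists_max_ideal_of_mem_nonunits hnu
    refine h (M.comap (algebraMap B F)) (Ideal.IsPrime.comap _) ?_ hzM
    ext a
    show algebraMap B F (algebraMap A B a) ∈ M ↔ a ∈ q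
    rw [← IsScalarTower.algebraMap_apply A B F, IsScalarTower.algebraMap_apply A K F,
      ← Ideal.algebraMap_residueField_eq_zero (I := q)]
    exact ⟨fun hm => by_contra fun hne => hM.ne_top (M.eq_top_of_isUnit_mem hm ((IsUnit.mk0 _ hne).map _)),
      fun h0 => by rw [h0, map_zero]; exact zero_mem _⟩

end ProjPres

theorem mem_basicOpen_iff {X : Scheme.{u}} [IsAffine X] (f : Γ(X, ⊤)) (x : X) :
    x ∈ X.basicOpen f ↔ f ∉ (X.isoSpec.hom x).asIdeal := by
  rw [← X.toSpecΓ_preimage_basicOpen f]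
  rfl

/-- For a finite locally free map of affine schemes, the points over which a function is invertible are the
nonvanishing locus of its norm. -/
theorem exists_basicOpen_eq_forall_fibre {X Y : Scheme.{u}} [IsAffine X] [IsAffine Y] (φ : Y ⟶ X) [IsFinite φ]
    [Flat φ] [LocallyOfFinitePresentation φ] (h : Γ(Y, ⊤)) :
    ∃ g : Γ(X, ⊤), ∀ x : X, x ∈ X.basicOpen g ↔ ∀ y : Y, φ y = x → y ∈ Y.basicOpen h := by
  let _ : Algebra Γ(X, ⊤) Γ(Y, ⊤) := φ.appTop.hom.toAlgebra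
  have h1 : Module.Finite Γ(X, ⊤) Γ(Y, ⊤) := φ.finite_appTop
  have h2 : Module.Flat Γ(X, ⊤) Γ(Y, ⊤) := HasRingHomProperty.appTop (P := @Flat) φ inferInstance
  have h3 : Algebra.FinitePresentation Γ(X, ⊤) Γ(Y, ⊤) :=
    HasRingHomProperty.appTop (P := @LocallyOfFinitePresentation) φ inferInstance
  have := Module.FinitePresentation.of_finite_of_finitePresentation (R := Γ(X, ⊤)) (S := Γ(Y, ⊤))
  have : Module.Projective Γ(X, ⊤) Γ(Y, ⊤) := Module.Flat.projective_of_finitePresentation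
  obtain ⟨p⟩ := ProjPres.nonempty (A := Γ(X, ⊤)) (B := Γ(Y, ⊤))
  refine ⟨p.norm h, fun x => ?_⟩
  have := (X.isoSpec.hom x).isPrime
  rw [mem_basicOpen_iff, p.norm_notMem_iff (X.isoSpec.hom x).asIdeal h]
  refine ⟨fun H y hy => ?_, fun H P hP hPx => ?_⟩
  · rw [mem_basicOpen_iff]
    refine H _ (Y.isoSpec.hom y).isPrime ?_
    rw [← hy, isoSpec_apply]
    rfl
  · obtain ⟨y, hy⟩ := Y.isoSpec.hom.homeomorph.surjective (⟨P, hP⟩ : PrimeSpectrum Γ(Y, ⊤))
    have hxy : φ y = x := X.isoSpec.hom.homeomorph.injective (by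
      show X.isoSpec.hom (φ y) = X.isoSpec.hom x
      rw [isoSpec_apply, show Y.isoSpec.hom y = _ from hy]
      exact PrimeSpectrum.ext hPx)
    have := (mem_basicOpen_iff h y).1 (H y hxy)
    rwa [show Y.isoSpec.hom y = _ from hy] at this

/-- Finitely many points of an open subset of an affine scheme lie in a basic open inside it. -/
theorem exists_basicOpen_of_finite {X : Scheme.{u}} [IsAffine X] (O : Set X) (hO : O.Finite) (W : X.Opens)
    (hOW : O ⊆ W) : ∃ f : Γ(X, ⊤), O ⊆ X.basicOpen f ∧ X.basicOpen f ≤ W := by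
  classical
  obtain ⟨I, hI⟩ := (PrimeSpectrum.isClosed_iff_zeroLocus_ideal (X.isoSpec.inv.homeomorph ⁻¹' (W : Set X)ᶜ)).1
    (W.isOpen.isClosed_compl.preimage X.isoSpec.inv.homeomorph.continuous)
  have hinv : ∀ x, X.isoSpec.inv (X.isoSpec.hom x) = x := fun x => by
    rw [← Scheme.Hom.comp_apply, Iso.hom_inv_id]; rfl
  have hnot : ∀ x ∈ O, ¬ I ≤ (X.isoSpec.hom x).asIdeal := fun x hx hle => by
    have : X.isoSpec.hom x ∈ X.isoSpec.inv.homeomorph ⁻¹' (W : Set X)ᶜ := hI.symm ▸ hle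
    exact this (by show X.isoSpec.inv (X.isoSpec.hom x) ∈ W; rw [hinv]; exact hOW hx)
  obtain ⟨f, hfI, hf⟩ : ∃ f ∈ I, ∀ x ∈ O, f ∉ (X.isoSpec.hom x).asIdeal := by
    by_contra hcon
    push Not at hcon
    have hsub : (I : Set Γ(X, ⊤)) ⊆ ⋃ x ∈ (hO.toFinset : Set X), ((X.isoSpec.hom x).asIdeal : Set Γ(X, ⊤)) :=
      fun f hf => by
        obtain ⟨x, hx, hfx⟩ := hcon f hf
        exact Set.mem_iUnion₂.2 ⟨x, by simpa using hx, hfx⟩
    rcases hO.toFinset.eq_empty_or_nonempty with he | ⟨a, ha⟩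
    · have := hsub I.zero_mem
      simp [he] at this
    · obtain ⟨x, hx, hle⟩ := (Ideal.subset_union_prime a a fun x _ _ _ => (X.isoSpec.hom x).isPrime).1 hsub
      exact hnot x (by simpa using hx) hle
  refine ⟨f, fun x hx => (mem_basicOpen_iff f x).2 (hf x hx), fun x hx => by_contra fun hxW => ?_⟩
  have : X.isoSpec.hom x ∈ X.isoSpec.inv.homeomorph ⁻¹' (W : Set X)ᶜ := by
    show X.isoSpec.inv (X.isoSpec.hom x) ∉ (W : Set X)
    rw [hinv]; exact hxW
  have := (Set.ext_iff.1 hI _).1 this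
  exact (mem_basicOpen_iff f x).1 hx (this hfI)

theorem saturation_eq {S : Scheme.{u}} (G : Grpd.GroupoidScheme S) {u : G.U} {r r' : G.R} (h : G.s r = u)
    (h' : G.s r' = G.t r) : ∃ m : G.R, G.s m = u ∧ G.t m = G.t r' := by
  obtain ⟨m, hm₁, hm₂⟩ := exists_arrow_trans G r' r h'
  exact ⟨m, hm₂.trans h, hm₁⟩

/-- **Invariant affine neighbourhoods.** -/
theorem exists_invariant_affine {S : Scheme.{u}} (G : Grpd.GroupoidScheme S) [IsFinite G.s] [Flat G.s]
    [LocallyOfFinitePresentation G.s] (u : G.U) (V : G.U.Opens) (hV : IsAffineOpen V)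
    (huV : ∀ r : G.R, G.s r = u → G.t r ∈ V) :
    ∃ W : G.U.Opens, IsAffineOpen W ∧ u ∈ W ∧ W ≤ V ∧ G.s ⁻¹ᵁ W = G.t ⁻¹ᵁ W := by
  have := isIso_i G
  have : IsFinite G.t := G.i_s ▸ inferInstance
  have he : ∀ x : G.U, G.s (G.e x) = x ∧ G.t (G.e x) = x := fun x => by
    rw [← Scheme.Hom.comp_apply, G.e_s, ← Scheme.Hom.comp_apply, G.e_t]
    exact ⟨rfl, rfl⟩
  let Z : Set G.U := ⇑G.t '' (⇑G.s ⁻¹' (V : Set G.U)ᶜ)
  let W0 : G.U.Opens := ⟨Zᶜ, (G.t.isClosedMap _ (V.isOpen.isClosed_compl.preimage G.s.continuous)).isOpen_compl⟩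
  have hW0V : W0 ≤ V := fun x hx => by_contra fun hxV => hx ⟨G.e x, by
    show G.s (G.e x) ∉ V
    rw [(he x).1]; exact hxV, (he x).2⟩
  have hW0inv : ∀ r : G.R, G.s r ∈ W0 → G.t r ∈ W0 := fun r hr ht => hr (by
    have := (Set.ext_iff.1 (saturation_invariant G (V : Set G.U)ᶜ) r).2 ht
    exact this)
  let O : Set G.U := ⇑G.t '' (⇑G.s ⁻¹' {u})
  have hOW0 : O ⊆ W0 := by
    rintro _ ⟨r, hr, rfl⟩ ⟨q, hq, hqr⟩
    obtain ⟨m, hm, hm'⟩ := saturation_eq G (r' := G.i q) hr (by rw [s_i_apply, hqr])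
    exact hq (by rw [← t_i_apply, ← hm']; exact huV m hm)
  have hu : u ∈ O := ⟨G.e u, (he u).1, (he u).2⟩
  have hOfin : O.Finite := (G.s.finite_preimage_singleton u).image _
  have : IsAffine V := hV
  obtain ⟨f, hf1, hf2⟩ := exists_basicOpen_of_finite (V.ι ⁻¹' O) (hOfin.preimage V.ι.isOpenEmbedding.injective.injOn)
    (V.ι ⁻¹ᵁ W0) (fun x hx => hOW0 hx)
  let D : G.U.Opens := V.ι ''ᵁ V.toScheme.basicOpen f
  have hD : IsAffineOpen D := ((isAffineOpen_top V).basicOpen f).image_of_isOpenImmersion V.ι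
  have hDW0 : D ≤ W0 := fun x hx => by
    obtain ⟨y, hy, rfl⟩ := hx
    exact hf2 hy
  have hOD : O ⊆ D := fun x hx => ⟨⟨x, hW0V (hOW0 hx)⟩, hf1 hx, rfl⟩
  have : IsAffine D := hD
  have : IsAffine (G.s ⁻¹ᵁ D).toScheme := hD.preimage G.s
  have sq := (isPullback_morphismRestrict G.s D).flip
  have : IsFinite (G.s ∣_ D) := MorphismProperty.of_isPullback (P := @IsFinite) sq inferInstance
  have : Flat (G.s ∣_ D) := MorphismProperty.of_isPullback (P := @Flat) sq inferInstance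
  have : LocallyOfFinitePresentation (G.s ∣_ D) :=
    MorphismProperty.of_isPullback (P := @LocallyOfFinitePresentation) sq inferInstance
  have htV : Set.range ((G.s ⁻¹ᵁ D).ι ≫ G.t) ⊆ Set.range V.ι := by
    rintro _ ⟨y, rfl⟩
    rw [Scheme.Opens.range_ι]
    exact hW0V (hW0inv _ (hDW0 y.2))
  let tV : (G.s ⁻¹ᵁ D).toScheme ⟶ V := IsOpenImmersion.lift V.ι ((G.s ⁻¹ᵁ D).ι ≫ G.t) htV
  have htVι : ∀ y, V.ι (tV y) = G.t ((G.s ⁻¹ᵁ D).ι y) := fun y => by
    rw [← Scheme.Hom.comp_apply, IsOpenImmersion.lift_fac]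
    rfl
  obtain ⟨g, hg⟩ := exists_basicOpen_eq_forall_fibre (G.s ∣_ D) (tV.appTop.hom f)
  let W : G.U.Opens := D.ι ''ᵁ D.toScheme.basicOpen g
  have hchar : ∀ x : G.U, x ∈ W ↔ x ∈ D ∧ ∀ r : G.R, G.s r = x → G.t r ∈ D := by
    intro x
    have hmem : ∀ y : (G.s ⁻¹ᵁ D).toScheme, y ∈ (G.s ⁻¹ᵁ D).toScheme.basicOpen (tV.appTop.hom f) ↔
        G.t ((G.s ⁻¹ᵁ D).ι y) ∈ D := fun y => by
      rw [← Scheme.preimage_basicOpen_top, ← htVι]
      exact ⟨fun h => ⟨_, h, rfl⟩, fun ⟨z, hz, hzy⟩ => (congrArg (· ∈ V.toScheme.basicOpen f) (V.ι.isOpenEmbedding.injective hzy)).mp hz⟩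
    constructor
    · rintro ⟨d, hd, rfl⟩
      refine ⟨d.2, fun r hr => ?_⟩
      have hrD : r ∈ G.s ⁻¹ᵁ D := by
        show G.s r ∈ D
        rw [hr]; exact d.2
      refine (hmem ⟨r, hrD⟩).1 ((hg d).1 hd _ ?_)
      apply D.ι.isOpenEmbedding.injective
      refine ((Scheme.Hom.comp_apply (G.s ∣_ D) D.ι _).symm.trans ?_).trans hr
      exact congrArg (fun φ : (G.s ⁻¹ᵁ D).toScheme ⟶ G.U => φ _) (morphismRestrict_ι G.s D)
    · rintro ⟨hxD, H⟩
      refine ⟨⟨x, hxD⟩, (hg _).2 fun y hy => (hmem y).2 (H _ ?_), rfl⟩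
      have := congrArg D.ι hy
      rw [← Scheme.Hom.comp_apply, morphismRestrict_ι] at this
      exact this
  refine ⟨W, ((isAffineOpen_top D).basicOpen g).image_of_isOpenImmersion D.ι,
    (hchar u).2 ⟨hOD hu, fun r hr => hOD ⟨r, hr, rfl⟩⟩, fun x hx => hW0V (hDW0 ((hchar x).1 hx).1), ?_⟩
  have key : ∀ r : G.R, G.s r ∈ W → G.t r ∈ W := fun r hr => by
    obtain ⟨-, H⟩ := (hchar _).1 hr
    refine (hchar _).2 ⟨H r rfl, fun r' hr' => ?_⟩
    obtain ⟨m, hm, hm'⟩ := saturation_eq G rfl hr'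
    exact hm' ▸ H m hm
  refine TopologicalSpace.Opens.ext (Set.ext fun r => ⟨key r, fun hr => ?_⟩)
  have := key (G.i r) (by rw [s_i_apply]; exact hr)
  rwa [t_i_apply] at this

end Groth.Agent.GrpdLib
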