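import Groth.Agent.AlgSpLib.EqvQuot
import Groth.Prelude.Def_QuotSh

/-!
# A faithfully flat finitely presented quotient with kernel pair `R` represents the fppf quotient sheaf
-/

set_option autoImplicit false

universe u

open CategoryTheory CategoryTheory.Limits AlgebraicGeometry

namespace Groth.Agent.GrpdLib

open AlgSpLib AlgSp

set_option backward.isDefEq.respectTransparency.types false
set_option maxHeartbeats 800000

variable {S : Scheme.{u}} {R U M : Over S}

theorem isQuotient_of_isPullback (s t : R ⟶ U) (q : U ⟶ M) (sq : IsPullback t s q q) [Flat q.left]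
    [LocallyOfFinitePresentation q.left] [Surjective q.left] :
    QuotSh.IsQuotient Scheme.fppfPrecoverage s t q := by
  refine ⟨sq.w.symm, ?_⟩
  have := isLocallySurjective_of_repWith (a := (yon S).map q) ((repWith_yon_map_iff _ q).2 inferInstance)
    ((repWith_yon_map_iff _ q).2 inferInstance) ((repWith_yon_map_iff _ q).2 inferInstance)
  have : Epi ((yon S).map q) := Sheaf.epi_of_isLocallySurjective _
  have w : (yon S).map s ≫ (yon S).map q = (yon S).map t ≫ (yon S).map q := by
    rw [← Functor.map_comp, ← Functor.map_comp, sq.w]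
  have sq' : IsPullback ((yon S).map t) ((yon S).map s) ((yon S).map q) ((yon S).map q) := sq.map (yon S)
  have : IsIso (pullback.lift ((yon S).map t) ((yon S).map s) w.symm :
      (yon S).obj R ⟶ pullback ((yon S).map q) ((yon S).map q)) := by
    have e : pullback.lift ((yon S).map t) ((yon S).map s) w.symm = sq'.isoPullback.hom := by
      apply pullback.hom_ext
      · exact (pullback.lift_fst _ _ _).trans sq'.isoPullback_hom_fst.symm
      · exact (pullback.lift_snd _ _ _).trans sq'.isoPullback_hom_snd.symm
    rw [e]; infer_instance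
  have hD : IsIso (quotSpDesc ((yon S).map q) w) := isIso_quotSpDesc ((yon S).map q) w
  obtain ⟨e, he⟩ := exists_iso_quot s t
  let eM := QuotSh.repIsoUliftYoneda Scheme.fppfPrecoverage M
  have key : e.hom ≫ QuotSh.quotDesc Scheme.fppfPrecoverage q sq.w.symm =
      quotSpDesc ((yon S).map q) w ≫ eM.inv := by
    rw [← cancel_epi (quotSpπ ((yon S).map s) ((yon S).map t)), ← Category.assoc, he, quotSpπ_desc_assoc,
      Category.assoc]
    have h1 : QuotSh.quotπ Scheme.fppfPrecoverage s t ≫ QuotSh.quotDesc Scheme.fppfPrecoverage q sq.w.symm =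
        QuotSh.repMap Scheme.fppfPrecoverage q := coequalizer.π_desc _ _
    rw [h1, Iso.inv_comp_eq, ← Category.assoc, Iso.eq_comp_inv]
    exact repMap_comp_repIso q
  rw [← Iso.eq_inv_comp] at key
  rw [key]
  infer_instance

end Groth.Agent.GrpdLib
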