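import Groth.Agent.GrpdLib.RingGrpd
import Mathlib.RingTheory.PolynomialAlgebra
import Mathlib.LinearAlgebra.Matrix.ToLinearEquiv
import Mathlib.FieldTheory.IsAlgClosed.Basic
import Mathlib.RingTheory.Spectrum.Prime.Topology
import Mathlib.FieldTheory.Minpoly.Basic

/-!
# Fibres of the quotient map of an affine finite locally free groupoid
-/

set_option autoImplicit false

universe u

open TensorProduct Polynomial

namespace Groth.Agent.GrpdLib.RingGrpd

set_option linter.unusedSectionVars false
set_option maxHeartbeats 800000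

variable {A B : Type u} [CommRing A] [CommRing B] (G : RingGrpd A B)

theorem algebraIsIntegral (p : ProjPres A G.SB) : Algebra.IsIntegral G.invariants A :=
  ⟨fun f => G.isIntegralElem p f⟩

/-- Primes with the same trace on the invariants are joined by a prime of arrows. -/
theorem exists_prime_of_comap_eq (p : ProjPres A G.SB) (q q' : Ideal A) [q.IsPrime] [q'.IsPrime]
    (h : q.comap G.invariants.subtype = q'.comap G.invariants.subtype) :
    ∃ P : Ideal B, P.IsPrime ∧ P.comap G.s = q ∧ P.comap G.t = q' := by
  classical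
  let K := q.ResidueField
  let F := K ⊗[A] G.SB
  letI := Algebra.TensorProduct.rightAlgebra (R := A) (A := K) (B := G.SB)
  have : Module.Finite A G.SB :=
    Module.Finite.of_surjective p.proj fun b => ⟨p.sect b, p.proj_sect b⟩
  have : IsArtinianRing F := IsArtinianRing.of_finite K F
  have hfin : {M : Ideal F | M.IsMaximal}.Finite := IsArtinianRing.setOfPred_isMaximal_finite F
  have hg0 : ∀ x, algebraMap A K x = 0 ↔ x ∈ q := fun x => Ideal.algebraMap_residueField_eq_zero
  let ψ : A →+* F := (algebraMap G.SB F).comp G.t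
  have hsM : ∀ (M : Ideal F), M.IsMaximal → ∀ a : A, algebraMap G.SB F (G.s a) ∈ M ↔ a ∈ q := by
    intro M hM a
    have e : algebraMap G.SB F (algebraMap A G.SB a) = algebraMap K F (algebraMap A K a) := by
      rw [← IsScalarTower.algebraMap_apply, ← IsScalarTower.algebraMap_apply]
    rw [show algebraMap G.SB F (G.s a) = algebraMap K F (algebraMap A K a) from e, ← hg0]
    refine ⟨fun hm => by_contra fun hne => hM.ne_top
      (M.eq_top_of_isUnit_mem hm ((IsUnit.mk0 _ hne).map (algebraMap K F))), fun h0 => ?_⟩
    rw [h0, map_zero]; exact zero_mem _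
  have hcover : ((q' : Ideal A) : Set A) ⊆
      ⋃ M ∈ ((hfin.toFinset : Finset (Ideal F)) : Set (Ideal F)), (M.comap ψ : Set A) := by
    intro f hf
    let z : G.SB := G.t f
    have hN : p.norm z ∈ q := by
      have hd : f ∣ p.norm z := by
        have := p.dvd_norm G.epsilon z
        rwa [show G.epsilon z = f from RingHom.congr_fun G.e_t f] at this
      have hmem : (⟨p.norm z, G.norm_mem_invariants p f⟩ : G.invariants) ∈ q'.comap G.invariants.subtype :=
        q'.mem_of_dvd hd hf
      rw [← h] at hmem
      exact hmem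
    have hnu : ¬ IsUnit (ψ f) := fun hu => by
      have h2 := (p.baseChange K F).isUnit_norm (z := algebraMap G.SB F z) hu
      rw [ProjPres.norm_baseChange, (hg0 _).2 hN] at h2
      exact not_isUnit_zero h2
    obtain ⟨M, hM, hfM⟩ := exists_max_ideal_of_mem_nonunits hnu
    exact Set.mem_iUnion₂.2 ⟨M, by simpa using hM, hfM⟩
  obtain ⟨M, hM, hle⟩ := (Ideal.subset_union_prime ⊥ ⊥ fun M hM _ _ => by
    have : M.IsMaximal := by simpa using hM
    exact Ideal.IsPrime.comap ψ).1 hcover
  have hMmax : M.IsMaximal := by simpa using hM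
  have := G.algebraIsIntegral p
  have heq : q' = M.comap ψ := by
    refine le_antisymm hle ?_
    by_contra hne
    obtain ⟨x, hx, hx'⟩ := SetLike.not_le_iff_exists.1 hne
    have hlt := Ideal.comap_lt_comap_of_integral_mem_sdiff hle ⟨hx, hx'⟩
      (Algebra.IsIntegral.isIntegral (R := G.invariants) x)
    refine hlt.ne ?_
    ext a
    show (a : A) ∈ q' ↔ algebraMap G.SB F (G.t (a : A)) ∈ M
    rw [show G.t (a : A) = G.s (a : A) from (G.mem_invariants.1 a.2).symm, hsM M hMmax]
    exact (SetLike.ext_iff.1 h a).symm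
  refine ⟨M.comap (algebraMap G.SB F), Ideal.IsPrime.comap _, ?_, ?_⟩
  · ext a; exact hsM M hMmax a
  · rw [heq]; rfl

theorem eval₂RingHom_comp_C {R T : Type u} [CommRing R] [CommRing T] (g : R →+* T) (x : T) :
    (eval₂RingHom g x).comp C = g :=
  RingHom.ext fun r => by simp

theorem compat_C {T : Type u} [CommRing T] {α β : B[X] →+* T}
    (h : α.comp (mapRingHom G.s) = β.comp (mapRingHom G.t)) : (α.comp C).comp G.s = (β.comp C).comp G.t :=
  RingHom.ext fun a => by simpa using RingHom.congr_fun h (C a)

/-- The groupoid base changed to a polynomial ring. -/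
noncomputable def poly : RingGrpd A[X] B[X] where
  s := mapRingHom G.s
  t := mapRingHom G.t
  e := mapRingHom G.e
  i := mapRingHom G.i
  comp {T} _ α β h := eval₂RingHom (G.comp (α.comp C) (β.comp C) (by
    refine RingHom.ext fun a => ?_
    have := RingHom.congr_fun h (C a)
    simpa using this)) (α X)
  comp_map {T T'} _ _ g α β h h' := by
    refine Polynomial.ringHom_ext (fun b => ?_) ?_
    · simp only [RingHom.comp_apply, coe_eval₂RingHom, eval₂_C]
      exact RingHom.congr_fun (G.comp_map g (α.comp C) (β.comp C) _ _) b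
    · simp
  comp_s {T} _ α β h := by
    refine Polynomial.ringHom_ext (fun a => ?_) ?_
    · simp only [RingHom.comp_apply, coe_mapRingHom, map_C, coe_eval₂RingHom, eval₂_C]
      exact RingHom.congr_fun (G.comp_s (α.comp C) (β.comp C) _) a
    · have := RingHom.congr_fun h X
      simpa using this
  comp_t {T} _ α β h := by
    refine Polynomial.ringHom_ext (fun a => ?_) ?_
    · simp only [RingHom.comp_apply, coe_mapRingHom, map_C, coe_eval₂RingHom, eval₂_C]
      exact RingHom.congr_fun (G.comp_t (α.comp C) (β.comp C) _) a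
    · simp
  assoc {T} _ α β γ h₁ h₂ h₃ h₄ := by
    refine Polynomial.ringHom_ext (fun b => ?_) ?_
    · refine (eval₂_C _ _).trans (Eq.trans ?_ (eval₂_C _ _).symm)
      refine RingHom.congr_fun ?_ b
      exact (G.comp_congr (eval₂RingHom_comp_C _ _) rfl _ ((G.comp_s _ _ _).trans (G.compat_C h₂))).trans
        ((G.assoc (α.comp C) (β.comp C) (γ.comp C) (G.compat_C h₁) (G.compat_C h₂) _
          ((G.compat_C h₁).trans (G.comp_t _ _ _).symm)).trans
          (G.comp_congr rfl (eval₂RingHom_comp_C _ _).symm _ _))
    · simp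
  e_s := Polynomial.ringHom_ext (fun a => by simpa using RingHom.congr_fun G.e_s a) (by simp)
  e_t := Polynomial.ringHom_ext (fun a => by simpa using RingHom.congr_fun G.e_t a) (by simp)
  comp_e {T} _ α h := by
    refine Polynomial.ringHom_ext (fun b => ?_) ?_
    · simp only [coe_eval₂RingHom, eval₂_C]
      refine RingHom.congr_fun ((G.comp_congr rfl ?_ _ ?_).trans (G.comp_e (α.comp C) ?_)) b
      · exact RingHom.ext fun x => by simp
      all_goals exact RingHom.ext fun x => by simp [show ∀ y, G.e (G.t y) = y from RingHom.congr_fun G.e_t]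
    · simp
  e_comp {T} _ α h := by
    refine Polynomial.ringHom_ext (fun b => ?_) ?_
    · simp only [coe_eval₂RingHom, eval₂_C]
      refine RingHom.congr_fun ((G.comp_congr ?_ rfl _ ?_).trans (G.e_comp (α.comp C) ?_)) b
      · exact RingHom.ext fun x => by simp
      all_goals exact RingHom.ext fun x => by simp [show ∀ y, G.e (G.s y) = y from RingHom.congr_fun G.e_s]
    · simp
  i_s := Polynomial.ringHom_ext (fun a => by simpa using RingHom.congr_fun G.i_s a) (by simp)
  i_t := Polynomial.ringHom_ext (fun a => by simpa using RingHom.congr_fun G.i_t a) (by simp)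
  comp_i {T} _ α h := by
    refine Polynomial.ringHom_ext (fun b => ?_) ?_
    · simp only [coe_eval₂RingHom, eval₂_C]
      refine (RingHom.congr_fun ((G.comp_congr rfl ?_ _ ?_).trans (G.comp_i (α.comp C) ?_)) b).trans ?_
      · exact RingHom.ext fun x => by simp
      rotate_right
      · simp
      all_goals exact RingHom.ext fun x => by simp [show ∀ y, G.i (G.t y) = G.s y from RingHom.congr_fun G.i_t]
    · simp
  i_comp {T} _ α h := by
    refine Polynomial.ringHom_ext (fun b => ?_) ?_
    · simp only [coe_eval₂RingHom, eval₂_C]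
      refine (RingHom.congr_fun ((G.comp_congr ?_ rfl _ ?_).trans (G.i_comp (α.comp C) ?_)) b).trans ?_
      · exact RingHom.ext fun x => by simp
      rotate_right
      · simp
      all_goals exact RingHom.ext fun x => by simp [show ∀ y, G.i (G.s y) = G.t y from RingHom.congr_fun G.i_s]
    · simp

theorem coeff_mem_invariants_of_poly {c : A[X]} (hc : c ∈ G.poly.invariants) (j : ℕ) :
    c.coeff j ∈ G.invariants := by
  have h : mapRingHom G.s c = mapRingHom G.t c := hc
  have := congrArg (fun q => Polynomial.coeff q j) h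
  simpa [coeff_map] using! this

section

attribute [local instance] Polynomial.algebra

/-- The presentation of the polynomial groupoid. -/
noncomputable def polyPres (p : ProjPres A G.SB) : ProjPres A[X] G.poly.SB :=
  (p.baseChange A[X] G.SB[X] : ProjPres A[X] G.SB[X])

end

theorem exists_algHom_factor {A M k D : Type u} [CommRing A] [CommRing M] [Algebra A M] [Module.Finite A M]
    [Field k] [IsAlgClosed k] [Algebra A k] [CommRing D] [IsDomain D] (c : k →+* D) (θ : M →+* D)
    (hθ : θ.comp (algebraMap A M) = c.comp (algebraMap A k)) :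
    ∃ r : k ⊗[A] M →ₐ[k] k, ∀ b : M, θ b = c (r ((1 : k) ⊗ₜ[A] b)) := by
  letI : Algebra k D := c.toAlgebra
  letI : Algebra A D := (c.comp (algebraMap A k)).toAlgebra
  haveI : IsScalarTower A k D := IsScalarTower.of_algebraMap_eq fun _ => rfl
  let Θ : k ⊗[A] M →ₐ[k] D := Algebra.TensorProduct.lift (Algebra.ofId k D)
    { θ with commutes' := fun a => RingHom.congr_fun hθ a } fun _ _ => .all ..
  have : Module.Finite k Θ.range := Module.Finite.range Θ.toLinearMap
  obtain ⟨-, hsurj⟩ := IsAlgClosed.algebraMap_bijective_of_isIntegral (k := k) (K := Θ.range)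
  let E : k ≃ₐ[k] Θ.range := AlgEquiv.ofBijective (Algebra.ofId k Θ.range)
    ⟨(algebraMap k Θ.range).injective, hsurj⟩
  refine ⟨E.symm.toAlgHom.comp Θ.rangeRestrict, fun b => ?_⟩
  have h1 : algebraMap k Θ.range (E.symm (Θ.rangeRestrict ((1 : k) ⊗ₜ[A] b))) = Θ.rangeRestrict ((1 : k) ⊗ₜ[A] b) :=
    E.apply_symm_apply _
  have h2 := congrArg Subtype.val h1
  rw [Subalgebra.coe_algebraMap] at h2
  refine (Eq.trans ?_ h2.symm)
  show θ b = Θ ((1 : k) ⊗ₜ[A] b)
  simp [Θ]

/-- Two points with values in an algebraically closed field with the same image are joined by an arrow. -/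
theorem exists_point_of_eq (p : ProjPres A G.SB) {k : Type u} [Field k] [IsAlgClosed k] (x₀ x₁ : A →+* k)
    (h : ∀ a ∈ G.invariants, x₀ a = x₁ a) : ∃ r : B →+* k, r.comp G.t = x₀ ∧ r.comp G.s = x₁ := by
  classical
  by_contra hno
  push Not at hno
  letI : Algebra A k := x₁.toAlgebra
  let F := k ⊗[A] G.SB
  letI := Algebra.TensorProduct.rightAlgebra (R := A) (A := k) (B := G.SB)
  have : Module.Finite A G.SB := Module.Finite.of_surjective p.proj fun b => ⟨p.sect b, p.proj_sect b⟩
  have : Fintype (F →ₐ[k] k) := minpoly.AlgHom.fintype k F k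
  let y : (F →ₐ[k] k) → A →+* k := fun r => (r.toRingHom.comp (algebraMap G.SB F)).comp G.t
  have hy : ∀ r, ∃ a, x₀ a ≠ y r a := fun r => by
    by_contra hall
    push Not at hall
    refine hno (r.toRingHom.comp (algebraMap G.SB F)) (RingHom.ext fun a => (hall a).symm) (RingHom.ext fun a => ?_)
    show r (algebraMap G.SB F (algebraMap A G.SB a)) = algebraMap A k a
    rw [← IsScalarTower.algebraMap_apply, IsScalarTower.algebraMap_apply A k F, r.commutes]
    rfl
  choose a ha using hy
  let ix := Fintype.equivFin (F →ₐ[k] k)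
  let f : A[X] := 1 + ∑ r, C (a r) * X ^ ((ix r : ℕ) + 1)
  have hcoeff : ∀ (x : A →+* k) r, ((mapRingHom x) f).coeff ((ix r : ℕ) + 1) = x (a r) := fun x r => by
    simp only [f, map_add, map_one, map_sum, map_mul, map_pow, coe_mapRingHom, Polynomial.map_C, Polynomial.map_X,
      Polynomial.coeff_add, finsetSum_coeff, coeff_C_mul, coeff_X_pow, coeff_one]
    rw [Finset.sum_eq_single r]
    · simp
    · intro r' _ hr'
      rw [if_neg, mul_zero]
      exact fun e => hr' (ix.injective (Fin.ext (by omega)))
    · simp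
  have hne : ∀ r, mapRingHom x₀ f ≠ mapRingHom (y r) f := fun r e => ha r (by
    rw [← hcoeff x₀ r, ← hcoeff (y r) r, e])
  have hne0 : mapRingHom x₀ f ≠ 0 := fun e => by
    have h0 : (mapRingHom x₀ f).coeff 0 = 1 := by
      simp [f, Polynomial.coeff_one, Polynomial.finsetSum_coeff, map_sum, coeff_X_pow]
    rw [e, coeff_zero] at h0
    exact zero_ne_one h0
  set p' := G.polyPres p
  let z : G.poly.SB := G.poly.t f
  set χ := p'.charpoly z with hχ
  set ρ := mapRingHom x₀ f
  have hroot : (χ.map (mapRingHom x₁)).eval ρ = 0 := by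
    have e : χ.map (mapRingHom x₁) = χ.map (mapRingHom x₀) := by
      refine Polynomial.ext fun j => ?_
      rw [coeff_map, coeff_map]
      refine Polynomial.ext fun l => ?_
      simp only [coe_mapRingHom, coeff_map]
      exact (h _ (G.coeff_mem_invariants_of_poly (G.poly.charpoly_mem_invariants p' f j) l)).symm
    rw [e, Polynomial.eval_map]
    have h0 : G.poly.epsilon (Polynomial.aeval z χ) = G.poly.epsilon 0 := congrArg _ (p'.aeval_charpoly z)
    rw [map_zero, ← Polynomial.aeval_algHom_apply,
      show G.poly.epsilon z = f from RingHom.congr_fun G.poly.e_t f, Polynomial.coe_aeval_eq_eval] at h0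
    have := congrArg (mapRingHom x₀) h0
    rwa [map_zero, ← Polynomial.eval₂_hom] at this
  letI : Algebra A[X] k[X] := (mapRingHom x₁).toAlgebra
  let P := k[X] ⊗[A[X]] G.poly.SB
  letI := Algebra.TensorProduct.rightAlgebra (R := A[X]) (A := k[X]) (B := G.poly.SB)
  let pk := p'.baseChange k[X] P
  let zk : P := algebraMap G.poly.SB P z
  have hdet : (Matrix.scalar _ ρ - pk.mat zk).det = 0 := by
    rw [← Matrix.eval_charpoly]
    show (pk.charpoly zk).eval ρ = 0
    rw [ProjPres.charpoly_baseChange]
    exact hroot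
  obtain ⟨v, hv0, hv⟩ := Matrix.exists_mulVec_eq_zero_iff.2 hdet
  have hv' : pk.sect (zk * pk.proj v) = ρ • v := by
    have h1 : Matrix.mulVec (pk.mat zk) v = ρ • v := by
      rw [Matrix.sub_mulVec, sub_eq_zero] at hv
      rw [← hv]
      funext i
      simp [Matrix.scalar_apply, Matrix.mulVec_diagonal]
    rw [ProjPres.mat, ← Matrix.toLin'_apply, Matrix.toLin'_toMatrix'] at h1
    exact h1
  have hw : zk * pk.proj v = ρ • pk.proj v := by
    have := congrArg pk.proj hv'
    rwa [pk.proj_sect, map_smul] at this
  have hsv : pk.sect (pk.proj v) = v := by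
    have e : ρ • pk.sect (pk.proj v) = ρ • v := by rw [← map_smul, ← hw, hv']
    funext i
    have := congrFun e i
    simp only [Pi.smul_apply, smul_eq_mul] at this
    exact mul_left_cancel₀ hne0 this
  let Q : k[X][X] := ∏ r, (X - C (mapRingHom (y r) f))
  have hQz : IsNilpotent (Polynomial.aeval zk Q) := by
    rw [← mem_nilradical, nilradical_eq_sInf, Ideal.mem_sInf]
    intro J hJ
    have : J.IsPrime := hJ
    let θ : G.SB →+* P ⧸ J :=
      (Ideal.Quotient.mk J).comp ((algebraMap G.poly.SB P).comp (C : B →+* B[X]))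
    let cJ : k →+* P ⧸ J := (Ideal.Quotient.mk J).comp ((algebraMap k[X] P).comp C)
    have hθ : θ.comp (algebraMap A G.SB) = cJ.comp (algebraMap A k) := RingHom.ext fun b => by
      show Ideal.Quotient.mk J (algebraMap G.poly.SB P (C (G.s b))) = Ideal.Quotient.mk J (algebraMap k[X] P (C (x₁ b)))
      rw [show C (G.s b) = algebraMap A[X] G.poly.SB (C b) from (Polynomial.map_C G.s).symm,
        show C (x₁ b) = algebraMap A[X] k[X] (C b) from (Polynomial.map_C x₁).symm,
        ← IsScalarTower.algebraMap_apply, ← IsScalarTower.algebraMap_apply]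
    obtain ⟨r, hr⟩ := @exists_algHom_factor A G.SB k (P ⧸ J) _ _ _ _ _ _ _ (Ideal.Quotient.commRing J) _ cJ θ hθ
    rw [← Ideal.Quotient.eq_zero_iff_mem]
    have hfac : Ideal.Quotient.mk J (Polynomial.aeval zk (X - C (mapRingHom (y r) f))) = 0 := by
      rw [map_sub, Polynomial.aeval_X, Polynomial.aeval_C, map_sub, sub_eq_zero]
      refine RingHom.congr_fun (f := (Ideal.Quotient.mk J).comp ((algebraMap G.poly.SB P).comp G.poly.t))
        (g := (Ideal.Quotient.mk J).comp ((algebraMap k[X] P).comp (mapRingHom (y r))))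
        (Polynomial.ringHom_ext (fun b => ?_) ?_) f
      · show Ideal.Quotient.mk J (algebraMap G.poly.SB P (mapRingHom G.t (C b))) =
          Ideal.Quotient.mk J (algebraMap k[X] P (mapRingHom (y r) (C b)))
        rw [coe_mapRingHom, coe_mapRingHom, Polynomial.map_C, Polynomial.map_C]
        exact hr (G.t b)
      · show Ideal.Quotient.mk J (algebraMap G.poly.SB P (mapRingHom G.t X)) =
          Ideal.Quotient.mk J (algebraMap k[X] P (mapRingHom (y r) X))
        rw [show mapRingHom G.t X = algebraMap A[X] G.poly.SB X from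
            (Polynomial.map_X G.t).trans (Polynomial.map_X G.s).symm,
          show mapRingHom (y r) X = algebraMap A[X] k[X] X from
            (Polynomial.map_X (y r)).trans (Polynomial.map_X x₁).symm,
          ← IsScalarTower.algebraMap_apply, ← IsScalarTower.algebraMap_apply]
    rw [map_prod, map_prod]
    exact Finset.prod_eq_zero (f := fun r' => Ideal.Quotient.mk J (Polynomial.aeval zk (X - C (mapRingHom (y r') f))))
      (Finset.mem_univ r) hfac
  obtain ⟨N, hN⟩ := hQz
  have hev : ∀ q : k[X][X], Polynomial.aeval zk q * pk.proj v = q.eval ρ • pk.proj v := by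
    intro q
    induction q using Polynomial.induction_on' with
    | add q₁ q₂ h₁ h₂ => rw [map_add, add_mul, h₁, h₂, eval_add, add_smul]
    | monomial n c =>
      rw [aeval_monomial, eval_monomial]
      induction n with
      | zero => simp [Algebra.smul_def]
      | succ n ih => rw [pow_succ, ← mul_assoc, mul_assoc _ zk, hw, mul_smul_comm, ih, smul_smul]; ring_nf
  have h1 := hev (Q ^ N)
  rw [map_pow, hN, zero_mul] at h1
  have h2 := congrArg pk.sect h1
  rw [map_zero, map_smul, hsv, eq_comm, smul_eq_zero] at h2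
  rcases h2 with h2 | h2
  · rw [eval_pow, eval_prod] at h2
    obtain ⟨r, -, hr⟩ := Finset.prod_eq_zero_iff.1 (pow_eq_zero_iff'.1 h2).1
    rw [eval_sub, eval_X, eval_C, sub_eq_zero] at hr
    exact hne r hr
  · exact hv0 h2

/-- Points with values in an algebraically closed field lift along the quotient map. -/
theorem exists_lift_point (p : ProjPres A G.SB) {k : Type u} [Field k] [IsAlgClosed k] (m : G.invariants →+* k) :
    ∃ x : A →+* k, x.comp G.invariants.subtype = m := by
  have := G.algebraIsIntegral p
  let P₀ := RingHom.ker m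
  have : P₀.IsPrime := RingHom.ker_isPrime m
  obtain ⟨q, -, hq, hqP⟩ := Ideal.exists_ideal_over_prime_of_isIntegral (S := A) P₀ ⊥ (fun c hc => by
    have h0 : c = 0 := Subtype.ext (by simpa using hc)
    rw [h0]; exact zero_mem _)
  let Rp := G.invariants ⧸ P₀
  let Sq := A ⧸ q
  let f : Rp →+* Sq := Ideal.quotientMap q (algebraMap G.invariants A) hqP.ge
  let _ := f.toAlgebra
  let _ : Algebra Rp k := (RingHom.kerLift m).toAlgebra
  have hfinj : Function.Injective f := Ideal.quotientMap_injective' hqP.le
  have : FaithfulSMul Rp Sq := (faithfulSMul_iff_algebraMap_injective _ _).2 hfinj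
  have : FaithfulSMul Rp k := (faithfulSMul_iff_algebraMap_injective _ _).2 (RingHom.kerLift_injective m)
  have : Algebra.IsIntegral Rp Sq := ⟨fun x => by
    obtain ⟨a, rfl⟩ := Ideal.Quotient.mk_surjective x
    obtain ⟨w, hw, hw'⟩ := Algebra.IsIntegral.isIntegral (R := G.invariants) a
    refine ⟨w.map (Ideal.Quotient.mk P₀), hw.map _, ?_⟩
    rw [Polynomial.eval₂_map,
      show (algebraMap Rp Sq).comp (Ideal.Quotient.mk P₀) = (Ideal.Quotient.mk q).comp (algebraMap G.invariants A)
        from RingHom.ext fun c => rfl, ← Polynomial.hom_eval₂, hw', map_zero]⟩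
  have : Algebra.IsAlgebraic Rp Sq := Algebra.IsIntegral.isAlgebraic
  let l : Sq →ₐ[Rp] k := IsAlgClosed.lift
  refine ⟨l.toRingHom.comp (Ideal.Quotient.mk q), RingHom.ext fun c => ?_⟩
  exact l.commutes (Ideal.Quotient.mk P₀ c)

end Groth.Agent.GrpdLib.RingGrpd
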