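import Groth.Agent.GrpdLib.OfScheme
import Groth.Agent.GrpdLib.Orbit

/-!
# Fibres of `U → Spec (invariants)` for an affine finite locally free groupoid scheme
-/

set_option autoImplicit false

universe u

open CategoryTheory CategoryTheory.Limits AlgebraicGeometry

namespace Groth.Agent.GrpdLib

set_option maxHeartbeats 400000

variable {S : Scheme.{u}} (G : Grpd.GroupoidScheme S) [IsAffine G.U] [IsAffine G.R]

theorem toQuot_eq : G.toQuot = G.U.isoSpec.hom ≫ Spec.map (CommRingCat.ofHom G.invariants.subtype) := rfl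

theorem pt_toQuot {T : Type u} [CommRing T] (α : Γ(G.U, ⊤) →+* T) :
    pt G.U α ≫ G.toQuot = Spec.map (CommRingCat.ofHom (α.comp G.invariants.subtype)) := by
  rw [toQuot_eq, pt, Category.assoc, Iso.inv_hom_id_assoc, ← Spec.map_comp, ← CommRingCat.ofHom_comp]

theorem toQuot_apply (x : G.U) :
    G.toQuot x = PrimeSpectrum.comap G.invariants.subtype (G.U.isoSpec.hom x) := rfl

theorem isoSpec_apply {X Y : Scheme.{u}} [IsAffine X] [IsAffine Y] (f : X ⟶ Y) (x : X) :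
    Y.isoSpec.hom (f x) = PrimeSpectrum.comap f.appTop.hom (X.isoSpec.hom x) := by
  rw [← Scheme.Hom.comp_apply, ← Scheme.isoSpec_hom_naturality, Scheme.Hom.comp_apply]
  rfl

theorem toQuot_surjective_and_fibres [IsFinite G.s] [Flat G.s] [LocallyOfFinitePresentation G.s] :
    (Function.Surjective G.toQuot ∧ ∀ u₀ u₁ : G.U, G.toQuot u₀ = G.toQuot u₁ ↔ ∃ r : G.R, G.t r = u₀ ∧ G.s r = u₁) ∧
      ∀ (k : Type u) [Field k] [IsAlgClosed k],
        (∀ m : Spec (CommRingCat.of k) ⟶ Spec (CommRingCat.of G.invariants),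
          ∃ x : Spec (CommRingCat.of k) ⟶ G.U, x ≫ G.toQuot = m) ∧
        ∀ x₀ x₁ : Spec (CommRingCat.of k) ⟶ G.U, x₀ ≫ G.toQuot = x₁ ≫ G.toQuot ↔
          ∃ r : Spec (CommRingCat.of k) ⟶ G.R, r ≫ G.t = x₀ ∧ r ≫ G.s = x₁ := by
  obtain ⟨p⟩ := nonempty_projPres G
  have hint := (ofScheme G).algebraIsIntegral p
  have hbU : Function.Bijective G.U.isoSpec.hom := G.U.isoSpec.hom.homeomorph.bijective
  have hbR : Function.Bijective G.R.isoSpec.hom := G.R.isoSpec.hom.homeomorph.bijective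
  have hst : ∀ (a : Γ(G.U, ⊤)), a ∈ G.invariants → G.s.appTop.hom a = G.t.appTop.hom a := fun a ha => ha
  refine ⟨⟨fun m => ?_, fun u₀ u₁ => ⟨fun h => ?_, ?_⟩⟩, fun k _ _ => ⟨fun m => ?_, fun x₀ x₁ => ⟨fun h => ?_, ?_⟩⟩⟩
  · have hsub : G.invariants.subtype.IsIntegral := fun f => (ofScheme G).isIntegralElem p f
    obtain ⟨q, hq⟩ := hsub.comap_surjective Subtype.val_injective m
    obtain ⟨x, hx⟩ := hbU.2 q
    exact ⟨x, by rw [toQuot_apply, hx]; exact hq⟩
  · rw [toQuot_apply, toQuot_apply] at h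
    obtain ⟨P, hP, hPs, hPt⟩ := @RingGrpd.exists_prime_of_comap_eq _ _ _ _ (ofScheme G) p (G.U.isoSpec.hom u₁).asIdeal
      (G.U.isoSpec.hom u₀).asIdeal (PrimeSpectrum.isPrime _) (PrimeSpectrum.isPrime _)
      (congrArg PrimeSpectrum.asIdeal h.symm)
    obtain ⟨r, hr⟩ := hbR.2 (⟨P, hP⟩ : PrimeSpectrum Γ(G.R, ⊤))
    refine ⟨r, hbU.1 ?_, hbU.1 ?_⟩
    · rw [isoSpec_apply, hr]; exact PrimeSpectrum.ext hPt
    · rw [isoSpec_apply, hr]; exact PrimeSpectrum.ext hPs
  · rintro ⟨r, rfl, rfl⟩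
    rw [toQuot_apply, toQuot_apply, isoSpec_apply, isoSpec_apply]
    exact (PrimeSpectrum.comap_comp_apply _ _ _).symm.trans
      ((congrArg (fun f => PrimeSpectrum.comap f _) (show G.t.appTop.hom.comp G.invariants.subtype =
        G.s.appTop.hom.comp G.invariants.subtype from RingHom.ext fun a => (hst a a.2).symm)).trans
        (PrimeSpectrum.comap_comp_apply _ _ _))
  · obtain ⟨x, hx⟩ := (ofScheme G).exists_lift_point p (Spec.preimage m).hom
    exact ⟨pt G.U x, by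
      rw [pt_toQuot, show x.comp G.invariants.subtype = (Spec.preimage m).hom from hx, CommRingCat.ofHom_hom,
        Spec.map_preimage]⟩
  · rw [← pt_ofPt x₀, ← pt_ofPt x₁, pt_toQuot, pt_toQuot] at h
    have h' := congrArg CommRingCat.Hom.hom (Spec.map_injective h)
    obtain ⟨r, hrt, hrs⟩ := (ofScheme G).exists_point_of_eq p (ofPt x₀) (ofPt x₁)
      fun a ha => RingHom.congr_fun h' ⟨a, ha⟩
    exact ⟨pt G.R r, by rw [← pt_appTop, ← pt_ofPt x₀]; exact congrArg _ hrt,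
      by rw [← pt_appTop, ← pt_ofPt x₁]; exact congrArg _ hrs⟩
  · rintro ⟨r, rfl, rfl⟩
    rw [← pt_ofPt r, ← pt_appTop G.t, ← pt_appTop G.s, pt_toQuot, pt_toQuot]
    exact congrArg (fun f => Spec.map (CommRingCat.ofHom f))
      (RingHom.ext fun a => congrArg (ofPt r) (hst a a.2).symm)

end Groth.Agent.GrpdLib
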