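import Groth.Agent.GrpdLib.QuotientGlobal
import Groth.Agent.GrpdLib.OrbitScheme

/-!
# The finite flat quotient of an affine equivalence relation scheme
-/

set_option autoImplicit false

universe u

open CategoryTheory CategoryTheory.Limits AlgebraicGeometry TensorProduct

namespace Groth.Agent.GrpdLib

set_option maxHeartbeats 800000

variable {S : Scheme.{u}} (G : Grpd.GroupoidScheme S) [IsAffine G.U] [IsAffine G.R]

theorem finite_flat_quotient_scheme [IsFinite G.s] [Flat G.s] [LocallyOfFinitePresentation G.s] [Mono G.j] :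
    (IsFinite G.toQuot ∧ Flat G.toQuot ∧ LocallyOfFinitePresentation G.toQuot) ∧
      ∃ φ : G.R ≅ pullback G.toQuot G.toQuot, φ.hom ≫ pullback.fst G.toQuot G.toQuot = G.t ∧
        φ.hom ≫ pullback.snd G.toQuot G.toQuot = G.s := by
  let H := ofScheme G
  have hfin : Module.Finite Γ(G.U, ⊤) H.SB := G.s.finite_appTop
  have hflat : Module.Flat Γ(G.U, ⊤) H.SB := HasRingHomProperty.appTop (P := @Flat) G.s inferInstance
  have hfp : Algebra.FinitePresentation Γ(G.U, ⊤) H.SB :=
    HasRingHomProperty.appTop (P := @LocallyOfFinitePresentation) G.s inferInstance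
  have := Module.FinitePresentation.of_finite_of_finitePresentation (R := Γ(G.U, ⊤)) (S := H.SB)
  have : Module.Projective Γ(G.U, ⊤) H.SB := Module.Flat.projective_of_finitePresentation
  obtain ⟨N, a, ha⟩ := H.exists_span_eq_top fun {T} _ α β hs ht => by
    refine pt_injective ((cancel_mono G.j).1 (pullback.hom_ext ?_ ?_))
    · simp only [Grpd.GroupoidScheme.j, Category.assoc, pullback.lift_fst]
      rw [← pt_appTop, ← pt_appTop]
      exact congrArg _ ht
    · simp only [Grpd.GroupoidScheme.j, Category.assoc, pullback.lift_snd]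
      rw [← pt_appTop, ← pt_appTop]
      exact congrArg _ hs
  obtain ⟨hA1, hA2, hA3, hbij⟩ := H.finite_flat_quotient a ha
  have hsub : G.invariants.subtype = algebraMap G.invariants Γ(G.U, ⊤) := rfl
  let p : Spec (CommRingCat.of Γ(G.U, ⊤)) ⟶ Spec (CommRingCat.of G.invariants) :=
    Spec.map (CommRingCat.ofHom (algebraMap G.invariants Γ(G.U, ⊤)))
  have hq : G.toQuot = G.U.isoSpec.hom ≫ p := toQuot_eq G
  refine ⟨⟨?_, ?_, ?_⟩, ?_⟩
  · have : IsFinite p := (IsFinite.SpecMap_iff _).2 (RingHom.finite_algebraMap.2 hA1)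
    rw [hq]; infer_instance
  · have : Flat p := (HasRingHomProperty.Spec_iff (P := @Flat)).2 (RingHom.flat_algebraMap_iff.2 hA2)
    rw [hq]; infer_instance
  · have : LocallyOfFinitePresentation p :=
      (HasRingHomProperty.Spec_iff (P := @LocallyOfFinitePresentation)).2 (RingHom.finitePresentation_algebraMap.2 hA3)
    rw [hq]; infer_instance
  have hst : G.t ≫ G.toQuot = G.s ≫ G.toQuot := by
    have h1 : ∀ f : G.R ⟶ G.U, f ≫ G.toQuot = G.R.isoSpec.hom ≫
        Spec.map (CommRingCat.ofHom (f.appTop.hom.comp G.invariants.subtype)) := fun f => by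
      rw [toQuot_eq, ← Scheme.isoSpec_hom_naturality_assoc, ← Spec.map_comp]
      rfl
    rw [h1, h1]
    exact congrArg (fun g => G.R.isoSpec.hom ≫ Spec.map (CommRingCat.ofHom g)) (RingHom.ext fun c => c.2.symm)
  let m : pullback G.toQuot G.toQuot ⟶ pullback p p :=
    pullback.map G.toQuot G.toQuot p p G.U.isoSpec.hom G.U.isoSpec.hom (𝟙 _)
      (by rw [Category.comp_id, hq]) (by rw [Category.comp_id, hq])
  let e := m ≫ (pullbackSpecIso G.invariants Γ(G.U, ⊤) Γ(G.U, ⊤)).hom
  let L := pullback.lift G.t G.s hst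
  let ψ : CommRingCat.of (Γ(G.U, ⊤) ⊗[G.invariants] Γ(G.U, ⊤)) ⟶ Γ(G.R, ⊤) :=
    CommRingCat.ofHom (S := Γ(G.R, ⊤)) (H.pairMap.toRingHom : _ →+* H.SB)
  have hψ : IsIso ψ :=
    (ConcreteCategory.isIso_iff_bijective ψ).2 hbij
  have hL : L ≫ e = G.R.isoSpec.hom ≫ Spec.map ψ := by
    rw [← cancel_mono (pullbackSpecIso G.invariants Γ(G.U, ⊤) Γ(G.U, ⊤)).inv]
    simp only [e, Category.assoc, Iso.hom_inv_id, Category.comp_id]
    apply pullback.hom_ext
    · show (L ≫ m) ≫ pullback.fst p p = _
      rw [Category.assoc, show m ≫ pullback.fst p p = pullback.fst _ _ ≫ G.U.isoSpec.hom from pullback.lift_fst _ _ _,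
        ← Category.assoc L, show L ≫ pullback.fst _ _ = G.t from pullback.lift_fst _ _ _, Category.assoc,
        Category.assoc, pullbackSpecIso_inv_fst]
      rw [← Scheme.isoSpec_hom_naturality, ← Spec.map_comp]
      refine congrArg (fun g => G.R.isoSpec.hom ≫ Spec.map g) (CommRingCat.hom_ext (RingHom.ext fun x => ?_))
      exact ((H.pairMap_tmul x 1).trans ((congrArg _ (map_one _)).trans (mul_one _))).symm
    · show (L ≫ m) ≫ pullback.snd p p = _
      rw [Category.assoc, show m ≫ pullback.snd p p = pullback.snd _ _ ≫ G.U.isoSpec.hom from pullback.lift_snd _ _ _,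
        ← Category.assoc L, show L ≫ pullback.snd _ _ = G.s from pullback.lift_snd _ _ _, Category.assoc,
        Category.assoc, pullbackSpecIso_inv_snd]
      rw [← Scheme.isoSpec_hom_naturality, ← Spec.map_comp]
      refine congrArg (fun g => G.R.isoSpec.hom ≫ Spec.map g) (CommRingCat.hom_ext (RingHom.ext fun x => ?_))
      exact ((H.pairMap_tmul 1 x).trans ((congrArg (· * _) (map_one _)).trans (one_mul _))).symm
  have : IsIso (L ≫ e) := hL ▸ inferInstance
  have : IsIso L := IsIso.of_isIso_comp_right L e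
  exact ⟨asIso L, pullback.lift_fst _ _ _, pullback.lift_snd _ _ _⟩

end Groth.Agent.GrpdLib
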