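import Groth.Agent.GrpdLib.Coequalizer
import Groth.Agent.GrpdLib.QuotientScheme
import Groth.Prelude.Def_Mor2

/-!
# The quotient of an equivalence relation: cartesian square, finite locally free projection
-/

set_option autoImplicit false

universe u

open CategoryTheory CategoryTheory.Limits AlgebraicGeometry

namespace Groth.Agent.GrpdLib

set_option maxHeartbeats 800000

variable {S : Scheme.{u}} {G : Grpd.GroupoidScheme S}

theorem arrows_ext [Mono G.j] {T : Scheme.{u}} (a b : T ⟶ G.R) (ht : a ≫ G.t = b ≫ G.t) (hs : a ≫ G.s = b ≫ G.s) :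
    a = b := by
  refine (cancel_mono G.j).1 (pullback.hom_ext ?_ ?_)
  · rw [Category.assoc, Category.assoc, Grpd.GroupoidScheme.j, pullback.lift_fst, ht]
  · rw [Category.assoc, Category.assoc, Grpd.GroupoidScheme.j, pullback.lift_snd, hs]

instance mono_restrict_j [Mono G.j] (W : G.U.Opens) (hW : G.s ⁻¹ᵁ W = G.t ⁻¹ᵁ W) : Mono (restrict G W hW).j := by
  refine ⟨fun {T} (a b : T ⟶ (G.s ⁻¹ᵁ W).toScheme) h => ?_⟩
  have ht : a ≫ restrictT G W hW = b ≫ restrictT G W hW := by
    have hj : (restrict G W hW).j ≫ pullback.fst _ _ = restrictT G W hW := pullback.lift_fst _ _ _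
    have := congrArg (· ≫ pullback.fst _ _) h
    exact (congrArg (a ≫ ·) hj).symm.trans ((Category.assoc _ _ _).symm.trans
      (this.trans ((Category.assoc _ _ _).trans (congrArg (b ≫ ·) hj))))
  have hs : a ≫ (G.s ∣_ W) = b ≫ (G.s ∣_ W) := by
    have hj : (restrict G W hW).j ≫ pullback.snd _ _ = G.s ∣_ W := pullback.lift_snd _ _ _
    have := congrArg (· ≫ pullback.snd _ _) h
    exact (congrArg (a ≫ ·) hj).symm.trans ((Category.assoc _ _ _).symm.trans
      (this.trans ((Category.assoc _ _ _).trans (congrArg (b ≫ ·) hj))))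
  refine (cancel_mono (G.s ⁻¹ᵁ W).ι).1 (arrows_ext _ _ ?_ ?_)
  · rw [Category.assoc, Category.assoc, ← restrictT_ι G W hW, ← Category.assoc, ht, Category.assoc]
  · rw [Category.assoc, Category.assoc, ← morphismRestrict_ι, ← Category.assoc, hs, Category.assoc]

variable [IsFinite G.s] [Flat G.s] [LocallyOfFinitePresentation G.s] (hb : OrbitsInAffines G) [Mono G.j]

theorem InvOpen.finite_flat_q (i : InvOpen G) : IsFinite i.q ∧ Flat i.q ∧ LocallyOfFinitePresentation i.q :=
  (finite_flat_quotient_scheme i.grpd).1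

theorem InvOpen.exists_arrow (i : InvOpen G) {T : Scheme.{u}} (a b : T ⟶ i.W.toScheme) (h : a ≫ i.q = b ≫ i.q) :
    ∃ r : T ⟶ G.R, r ≫ G.t = a ≫ i.W.ι ∧ r ≫ G.s = b ≫ i.W.ι := by
  obtain ⟨φ, hφt, hφs⟩ := (finite_flat_quotient_scheme i.grpd).2
  obtain ⟨(r : T ⟶ (G.s ⁻¹ᵁ i.W).toScheme), hrt, hrs⟩ :
      ∃ r : T ⟶ i.grpd.R, r ≫ i.grpd.t = a ∧ r ≫ i.grpd.s = b :=
    ⟨(pullback.lift (f := i.grpd.toQuot) (g := i.grpd.toQuot) a b h : T ⟶ _) ≫ φ.inv,
      by rw [← hφt, Category.assoc, Iso.inv_hom_id_assoc]; exact pullback.lift_fst _ _ _,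
      by rw [← hφs, Category.assoc, Iso.inv_hom_id_assoc]; exact pullback.lift_snd _ _ _⟩
  replace hrt : r ≫ restrictT G i.W i.inv = a := hrt
  replace hrs : r ≫ (G.s ∣_ i.W) = b := hrs
  exact ⟨r ≫ (G.s ⁻¹ᵁ i.W).ι, by rw [Category.assoc, ← restrictT_ι G i.W i.inv, ← Category.assoc, hrt],
    by rw [Category.assoc, ← morphismRestrict_ι, ← Category.assoc, hrs]⟩

set_option backward.isDefEq.respectTransparency.types false in
theorem finLocFree_proj : Mor2.IsFinLocFree (proj hb) := by
  have key : ∀ (P : MorphismProperty Scheme.{u}) [IsZariskiLocalAtTarget P] [P.RespectsIso],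
      (∀ i : InvOpen G, P i.q) → P (proj hb) := fun P _ _ h => by
    refine IsZariskiLocalAtTarget.of_openCover (P := P) (Scheme.IsLocallyDirected.openCover (quotDiagram G))
      fun (i : InvOpen G) => ?_
    let sq := (isPullback_proj hb i).flip
    show P (pullback.snd (proj hb) i.toY)
    rw [← sq.isoPullback_inv_snd]
    exact (P.cancel_left_of_respectsIso _ _).2 (h i)
  exact ⟨key @IsFinite fun i => i.finite_flat_q.1, key @Flat fun i => i.finite_flat_q.2.1,
    key @LocallyOfFinitePresentation fun i => i.finite_flat_q.2.2⟩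

theorem isPullback_arrows : IsPullback G.t G.s (proj hb) (proj hb) := by
  let P := pullback (proj hb) (proj hb)
  let L : G.R ⟶ P := pullback.lift G.t G.s (cond_proj hb)
  have hLt : L ≫ pullback.fst _ _ = G.t := pullback.lift_fst _ _ _
  have hLs : L ≫ pullback.snd _ _ = G.s := pullback.lift_snd _ _ _
  have hmono : Mono L := ⟨fun a b h => arrows_ext a b
    (by rw [← hLt, ← Category.assoc, h, Category.assoc]) (by rw [← hLs, ← Category.assoc, h, Category.assoc])⟩
  let f : P ⟶ Quot G := pullback.fst _ _ ≫ proj hb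
  have hf : f = pullback.snd _ _ ≫ proj hb := pullback.condition
  let D : InvOpen G → P.Opens := fun i => f ⁻¹ᵁ i.toY.opensRange
  have hD : iSup D = ⊤ := by
    refine TopologicalSpace.Opens.ext (Set.eq_univ_of_forall fun z => ?_)
    obtain ⟨i, yi, hyi⟩ := Scheme.IsLocallyDirected.ι_jointly_surjective (quotDiagram G) (f z)
    exact TopologicalSpace.Opens.mem_iSup.2 ⟨i, ⟨yi, hyi⟩⟩
  have hiso : MorphismProperty.isomorphisms Scheme L := by
    refine IsZariskiLocalAtTarget.of_iSup_eq_top (P := MorphismProperty.isomorphisms Scheme) D hD fun i => ?_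
    have hmem : ∀ (pr : P ⟶ G.U), pr ≫ proj hb = f → Set.range ((D i).ι ≫ pr) ⊆ Set.range i.W.ι := by
      rintro pr hpr _ ⟨z, rfl⟩
      rw [Scheme.Opens.range_ι]
      obtain ⟨y, hy⟩ := z.2
      refine mem_of_proj_eq hb i y _ ?_
      rw [Scheme.Hom.comp_apply, ← Scheme.Hom.comp_apply pr, hpr]
      exact hy.symm
    let a := IsOpenImmersion.lift i.W.ι ((D i).ι ≫ pullback.fst _ _) (hmem _ rfl)
    let b := IsOpenImmersion.lift i.W.ι ((D i).ι ≫ pullback.snd _ _) (hmem _ hf.symm)
    have ha : a ≫ i.W.ι = (D i).ι ≫ pullback.fst _ _ := IsOpenImmersion.lift_fac _ _ _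
    have hb' : b ≫ i.W.ι = (D i).ι ≫ pullback.snd _ _ := IsOpenImmersion.lift_fac _ _ _
    obtain ⟨r, hrt, hrs⟩ := i.exists_arrow a b (by
      rw [← cancel_mono i.toY, Category.assoc, Category.assoc, ← ι_proj hb i, ← Category.assoc, ← Category.assoc,
        ha, hb', Category.assoc, Category.assoc, ← hf])
    have hrL : r ≫ L = (D i).ι := pullback.hom_ext
      (by rw [Category.assoc, pullback.lift_fst, hrt, ha]) (by rw [Category.assoc, pullback.lift_snd, hrs, hb'])
    have hr : Set.range r ⊆ Set.range (L ⁻¹ᵁ D i).ι := by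
      rintro _ ⟨z, rfl⟩
      rw [Scheme.Opens.range_ι]
      show L (r z) ∈ D i
      rw [← Scheme.Hom.comp_apply, hrL]
      exact z.2
    have hσ : IsOpenImmersion.lift (L ⁻¹ᵁ D i).ι r hr ≫ (L ∣_ D i) = 𝟙 _ := by
      rw [← cancel_mono (D i).ι, Category.assoc, morphismRestrict_ι, IsOpenImmersion.lift_fac_assoc, hrL,
        Category.id_comp]
    have : IsSplitEpi (L ∣_ D i) := IsSplitEpi.mk' ⟨_, hσ⟩
    have : Mono (L ∣_ D i) := by
      have : Mono ((L ∣_ D i) ≫ (D i).ι) := by rw [morphismRestrict_ι]; infer_instance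
      exact mono_of_mono (L ∣_ D i) (D i).ι
    exact isIso_of_mono_of_isSplitEpi (L ∣_ D i)
  have : IsIso L := hiso
  exact .of_iso_pullback ⟨cond_proj hb⟩ (asIso L) (pullback.lift_fst _ _ _) (pullback.lift_snd _ _ _)

end Groth.Agent.GrpdLib
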