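import Groth.Agent.ProjLib.IdealComap
import Mathlib.AlgebraicGeometry.IdealSheaf.Functorial
import Mathlib.AlgebraicGeometry.Morphisms.ClosedImmersion

/-! Ideal sheaves and open immersions; gluing along clopen pieces. -/

universe u

set_option autoImplicit false
set_option backward.isDefEq.respectTransparency.types false

open CategoryTheory CategoryTheory.Limits AlgebraicGeometry TopologicalSpace

namespace Groth.Agent.GrpdLib.IdealGlue

variable {X Y : Scheme.{u}}

theorem ideal_comap_openImm (j : X ⟶ Y) [IsOpenImmersion j] (I : Y.IdealSheafData) (W : X.affineOpens) :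
    (I.comap j).ideal W = (I.ideal ⟨j ''ᵁ W.1, W.2.image_of_isOpenImmersion j⟩).map
      (j.appIso W.1).hom.hom := by
  rw [ProjLib.comap_ideal_eq I j ⟨j ''ᵁ W.1, W.2.image_of_isOpenImmersion j⟩ W (j.preimage_image_eq W.1).ge,
    Scheme.Hom.appIso_hom']

theorem map_iInf_of_bijective {A B : Type u} [CommRing A] [CommRing B] (f : A →+* B) (hf : Function.Bijective f)
    {ι : Type*} (K : ι → Ideal A) : (⨅ k, K k).map f = ⨅ k, (K k).map f := by
  have h : ∀ L : Ideal A, L.map f = L.comap ((RingEquiv.ofBijective f hf).symm : B →+* A) := fun L =>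
    Ideal.map_comap_of_equiv (RingEquiv.ofBijective f hf)
  simp only [h, Ideal.comap_iInf]

theorem comap_iInf (j : X ⟶ Y) [IsOpenImmersion j] {ι : Type*} [Finite ι] (I : ι → Y.IdealSheafData) :
    (⨅ k, I k).comap j = ⨅ k, (I k).comap j := by
  refine Scheme.IdealSheafData.ext (funext fun W => ?_)
  rw [ideal_comap_openImm]
  simp only [Scheme.IdealSheafData.ideal_iInf, iInf_apply, ideal_comap_openImm]
  exact map_iInf_of_bijective _ (ConcreteCategory.bijective_of_isIso (C := CommRingCat) (j.appIso W.1).hom) _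

theorem eq_of_comap_eq {ι : Type*} (U : ι → Y.Opens) (hU : ⨆ k, U k = ⊤) {I J : Y.IdealSheafData}
    (h : ∀ k, I.comap (U k).ι = J.comap (U k).ι) : I = J := by
  refine Scheme.IdealSheafData.ext_of_iSup_eq_top
    (fun p : {p : ι × Y.affineOpens // (p.2 : Y.Opens) ≤ U p.1} => p.1.2) (eq_top_iff.2 fun x _ => ?_) ?_
  · obtain ⟨k, hk⟩ := Opens.mem_iSup.1 (hU ▸ Opens.mem_top x : x ∈ ⨆ k, U k)
    obtain ⟨W, hW, hxW, hWU⟩ := exists_isAffineOpen_mem_and_subset (x := x) (U := U k) hk
    exact Opens.mem_iSup.2 ⟨⟨(k, ⟨W, hW⟩), hWU⟩, hxW⟩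
  · rintro ⟨⟨k, V⟩, hV⟩
    let W : (U k).toScheme.affineOpens := ⟨(U k).ι ⁻¹ᵁ V.1, by
      refine IsAffineOpen.preimage_of_isOpenImmersion V.2 _ ?_
      rw [Scheme.Opens.opensRange_ι]; exact hV⟩
    have hVW : (⟨(U k).ι ''ᵁ W.1, W.2.image_of_isOpenImmersion _⟩ : Y.affineOpens) = V := by
      apply Subtype.ext
      show (U k).ι ''ᵁ ((U k).ι ⁻¹ᵁ V.1) = V.1
      rw [Scheme.Hom.image_preimage_eq_opensRange_inf, Scheme.Opens.opensRange_ι, inf_eq_right]
      exact hV
    have hh := congrArg (fun K : (U k).toScheme.IdealSheafData => K.ideal W) (h k)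
    simp only [ideal_comap_openImm] at hh
    have hb := ConcreteCategory.bijective_of_isIso (C := CommRingCat) ((U k).ι.appIso W.1).hom
    have := congrArg (Ideal.comap ((U k).ι.appIso W.1).hom.hom) hh
    rw [Ideal.comap_map_of_bijective _ hb, Ideal.comap_map_of_bijective _ hb] at this
    show I.ideal V = J.ideal V
    have key : ∀ P : Y.affineOpens, P = V → I.ideal P = J.ideal P → I.ideal V = J.ideal V := by
      rintro P rfl h'; exact h'
    exact key _ hVW this

/-- Gluing along a finite clopen decomposition: a sheaf with prescribed restrictions. -/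
theorem exists_glue {ι : Type*} [Finite ι] (U : ι → Y.Opens) (hdis : Pairwise fun k l => Disjoint (U k) (U l))
    (hU : ⨆ k, U k = ⊤) (I : ∀ k, (U k).toScheme.IdealSheafData) :
    ∃ J : Y.IdealSheafData, ∀ k, J.comap (U k).ι = I k := by
  have hclosed : ∀ k, IsClosedImmersion (U k).ι := fun k => by
    refine IsClosedImmersion.of_isPreimmersion _ ?_
    rw [Scheme.Opens.range_ι, ← isOpen_compl_iff]
    convert (⨆ l, ⨆ _ : l ≠ k, U l).isOpen using 1
    ext x
    simp only [Set.mem_compl_iff, SetLike.mem_coe, Opens.mem_iSup, exists_prop]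
    constructor
    · intro hx
      obtain ⟨l, hl⟩ := Opens.mem_iSup.1 (hU ▸ Opens.mem_top x : x ∈ ⨆ k, U k)
      exact ⟨l, fun e => hx (e ▸ hl), hl⟩
    · rintro ⟨l, hne, hl⟩ hk
      exact Set.disjoint_left.1 (Opens.coe_disjoint.2 (hdis hne)) hl hk
  refine ⟨⨅ k, (I k).map (U k).ι, fun k => ?_⟩
  rw [comap_iInf]
  refine le_antisymm ((iInf_le _ k).trans (Scheme.IdealSheafData.comap_map_le _ _)) (le_iInf fun l => ?_)
  by_cases hlk : l = k
  · subst hlk
    have : ((I l).map (U l).ι) = ((I l).subschemeι ≫ (U l).ι).ker := rfl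
    rw [this, ← Scheme.IdealSheafData.ker_fst_of_isClosedImmersion]
    have sq : IsPullback (I l).subschemeι (𝟙 _) (U l).ι ((I l).subschemeι ≫ (U l).ι) :=
      IsPullback.of_vert_isIso_mono ⟨by rw [Category.id_comp]⟩
    rw [← sq.isoPullback_inv_fst, Scheme.Hom.ker_comp_of_isIso, Scheme.IdealSheafData.ker_subschemeι]
  · refine le_top.trans (le_of_eq (Eq.symm ?_))
    rw [← Scheme.IdealSheafData.support_eq_bot_iff, Scheme.IdealSheafData.support_comap]
    ext x
    refine iff_of_false (fun hx => ?_) id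
    have hx' : (U k).ι x ∈ closure (Set.range ((I l).subschemeι ≫ (U l).ι)) := by
      rw [← Scheme.Hom.support_ker]; exact hx
    have := hclosed l
    rw [((I l).subschemeι ≫ (U l).ι).isClosedEmbedding.isClosed_range.closure_eq] at hx'
    obtain ⟨y, hy⟩ := hx'
    have h1 : (U k).ι x ∈ U l := by
      rw [← hy]
      exact ((I l).subschemeι y).2
    exact Set.disjoint_left.1 (Opens.coe_disjoint.2 (hdis hlk)) h1 x.2

end Groth.Agent.GrpdLib.IdealGlue
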