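import Groth.Agent.GrpdLib.FitStrat
import Groth.Agent.GrpdLib.IdealGlue
import Groth.Agent.GrpdLib.InvariantAffine
import Groth.Agent.H8Lim.IdealDescent
import Groth.Agent.S7457
import Groth.Prelude.Def_Mor2
import Mathlib.AlgebraicGeometry.Morphisms.QuasiSeparated
import Mathlib.RingTheory.Ideal.MinimalPrime.Basic

/-! Groupoids with finite source and target near generic points. -/

universe u

set_option autoImplicit false
set_option backward.isDefEq.respectTransparency.types false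

open CategoryTheory CategoryTheory.Limits AlgebraicGeometry TopologicalSpace

namespace Groth.Agent.GrpdLib.GenericThick

/-- Near a generic point lying in the zero locus of a finitely generated ideal, that zero locus is everything. -/
theorem exists_nhd_le_zeroLocus {R : Type u} [CommRing R] (p : Ideal R) [p.IsPrime]
    (hp : ∀ q : Ideal R, q.IsPrime → q ≤ p → q = p) (K : Ideal R) (hK : K.FG) (hKp : K ≤ p) :
    ∃ h ∉ p, ∀ q : Ideal R, q.IsPrime → h ∉ q → K ≤ q := by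
  classical
  have key : ∀ g ∈ p, ∃ h ∉ p, ∃ n : ℕ, h * g ^ n = 0 := by
    intro g hg
    by_contra hcon
    push Not at hcon
    let M : Submonoid R := p.primeCompl ⊔ Submonoid.powers g
    have hd : Disjoint ((⊥ : Ideal R) : Set R) M := by
      rw [Set.disjoint_left]
      intro x hx hxM
      obtain ⟨h, hh, y, hy, rfl⟩ := Submonoid.mem_sup.1 hxM
      obtain ⟨n, rfl⟩ := hy
      exact hcon h hh n hx
    obtain ⟨q, hq, -, hdis⟩ := Ideal.exists_le_prime_disjoint ⊥ M hd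
    have hqp : q ≤ p := fun x hx => by_contra fun hxp =>
      Set.disjoint_left.1 hdis hx (Submonoid.mem_sup_left hxp)
    have := hp q hq hqp
    exact Set.disjoint_left.1 hdis (this ▸ hg : g ∈ q) (Submonoid.mem_sup_right ⟨1, pow_one g⟩)
  obtain ⟨s, rfl⟩ := hK
  choose h hh n hn using fun g : s => key g.1 (hKp (Ideal.subset_span g.2))
  refine ⟨∏ g : s, h g, fun hmem => ?_, fun q hq hq' => Ideal.span_le.2 fun g hg => ?_⟩
  · obtain ⟨g, -, hg⟩ := (Ideal.IsPrime.prod_mem_iff.1 hmem)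
    exact hh g hg
  · have h0 : h ⟨g, hg⟩ * g ^ n ⟨g, hg⟩ ∈ q := by rw [hn ⟨g, hg⟩]; exact zero_mem _
    refine hq.mem_of_pow_mem _ ((hq.mem_or_mem h0).resolve_left fun hc => hq' ?_)
    exact Ideal.mem_of_dvd _ (Finset.dvd_prod_of_mem h (Finset.mem_univ (⟨g, hg⟩ : s))) hc

theorem mem_basicOpen_iff_notMem {X : Scheme.{u}} {U : X.Opens} (hU : IsAffineOpen U) (x : U) (f : Γ(X, U)) :
    x.1 ∈ X.basicOpen f ↔ f ∉ (hU.primeIdealOf x).asIdeal := by
  have h : hU.primeIdealOf x ∈ hU.fromSpec ⁻¹ᵁ X.basicOpen f ↔ f ∉ (hU.primeIdealOf x).asIdeal := by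
    rw [hU.fromSpec_preimage_basicOpen]; rfl
  rw [← h]
  show x.1 ∈ X.basicOpen f ↔ hU.fromSpec (hU.primeIdealOf x) ∈ X.basicOpen f
  rw [hU.fromSpec_primeIdealOf]

theorem primeIdealOf_eq_of_le {X : Scheme.{u}} {U : X.Opens} (hU : IsAffineOpen U) (x : U)
    (hx : ∀ y : X, y ⤳ x.1 → y = x.1) (q : Ideal Γ(X, U)) (hq : q.IsPrime)
    (hqp : q ≤ (hU.primeIdealOf x).asIdeal) : q = (hU.primeIdealOf x).asIdeal := by
  have h1 : hU.fromSpec ⟨q, hq⟩ ⤳ hU.fromSpec (hU.primeIdealOf x) :=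
    ((PrimeSpectrum.le_iff_specializes ⟨q, hq⟩ _).1 hqp).map hU.fromSpec.continuous
  rw [hU.fromSpec_primeIdealOf] at h1
  exact congrArg PrimeSpectrum.asIdeal
    (hU.fromSpec.isOpenEmbedding.injective ((hx _ h1).trans (hU.fromSpec_primeIdealOf x).symm))

theorem exists_open_subset_support {X : Scheme.{u}} (I : X.IdealSheafData) (x : X)
    (hx : ∀ y : X, y ⤳ x → y = x) (hI : ∀ U : X.affineOpens, (I.ideal U).FG) (hxI : x ∈ I.support) :
    ∃ N : X.Opens, x ∈ N ∧ (N : Set X) ⊆ I.support := by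
  obtain ⟨U, hU, hxU, -⟩ := exists_isAffineOpen_mem_and_subset (x := x) (U := ⊤) trivial
  let P := hU.primeIdealOf ⟨x, hxU⟩
  have hP : ∀ q : Ideal Γ(X, U), q.IsPrime → q ≤ P.asIdeal → q = P.asIdeal :=
    primeIdealOf_eq_of_le hU ⟨x, hxU⟩ hx
  rw [Scheme.IdealSheafData.mem_support_iff_of_mem (U := ⟨U, hU⟩) hxU, Scheme.mem_zeroLocus_iff] at hxI
  obtain ⟨h, hh, hq⟩ := exists_nhd_le_zeroLocus P.asIdeal hP (I.ideal ⟨U, hU⟩) (hI _) fun a ha => by
    by_contra hap
    exact hxI a ha ((mem_basicOpen_iff_notMem hU ⟨x, hxU⟩ _).2 hap)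
  refine ⟨X.basicOpen h, (mem_basicOpen_iff_notMem hU ⟨x, hxU⟩ _).2 hh, fun y hy => ?_⟩
  have hyU : y ∈ U := X.basicOpen_le h hy
  rw [SetLike.mem_coe, Scheme.IdealSheafData.mem_support_iff_of_mem (U := ⟨U, hU⟩) hyU, Scheme.mem_zeroLocus_iff]
  intro a ha hya
  exact (mem_basicOpen_iff_notMem hU ⟨y, hyU⟩ _).1 hya
    (hq _ (hU.primeIdealOf ⟨y, hyU⟩).isPrime ((mem_basicOpen_iff_notMem hU ⟨y, hyU⟩ _).1 hy) ha)

/-- A generic point outside a quasi-compact open of an affine scheme has a basic neighbourhood disjoint from it. -/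
theorem exists_affine_disjoint {X : Scheme.{u}} [QuasiSeparatedSpace X] (A : X.Opens) (hA : IsAffineOpen A)
    (x : X) (hx : ∀ y : X, y ⤳ x → y = x) (hxA : x ∉ A) (W : X.Opens) (hxW : x ∈ W) :
    ∃ B : X.Opens, IsAffineOpen B ∧ x ∈ B ∧ B ≤ W ∧ Disjoint A B := by
  obtain ⟨U, hU, hxU, hUW⟩ := exists_isAffineOpen_mem_and_subset (x := x) (U := W) hxW
  have hq : IsCompact ((A : Set X) ∩ U) :=
    QuasiSeparatedSpace.inter_isCompact _ _ A.isOpen hA.isCompact U.isOpen hU.isCompact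
  have hq' : IsCompact (hU.fromSpec ⁻¹' ((A : Set X) ∩ U)) :=
    (hU.fromSpec.isOpenEmbedding.toIsInducing.isCompact_preimage' hq (by
      rw [hU.range_fromSpec]; exact Set.inter_subset_right))
  obtain ⟨I, hI, hIe⟩ := (PrimeSpectrum.isCompact_isOpen_iff_ideal (R := Γ(X, U))).1
    ⟨hq', (A.isOpen.inter U.isOpen).preimage hU.fromSpec.continuous⟩
  let P := hU.primeIdealOf ⟨x, hxU⟩
  have hP : ∀ q : Ideal Γ(X, U), q.IsPrime → q ≤ P.asIdeal → q = P.asIdeal :=
    primeIdealOf_eq_of_le hU ⟨x, hxU⟩ hx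
  obtain ⟨h, hh, hq⟩ := exists_nhd_le_zeroLocus P.asIdeal hP I hI (by
    by_contra hc
    have : P ∈ hU.fromSpec ⁻¹' ((A : Set X) ∩ U) := hIe ▸ hc
    have h3 : hU.fromSpec (hU.primeIdealOf ⟨x, hxU⟩) ∈ A := this.1
    rw [hU.fromSpec_primeIdealOf] at h3
    exact hxA h3)
  refine ⟨X.basicOpen h, hU.basicOpen h, (mem_basicOpen_iff_notMem hU ⟨x, hxU⟩ _).2 hh,
    (X.basicOpen_le h).trans hUW, ?_⟩
  rw [← Opens.coe_disjoint, Set.disjoint_left]
  intro y hyA hy
  have hyU : y ∈ U := X.basicOpen_le h hy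
  have h1 : hU.primeIdealOf ⟨y, hyU⟩ ∈ hU.fromSpec ⁻¹' ((A : Set X) ∩ U) := by
    show hU.fromSpec (hU.primeIdealOf ⟨y, hyU⟩) ∈ (A : Set X) ∩ U
    rw [hU.fromSpec_primeIdealOf]; exact ⟨hyA, hyU⟩
  rw [← hIe] at h1
  exact h1 (hq _ (hU.primeIdealOf ⟨y, hyU⟩).isPrime ((mem_basicOpen_iff_notMem hU ⟨y, hyU⟩ _).1 hy))

/-- Finitely many generic points of a quasi-separated scheme lie in an affine open inside any open containing them. -/
theorem exists_affine_nhd {X : Scheme.{u}} [QuasiSeparatedSpace X] (O : Set X) (hO : O.Finite)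
    (hgen : ∀ x ∈ O, ∀ y : X, y ⤳ x → y = x) (W : X.Opens) (hOW : O ⊆ W) :
    ∃ A : X.Opens, IsAffineOpen A ∧ O ⊆ A ∧ A ≤ W := by
  induction O, hO using Set.Finite.induction_on with
  | empty => exact ⟨⊥, isAffineOpen_bot X, Set.empty_subset _, bot_le⟩
  | @insert x O' _ _ ih =>
    obtain ⟨A, hA, hOA, hAW⟩ := ih (fun y hy => hgen y (Set.mem_insert_of_mem _ hy))
      ((Set.subset_insert _ _).trans hOW)
    by_cases hxA : x ∈ A
    · exact ⟨A, hA, Set.insert_subset hxA hOA, hAW⟩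
    · obtain ⟨B, hB, hxB, hBW, hd⟩ := exists_affine_disjoint A hA x (hgen x (Set.mem_insert _ _)) hxA W
        (hOW (Set.mem_insert _ _))
      refine ⟨A ⊔ B, hA.sup_of_disjoint hB hd, Set.insert_subset (Or.inr hxB) ?_, sup_le hAW hBW⟩
      exact fun y hy => Or.inl (hOA hy)

variable {S : Scheme.{u}} (G : Grpd.GroupoidScheme S)

theorem comap_fit_invariant [IsFinite G.s] (r : ℕ) :
    (FitStrat.fit G.s r).comap G.s = (FitStrat.fit G.s r).comap G.t :=
  (FitStrat.comap_fit (Groth.Agent.S7457.result S G).2 r).trans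
    (FitStrat.comap_fit (IsPullback.of_hasPullback G.s G.t) r).symm

theorem comap_eq_bot_mono {T X : Scheme.{u}} (x : T ⟶ X) {I J : X.IdealSheafData} (h : J ≤ I)
    (hI : I.comap x = ⊥) : J.comap x = ⊥ :=
  le_bot_iff.1 (hI ▸ Scheme.IdealSheafData.comap_mono x h)

/-- Over a map into the `r`-th stratum, the source map is finite locally free of rank `r + 1`. -/
theorem isFinLocFree_of_stratum [IsFinite G.s] {T P : Scheme.{u}} {x : T ⟶ G.U} {g' : P ⟶ G.R} {p : P ⟶ T}
    (H : IsPullback g' p G.s x) (r : ℕ) (h0 : (FitStrat.fit G.s r).comap x = ⊥)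
    (h1 : ∀ y, x y ∉ (FitStrat.fit G.s (r + 1)).support) : Mor2.IsFinLocFree p := by
  have : IsFinite p := MorphismProperty.of_isPullback (P := @IsFinite) H inferInstance
  obtain ⟨a, b, -⟩ := FitStrat.isFinLocFree_of_fit p (r + 1) (fun k hk => by
    rw [← FitStrat.comap_fit H k]
    exact comap_eq_bot_mono x (FitStrat.fit_mono G.s (Nat.le_of_lt_succ hk)) h0) (fun k hk => by
    rw [← FitStrat.comap_fit H k]
    refine top_le_iff.1 (le_trans ?_ (Scheme.IdealSheafData.comap_mono x (FitStrat.fit_mono G.s hk)))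
    refine ((Scheme.IdealSheafData.support_eq_bot_iff _).1 ?_).ge
    rw [Scheme.IdealSheafData.support_comap]
    ext y
    exact iff_of_false (h1 y) id)
  exact ⟨inferInstance, a, b⟩

/-- Invariance of the support, pointwise. -/
theorem mem_support_iff_of_comap_eq {I : G.U.IdealSheafData} (h : I.comap G.s = I.comap G.t) (q : G.R) :
    G.s q ∈ I.support ↔ G.t q ∈ I.support := by
  have := congrArg (fun K : G.R.IdealSheafData => q ∈ K.support) h
  simp only [Scheme.IdealSheafData.support_comap] at this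
  exact Iff.of_eq this

/-- The largest invariant open inside `W`. -/
noncomputable def core [IsFinite G.t] (W : G.U.Opens) : G.U.Opens :=
  ⟨(⇑G.t '' (⇑G.s ⁻¹' (W : Set G.U)ᶜ))ᶜ,
    (G.t.isClosedMap _ (W.isOpen.isClosed_compl.preimage G.s.continuous)).isOpen_compl⟩

theorem core_le [IsFinite G.t] (W : G.U.Opens) : core G W ≤ W := fun x hx => by_contra fun hxW => hx
  ⟨G.e x, by
    show G.s (G.e x) ∉ W
    rw [← Scheme.Hom.comp_apply, G.e_s]; exact hxW, by rw [← Scheme.Hom.comp_apply, G.e_t]; rfl⟩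

theorem core_invariant [IsFinite G.t] (W : G.U.Opens) : G.s ⁻¹ᵁ core G W = G.t ⁻¹ᵁ core G W :=
  Opens.ext (Set.ext fun q => not_congr (Set.ext_iff.1 (saturation_invariant G (W : Set G.U)ᶜ) q))

theorem mem_core [IsFinite G.t] (W : G.U.Opens) (x : G.U) (h : ∀ q : G.R, G.s q = x → G.t q ∈ W) :
    x ∈ core G W := by
  rintro ⟨q, hq, hqx⟩
  refine hq ?_
  have := h (G.i q) ((s_i_apply G q).trans hqx)
  rwa [t_i_apply] at this

theorem orbit_subset_of_invariant {W : G.U.Opens} (hW : G.s ⁻¹ᵁ W = G.t ⁻¹ᵁ W) (q : G.R) (h : G.s q ∈ W) :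
    G.t q ∈ W :=
  (Set.ext_iff.1 (congrArg (fun V : Opens G.R => (V : Set G.R)) hW) q).1 h

/-- **The norm trick on a thickening.** If over a surjective closed subscheme of `W₀` the source is finite locally
free, then the points whose orbit lies in a principal affine `D` form a principal open of `D`. -/
theorem exists_basicOpen_orbit_subset [IsFinite G.s] (W₀ : G.U.Opens) (hW₀ : G.s ⁻¹ᵁ W₀ = G.t ⁻¹ᵁ W₀)
    (J : W₀.toScheme.IdealSheafData) (hJ : J.support = ⊤)
    (hfree : Mor2.IsFinLocFree (pullback.snd G.s (J.subschemeι ≫ W₀.ι)))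
    (O : G.U.Opens) (hO : W₀ ≤ O) (f : Γ(O.toScheme, ⊤))
    (hD : IsAffineOpen (O.ι ''ᵁ O.toScheme.basicOpen f)) (hDW : O.ι ''ᵁ O.toScheme.basicOpen f ≤ W₀) :
    ∃ g : Γ((O.ι ''ᵁ O.toScheme.basicOpen f).toScheme, ⊤),
      (∀ x : G.U, x ∈ (O.ι ''ᵁ O.toScheme.basicOpen f).ι ''ᵁ (O.ι ''ᵁ O.toScheme.basicOpen f).toScheme.basicOpen g ↔
        ∀ q : G.R, G.s q = x → G.t q ∈ O.ι ''ᵁ O.toScheme.basicOpen f) := by
  set D := O.ι ''ᵁ O.toScheme.basicOpen f with hDdef
  have : IsAffine D.toScheme := hD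
  let d : D.toScheme ⟶ W₀.toScheme := G.U.homOfLE hDW
  let Z := pullback d J.subschemeι
  let i : Z ⟶ D.toScheme := pullback.fst d J.subschemeι
  have : IsAffine Z := isAffine_of_isAffineHom i
  let x : Z ⟶ G.U := i ≫ D.ι
  have hx : x = pullback.snd d J.subschemeι ≫ J.subschemeι ≫ W₀.ι := by
    show pullback.fst d J.subschemeι ≫ D.ι = _
    rw [← G.U.homOfLE_ι hDW, ← Category.assoc, pullback.condition, Category.assoc]
  let p : pullback G.s x ⟶ Z := pullback.snd G.s x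
  let m : pullback G.s x ⟶ pullback G.s (J.subschemeι ≫ W₀.ι) :=
    pullback.lift (pullback.fst _ _) (pullback.snd _ _ ≫ pullback.snd d J.subschemeι)
      (by rw [pullback.condition, hx, Category.assoc])
  have sq : IsPullback m p (pullback.snd G.s (J.subschemeι ≫ W₀.ι)) (pullback.snd d J.subschemeι) := by
    refine IsPullback.of_right ?_ (pullback.lift_snd _ _ _) (IsPullback.of_hasPullback G.s (J.subschemeι ≫ W₀.ι))
    rw [pullback.lift_fst, ← hx]
    exact IsPullback.of_hasPullback G.s x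
  obtain ⟨h1, h2, h3⟩ := hfree
  have : IsFinite p := MorphismProperty.of_isPullback (P := @IsFinite) sq h1
  have : Flat p := MorphismProperty.of_isPullback (P := @Flat) sq h2
  have : LocallyOfFinitePresentation p := MorphismProperty.of_isPullback (P := @LocallyOfFinitePresentation) sq h3
  have : IsAffine (pullback G.s x) := isAffine_of_isAffineHom p
  have hinO : Set.range (pullback.fst G.s x ≫ G.t) ⊆ Set.range O.ι := by
    rintro _ ⟨y, rfl⟩
    rw [Scheme.Opens.range_ι, Scheme.Hom.comp_apply]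
    refine hO (orbit_subset_of_invariant G hW₀ _ (hDW ?_))
    rw [← Scheme.Hom.comp_apply, pullback.condition, Scheme.Hom.comp_apply]
    exact (i (pullback.snd G.s x y)).2
  let ψ : pullback G.s x ⟶ O.toScheme := IsOpenImmersion.lift O.ι (pullback.fst G.s x ≫ G.t) hinO
  obtain ⟨g₀, hg₀⟩ := exists_basicOpen_eq_forall_fibre p (ψ.appTop.hom f)
  obtain ⟨g, hg⟩ := (IsClosedImmersion.isAffine_surjective_of_isAffine i).2 g₀
  refine ⟨g, fun a => ?_⟩
  have hψ : ∀ y, y ∈ (pullback G.s x).basicOpen (ψ.appTop.hom f) ↔ G.t (pullback.fst G.s x y) ∈ D := fun y => by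
    rw [← Scheme.preimage_basicOpen_top, hDdef, ← Scheme.Hom.comp_apply, ← IsOpenImmersion.lift_fac O.ι _ hinO]
    exact ⟨fun h => ⟨_, h, rfl⟩, fun ⟨z, hz, hzy⟩ =>
      (congrArg (· ∈ O.toScheme.basicOpen f) (O.ι.isOpenEmbedding.injective hzy)).mp hz⟩
  have hsurj : ∀ z : D.toScheme, ∃ w : Z, i w = z := fun z => by
    have : z ∈ Set.range i := by
      show z ∈ Set.range (pullback.fst d J.subschemeι)
      rw [Scheme.Pullback.range_fst, Scheme.IdealSheafData.range_subschemeι, hJ]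
      trivial
    exact this
  have hgi : ∀ w : Z, i w ∈ D.toScheme.basicOpen g ↔ w ∈ Z.basicOpen g₀ := fun w => by
    rw [← hg, ← Scheme.preimage_basicOpen_top]; rfl
  constructor
  · rintro ⟨z, hz, rfl⟩ q hq
    obtain ⟨w, rfl⟩ := hsurj z
    obtain ⟨y, hy₁, hy₂⟩ := Scheme.Pullback.exists_preimage_pullback (f := G.s) (g := x) q w
      (hq.trans (Scheme.Hom.comp_apply i D.ι w).symm)
    exact hy₁ ▸ (hψ y).1 ((hg₀ w).1 ((hgi w).1 hz) y hy₂)
  · intro H
    have haD : a ∈ D := by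
      have := H (G.e a) (by rw [← Scheme.Hom.comp_apply, G.e_s]; rfl)
      rwa [← Scheme.Hom.comp_apply, G.e_t] at this
    obtain ⟨w, hw⟩ := hsurj ⟨a, haD⟩
    refine ⟨i w, (hgi w).2 ((hg₀ w).2 fun y hy => (hψ y).2 (H _ ?_)), by rw [hw]; rfl⟩
    rw [← Scheme.Hom.comp_apply, pullback.condition, Scheme.Hom.comp_apply]
    show x (p y) = a
    rw [hy, Scheme.Hom.comp_apply, hw]
    rfl

end Groth.Agent.GrpdLib.GenericThick
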