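import Groth.Agent.GrpdLib.Orbits

/-!
# The inverse image of a groupoid scheme along a morphism to the objects
-/

set_option autoImplicit false

universe u

open CategoryTheory CategoryTheory.Limits AlgebraicGeometry

namespace Groth.Agent.GrpdLib

set_option maxHeartbeats 800000

variable {S : Scheme.{u}} (G : Grpd.GroupoidScheme S) {U' : Scheme.{u}} (f : U' ⟶ G.U)

/-- The arrows of the inverse image: an arrow of `G` with lifts of its target and of its source. -/
noncomputable abbrev pbR : Scheme.{u} := pullback (pullback.fst G.t f ≫ G.s) f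

/-- The arrow of `G` underlying an arrow of the inverse image. -/
noncomputable abbrev pbρ : pbR G f ⟶ G.R := pullback.fst _ _ ≫ pullback.fst G.t f

/-- The target map of the inverse image. -/
noncomputable abbrev pbT : pbR G f ⟶ U' := pullback.fst _ _ ≫ pullback.snd G.t f

/-- The source map of the inverse image. -/
noncomputable abbrev pbS : pbR G f ⟶ U' := pullback.snd _ _

theorem pbρ_t : pbρ G f ≫ G.t = pbT G f ≫ f := by
  rw [Category.assoc, Category.assoc, pullback.condition]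

theorem pbρ_s : pbρ G f ≫ G.s = pbS G f ≫ f := by rw [Category.assoc, pullback.condition]

theorem pbρ_t' {T : Scheme.{u}} (α : T ⟶ pbR G f) : (α ≫ pbρ G f) ≫ G.t = (α ≫ pbT G f) ≫ f := by
  rw [Category.assoc, pbρ_t]
  simp only [Category.assoc]

theorem pbρ_s' {T : Scheme.{u}} (α : T ⟶ pbR G f) : (α ≫ pbρ G f) ≫ G.s = (α ≫ pbS G f) ≫ f := by
  rw [Category.assoc, pbρ_s, Category.assoc]

theorem pb_ext {T : Scheme.{u}} {α β : T ⟶ pbR G f} (hr : α ≫ pbρ G f = β ≫ pbρ G f)
    (ht : α ≫ pbT G f = β ≫ pbT G f) (hs : α ≫ pbS G f = β ≫ pbS G f) : α = β := by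
  refine pullback.hom_ext (pullback.hom_ext ?_ ?_) hs
  · simpa only [Category.assoc] using hr
  · simpa only [Category.assoc] using ht

/-- Build an arrow of the inverse image. -/
noncomputable def pbMk {T : Scheme.{u}} (r : T ⟶ G.R) (a b : T ⟶ U') (ha : r ≫ G.t = a ≫ f)
    (hb : r ≫ G.s = b ≫ f) : T ⟶ pbR G f :=
  pullback.lift (pullback.lift r a ha) b (by rw [pullback.lift_fst_assoc, hb])

theorem pbMk_ρ {T : Scheme.{u}} (r : T ⟶ G.R) (a b : T ⟶ U') (ha : r ≫ G.t = a ≫ f)
    (hb : r ≫ G.s = b ≫ f) : pbMk G f r a b ha hb ≫ pbρ G f = r := by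
  rw [pbMk, pullback.lift_fst_assoc, pullback.lift_fst]

theorem pbMk_t {T : Scheme.{u}} (r : T ⟶ G.R) (a b : T ⟶ U') (ha : r ≫ G.t = a ≫ f)
    (hb : r ≫ G.s = b ≫ f) : pbMk G f r a b ha hb ≫ pbT G f = a := by
  rw [pbMk, pullback.lift_fst_assoc, pullback.lift_snd]

theorem pbMk_s {T : Scheme.{u}} (r : T ⟶ G.R) (a b : T ⟶ U') (ha : r ≫ G.t = a ≫ f)
    (hb : r ≫ G.s = b ≫ f) : pbMk G f r a b ha hb ≫ pbS G f = b := pullback.lift_snd _ _ _

theorem pb_h {T : Scheme.{u}} {α β : T ⟶ pbR G f} (h : α ≫ pbS G f = β ≫ pbT G f) :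
    (α ≫ pbρ G f) ≫ G.s = (β ≫ pbρ G f) ≫ G.t := by
  rw [pbρ_s', h, ← pbρ_t']

/-- The composition of the inverse image. -/
noncomputable def pbC : pullback (pbS G f) (pbT G f) ⟶ pbR G f :=
  pbMk G f (cmp G (pullback.fst _ _ ≫ pbρ G f) (pullback.snd _ _ ≫ pbρ G f) (pb_h G f pullback.condition))
    (pullback.fst _ _ ≫ pbT G f) (pullback.snd _ _ ≫ pbS G f) (by rw [cmp_t, pbρ_t']) (by rw [cmp_s, pbρ_s'])

theorem pbC_t {T : Scheme.{u}} (α β : T ⟶ pbR G f) (h : α ≫ pbS G f = β ≫ pbT G f) :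
    (pullback.lift α β h ≫ pbC G f) ≫ pbT G f = α ≫ pbT G f := by
  rw [pbC, Category.assoc, pbMk_t, pullback.lift_fst_assoc]

theorem pbC_s {T : Scheme.{u}} (α β : T ⟶ pbR G f) (h : α ≫ pbS G f = β ≫ pbT G f) :
    (pullback.lift α β h ≫ pbC G f) ≫ pbS G f = β ≫ pbS G f := by
  rw [pbC, Category.assoc, pbMk_s, pullback.lift_snd_assoc]

theorem pbC_ρ {T : Scheme.{u}} (α β : T ⟶ pbR G f) (h : α ≫ pbS G f = β ≫ pbT G f) :
    (pullback.lift α β h ≫ pbC G f) ≫ pbρ G f = cmp G (α ≫ pbρ G f) (β ≫ pbρ G f) (pb_h G f h) := by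
  rw [pbC, Category.assoc, pbMk_ρ, comp_cmp]
  exact cmp_congr G (pullback.lift_fst_assoc _ _ _ _) (pullback.lift_snd_assoc _ _ _ _) _ _

/-- The identity section of the inverse image. -/
noncomputable def pbE : U' ⟶ pbR G f :=
  pbMk G f (f ≫ G.e) (𝟙 U') (𝟙 U') (by rw [Category.assoc, G.e_t, Category.comp_id, Category.id_comp])
    (by rw [Category.assoc, G.e_s, Category.comp_id, Category.id_comp])

/-- The inverse of the inverse image. -/
noncomputable def pbI : pbR G f ⟶ pbR G f :=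
  pbMk G f (pbρ G f ≫ G.i) (pbS G f) (pbT G f) (by rw [Category.assoc, G.i_t, pbρ_s])
    (by rw [Category.assoc, G.i_s, pbρ_t])

/-- **The inverse image groupoid.** -/
noncomputable def pbGrpd : Grpd.GroupoidScheme S where
  U := U'
  R := pbR G f
  pU := f ≫ G.pU
  pR := pbρ G f ≫ G.pR
  s := pbS G f
  t := pbT G f
  e := pbE G f
  i := pbI G f
  c := pbC G f
  s_over := by rw [← Category.assoc, ← pbρ_s, Category.assoc, G.s_over]
  t_over := by rw [← Category.assoc, ← pbρ_t, Category.assoc, G.t_over]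
  comp_s α β h := pbC_s G f α β h
  comp_t α β h := pbC_t G f α β h
  assoc α β γ h₁ h₂ := by
    refine pb_ext G f ?_ ?_ ?_
    · refine (pbC_ρ G f _ γ _).trans ?_
      refine Eq.trans ?_ (pbC_ρ G f α _ _).symm
      refine (cmp_congr G (pbC_ρ G f α β h₁) rfl _ ((cmp_s G _ _ _).trans (pb_h G f h₂))).trans ?_
      refine Eq.trans ?_ (cmp_congr G rfl (pbC_ρ G f β γ h₂).symm ((pb_h G f h₁).trans (cmp_t G _ _ _).symm) _)
      exact G.assoc _ _ _ (pb_h G f h₁) (pb_h G f h₂)
    · refine (pbC_t G f _ γ _).trans ((pbC_t G f α β h₁).trans ?_)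
      exact (pbC_t G f α _ _).symm
    · refine (pbC_s G f _ γ _).trans (Eq.trans ?_ (pbC_s G f α _ _).symm)
      exact (pbC_s G f β γ h₂).symm
  e_s := pbMk_s G f _ _ _ _ _
  e_t := pbMk_t G f _ _ _ _ _
  comp_e α := by
    refine pb_ext G f ?_ (pbC_t G f _ _ _) ?_
    · refine (pbC_ρ G f _ _ _).trans ((cmp_congr G rfl ?_ _ ?_).trans (G.comp_e (α ≫ pbρ G f)))
      · rw [Category.assoc, Category.assoc, pbE, pbMk_ρ, ← Category.assoc (pbS G f), ← pbρ_s]
        simp only [Category.assoc]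
      · simp only [Category.assoc, G.e_t, Category.comp_id]
    · refine (pbC_s G f _ _ _).trans ?_
      rw [Category.assoc, Category.assoc, pbE, pbMk_s, Category.comp_id]
  e_comp α := by
    refine pb_ext G f ?_ ?_ (pbC_s G f _ _ _)
    · refine (pbC_ρ G f _ _ _).trans ((cmp_congr G ?_ rfl _ ?_).trans (G.e_comp (α ≫ pbρ G f)))
      · rw [Category.assoc, Category.assoc, pbE, pbMk_ρ, ← Category.assoc (pbT G f), ← pbρ_t]
        simp only [Category.assoc]
      · simp only [Category.assoc, G.e_s, Category.comp_id]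
    · refine (pbC_t G f _ _ _).trans ?_
      rw [Category.assoc, Category.assoc, pbE, pbMk_t, Category.comp_id]
  i_s := pbMk_s G f _ _ _ _ _
  i_t := pbMk_t G f _ _ _ _ _
  comp_i α := by
    refine pb_ext G f ?_ ?_ ?_
    · refine (pbC_ρ G f _ _ _).trans ((cmp_congr G rfl ?_ _ ?_).trans ((G.comp_i (α ≫ pbρ G f)).trans ?_))
      · rw [Category.assoc, pbI, pbMk_ρ]
        simp only [Category.assoc]
      · rw [i_comp_t]
      · rw [Category.assoc α (pbT G f ≫ pbE G f), Category.assoc (pbT G f), pbE, pbMk_ρ,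
          ← Category.assoc (pbT G f), ← pbρ_t]
        simp only [Category.assoc]
    · refine (pbC_t G f _ _ _).trans ?_
      rw [Category.assoc, Category.assoc, pbE, pbMk_t, Category.comp_id]
    · refine (pbC_s G f _ _ _).trans ?_
      rw [Category.assoc, Category.assoc, Category.assoc, pbI, pbMk_s, pbE, pbMk_s, Category.comp_id]
  i_comp α := by
    refine pb_ext G f ?_ ?_ ?_
    · refine (pbC_ρ G f _ _ _).trans ((cmp_congr G ?_ rfl _ ?_).trans ((G.i_comp (α ≫ pbρ G f)).trans ?_))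
      · rw [Category.assoc, pbI, pbMk_ρ]
        simp only [Category.assoc]
      · rw [i_comp_s]
      · rw [Category.assoc α (pbS G f ≫ pbE G f), Category.assoc (pbS G f), pbE, pbMk_ρ,
          ← Category.assoc (pbS G f), ← pbρ_s]
        simp only [Category.assoc]
    · refine (pbC_t G f _ _ _).trans ?_
      rw [Category.assoc, Category.assoc, Category.assoc, pbI, pbMk_t, pbE, pbMk_t, Category.comp_id]
    · refine (pbC_s G f _ _ _).trans ?_
      rw [Category.assoc, Category.assoc, pbE, pbMk_s, Category.comp_id]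

theorem mono_pbGrpd_j [Mono G.j] : Mono (pbGrpd G f).j := by
  refine ⟨fun {T} (a b : T ⟶ pbR G f) h => ?_⟩
  have ht : a ≫ pbT G f = b ≫ pbT G f := by
    have h' : (a ≫ (pbGrpd G f).j) ≫ pullback.fst _ _ = (b ≫ (pbGrpd G f).j) ≫ pullback.fst _ _ :=
      congrArg (· ≫ pullback.fst _ _) h
    have hj : (pbGrpd G f).j ≫ pullback.fst _ _ = pbT G f := pullback.lift_fst _ _ _
    exact (congrArg (a ≫ ·) hj).symm.trans ((Category.assoc _ _ _).symm.trans
      (h'.trans ((Category.assoc _ _ _).trans (congrArg (b ≫ ·) hj))))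
  have hs : a ≫ pbS G f = b ≫ pbS G f := by
    have h' : (a ≫ (pbGrpd G f).j) ≫ pullback.snd _ _ = (b ≫ (pbGrpd G f).j) ≫ pullback.snd _ _ :=
      congrArg (· ≫ pullback.snd _ _) h
    have hj : (pbGrpd G f).j ≫ pullback.snd _ _ = pbS G f := pullback.lift_snd _ _ _
    exact (congrArg (a ≫ ·) hj).symm.trans ((Category.assoc _ _ _).symm.trans
      (h'.trans ((Category.assoc _ _ _).trans (congrArg (b ≫ ·) hj))))
  refine pb_ext G f ((cancel_mono G.j).1 (pullback.hom_ext ?_ ?_)) ht hs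
  · rw [Category.assoc, Category.assoc (b ≫ _), Grpd.GroupoidScheme.j, pullback.lift_fst, pbρ_t', pbρ_t', ht]
  · rw [Category.assoc, Category.assoc (b ≫ _), Grpd.GroupoidScheme.j, pullback.lift_snd, pbρ_s', pbρ_s', hs]

end Groth.Agent.GrpdLib
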