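import Groth.Agent.GrpdLib.Orbits
import Mathlib.AlgebraicGeometry.Restrict

/-!
# Restriction of a groupoid scheme to an invariant open
-/

set_option autoImplicit false

universe u

open CategoryTheory CategoryTheory.Limits AlgebraicGeometry

namespace Groth.Agent.GrpdLib

variable {S : Scheme.{u}} (G : Grpd.GroupoidScheme S) (W : G.U.Opens) (hW : G.s ⁻¹ᵁ W = G.t ⁻¹ᵁ W)

theorem range_subset_of {T : Scheme.{u}} (f : T ⟶ G.R) (g : T ⟶ W.toScheme) (h : f ≫ G.s = g ≫ W.ι) :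
    Set.range f ⊆ Set.range (G.s ⁻¹ᵁ W).ι := by
  rintro _ ⟨x, rfl⟩
  rw [Scheme.Opens.range_ι]
  show G.s (f x) ∈ W
  rw [← Scheme.Hom.comp_apply, h, Scheme.Hom.comp_apply]
  exact (g x).2

include hW in
theorem range_t_subset : Set.range ((G.s ⁻¹ᵁ W).ι ≫ G.t) ⊆ Set.range W.ι := by
  rintro _ ⟨x, rfl⟩
  rw [Scheme.Opens.range_ι]
  exact hW.le x.2

/-- The target map of the restriction. -/
noncomputable def restrictT : (G.s ⁻¹ᵁ W).toScheme ⟶ W.toScheme :=
  IsOpenImmersion.lift W.ι ((G.s ⁻¹ᵁ W).ι ≫ G.t) (range_t_subset G W hW)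

theorem restrictT_ι : restrictT G W hW ≫ W.ι = (G.s ⁻¹ᵁ W).ι ≫ G.t := IsOpenImmersion.lift_fac _ _ _

theorem restrict_h {T : Scheme.{u}} {α β : T ⟶ (G.s ⁻¹ᵁ W).toScheme}
    (h : α ≫ (G.s ∣_ W) = β ≫ restrictT G W hW) :
    (α ≫ (G.s ⁻¹ᵁ W).ι) ≫ G.s = (β ≫ (G.s ⁻¹ᵁ W).ι) ≫ G.t := by
  rw [Category.assoc, ← morphismRestrict_ι, Category.assoc, ← restrictT_ι G W hW, ← Category.assoc, h,
    Category.assoc]

/-- The composition of the restriction. -/
noncomputable def restrictC : pullback (G.s ∣_ W) (restrictT G W hW) ⟶ (G.s ⁻¹ᵁ W).toScheme :=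
  IsOpenImmersion.lift (G.s ⁻¹ᵁ W).ι
    (cmp G (pullback.fst _ _ ≫ (G.s ⁻¹ᵁ W).ι) (pullback.snd _ _ ≫ (G.s ⁻¹ᵁ W).ι)
      (restrict_h G W hW pullback.condition))
    (range_subset_of G W _ (pullback.snd _ _ ≫ (G.s ∣_ W))
      (by rw [cmp_s, Category.assoc, Category.assoc, morphismRestrict_ι]))

theorem restrictC_ι {T : Scheme.{u}} (α β : T ⟶ (G.s ⁻¹ᵁ W).toScheme)
    (h : α ≫ (G.s ∣_ W) = β ≫ restrictT G W hW) :
    (pullback.lift α β h ≫ restrictC G W hW) ≫ (G.s ⁻¹ᵁ W).ι =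
      cmp G (α ≫ (G.s ⁻¹ᵁ W).ι) (β ≫ (G.s ⁻¹ᵁ W).ι) (restrict_h G W hW h) := by
  rw [Category.assoc, restrictC, IsOpenImmersion.lift_fac, comp_cmp]
  exact cmp_congr G (pullback.lift_fst_assoc _ _ _ _) (pullback.lift_snd_assoc _ _ _ _) _ _

theorem range_e_subset : Set.range (W.ι ≫ G.e) ⊆ Set.range (G.s ⁻¹ᵁ W).ι :=
  range_subset_of G W _ (𝟙 _) (by rw [Category.assoc, G.e_s, Category.comp_id, Category.id_comp])

include hW in
theorem range_i_subset : Set.range ((G.s ⁻¹ᵁ W).ι ≫ G.i) ⊆ Set.range (G.s ⁻¹ᵁ W).ι :=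
  range_subset_of G W _ (restrictT G W hW) (by rw [Category.assoc, G.i_s, restrictT_ι])

/-- The restriction of a groupoid scheme to an invariant open subscheme of the objects. -/
noncomputable def restrict : Grpd.GroupoidScheme S where
  U := W.toScheme
  R := (G.s ⁻¹ᵁ W).toScheme
  pU := W.ι ≫ G.pU
  pR := (G.s ⁻¹ᵁ W).ι ≫ G.pR
  s := G.s ∣_ W
  t := restrictT G W hW
  e := IsOpenImmersion.lift (G.s ⁻¹ᵁ W).ι (W.ι ≫ G.e) (range_e_subset G W)
  i := IsOpenImmersion.lift (G.s ⁻¹ᵁ W).ι ((G.s ⁻¹ᵁ W).ι ≫ G.i) (range_i_subset G W hW)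
  c := restrictC G W hW
  s_over := by rw [← Category.assoc, morphismRestrict_ι, Category.assoc, G.s_over]
  t_over := by rw [← Category.assoc, restrictT_ι, Category.assoc, G.t_over]
  comp_s α β h := by
    rw [← cancel_mono W.ι, Category.assoc, morphismRestrict_ι, ← Category.assoc, restrictC_ι, cmp_s,
      Category.assoc, ← morphismRestrict_ι, Category.assoc]
  comp_t α β h := by
    rw [← cancel_mono W.ι, Category.assoc, restrictT_ι, ← Category.assoc, restrictC_ι, cmp_t,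
      Category.assoc, ← restrictT_ι G W hW, Category.assoc]
  assoc α β γ h₁ h₂ := by
    rw [← cancel_mono (G.s ⁻¹ᵁ W).ι]
    refine (restrictC_ι G W hW _ γ _).trans ?_
    refine Eq.trans ?_ (restrictC_ι G W hW α _ _).symm
    refine (cmp_congr G (restrictC_ι G W hW α β h₁) rfl _
      ((cmp_s G _ _ _).trans (restrict_h G W hW h₂))).trans ?_
    refine Eq.trans ?_ (cmp_congr G rfl (restrictC_ι G W hW β γ h₂).symm
      ((restrict_h G W hW h₁).trans (cmp_t G _ _ _).symm) _)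
    exact G.assoc _ _ _ (restrict_h G W hW h₁) (restrict_h G W hW h₂)
  e_s := by
    rw [← cancel_mono W.ι, Category.assoc, morphismRestrict_ι, IsOpenImmersion.lift_fac_assoc, Category.assoc,
      G.e_s, Category.comp_id, Category.id_comp]
  e_t := by
    rw [← cancel_mono W.ι, Category.assoc, restrictT_ι, IsOpenImmersion.lift_fac_assoc, Category.assoc,
      G.e_t, Category.comp_id, Category.id_comp]
  comp_e α := by
    rw [← cancel_mono (G.s ⁻¹ᵁ W).ι, restrictC_ι]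
    refine (cmp_congr G rfl ?_ _ ?_).trans (G.comp_e (α ≫ (G.s ⁻¹ᵁ W).ι))
    · rw [Category.assoc, Category.assoc, IsOpenImmersion.lift_fac, morphismRestrict_ι_assoc, Category.assoc]
    · simp only [Category.assoc, G.e_t, Category.comp_id]
  e_comp α := by
    rw [← cancel_mono (G.s ⁻¹ᵁ W).ι, restrictC_ι]
    refine (cmp_congr G ?_ rfl _ ?_).trans (G.e_comp (α ≫ (G.s ⁻¹ᵁ W).ι))
    · rw [Category.assoc, Category.assoc, IsOpenImmersion.lift_fac, ← Category.assoc (restrictT G W hW),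
        restrictT_ι, Category.assoc, Category.assoc]
    · simp only [Category.assoc, G.e_s, Category.comp_id]
  i_s := by
    rw [← cancel_mono W.ι, Category.assoc, morphismRestrict_ι, IsOpenImmersion.lift_fac_assoc, Category.assoc,
      G.i_s, restrictT_ι]
  i_t := by
    rw [← cancel_mono W.ι, Category.assoc, restrictT_ι, IsOpenImmersion.lift_fac_assoc, Category.assoc,
      G.i_t, morphismRestrict_ι]
  comp_i α := by
    rw [← cancel_mono (G.s ⁻¹ᵁ W).ι, restrictC_ι]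
    refine (cmp_congr G rfl ?_ _ ?_).trans ((G.comp_i (α ≫ (G.s ⁻¹ᵁ W).ι)).trans ?_)
    · rw [Category.assoc, IsOpenImmersion.lift_fac, Category.assoc]
    · rw [Category.assoc (α ≫ _), G.i_t]
    · rw [Category.assoc, Category.assoc, Category.assoc, IsOpenImmersion.lift_fac,
        ← Category.assoc (restrictT G W hW), restrictT_ι, Category.assoc]
  i_comp α := by
    rw [← cancel_mono (G.s ⁻¹ᵁ W).ι, restrictC_ι]
    refine (cmp_congr G ?_ rfl _ ?_).trans ((G.i_comp (α ≫ (G.s ⁻¹ᵁ W).ι)).trans ?_)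
    · rw [Category.assoc, IsOpenImmersion.lift_fac, Category.assoc]
    · rw [Category.assoc (α ≫ _), G.i_s]
    · rw [Category.assoc, Category.assoc, Category.assoc, IsOpenImmersion.lift_fac,
        morphismRestrict_ι_assoc]

end Groth.Agent.GrpdLib
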