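import Groth.Agent.GrpdLib.GenericThick

/-! Invariant affine thickenings near generic points. -/

universe u

set_option autoImplicit false
set_option backward.isDefEq.respectTransparency.types false

open CategoryTheory CategoryTheory.Limits AlgebraicGeometry TopologicalSpace

namespace Groth.Agent.GrpdLib.GenericThick

variable {S : Scheme.{u}} (G : Grpd.GroupoidScheme S)

/-- A morphism into `U` lifts to `R ×_{s,U} Z` or `R ×_{t,U} Z` through ideal sheaves. -/
theorem exists_lift_to_pullback (V : G.U.Opens) (hV : G.s ⁻¹ᵁ V = G.t ⁻¹ᵁ V) (J : V.toScheme.IdealSheafData)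
    (a b : G.R ⟶ G.U) (ha : a ⁻¹ᵁ V = G.s ⁻¹ᵁ V) (hb : b ⁻¹ᵁ V = G.s ⁻¹ᵁ V)
    (h : J.comap (a.resLE V (G.s ⁻¹ᵁ V) ha.ge) = J.comap (b.resLE V (G.s ⁻¹ᵁ V) hb.ge)) :
    ∃ φ : pullback a (J.subschemeι ≫ V.ι) ⟶ pullback b (J.subschemeι ≫ V.ι),
      φ ≫ pullback.fst b (J.subschemeι ≫ V.ι) = pullback.fst a (J.subschemeι ≫ V.ι) := by
  let x := pullback.fst a (J.subschemeι ≫ V.ι)
  let z := pullback.snd a (J.subschemeι ≫ V.ι)
  have hx : Set.range x ⊆ Set.range (G.s ⁻¹ᵁ V).ι := by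
    rintro _ ⟨y, rfl⟩
    rw [Scheme.Opens.range_ι, SetLike.mem_coe, ← ha]
    show a (x y) ∈ V
    rw [← Scheme.Hom.comp_apply, pullback.condition, Scheme.Hom.comp_apply, Scheme.Hom.comp_apply]
    exact (J.subschemeι _).2
  let x' := IsOpenImmersion.lift (G.s ⁻¹ᵁ V).ι x hx
  have hxa : x' ≫ a.resLE V (G.s ⁻¹ᵁ V) ha.ge = z ≫ J.subschemeι := by
    rw [← cancel_mono V.ι, Category.assoc, Category.assoc, Scheme.Hom.resLE_comp_ι, ← Category.assoc,
      IsOpenImmersion.lift_fac]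
    exact pullback.condition
  have h0 : J ≤ (x' ≫ b.resLE V (G.s ⁻¹ᵁ V) hb.ge).ker := by
    rw [← Scheme.IdealSheafData.map_bot, Scheme.IdealSheafData.le_map_iff_comap_le,
      Scheme.IdealSheafData.comap_comp, ← h, ← Scheme.IdealSheafData.comap_comp, hxa,
      ← Scheme.IdealSheafData.le_map_iff_comap_le, Scheme.IdealSheafData.map_bot]
    exact le_of_eq_of_le J.ker_subschemeι.symm (Scheme.Hom.le_ker_comp _ _)
  let l := IsClosedImmersion.lift J.subschemeι (x' ≫ b.resLE V (G.s ⁻¹ᵁ V) hb.ge) (by rwa [J.ker_subschemeι])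
  refine ⟨pullback.lift x l ?_, pullback.lift_fst _ _ _⟩
  rw [← Category.assoc l, IsClosedImmersion.lift_fac, Category.assoc, Scheme.Hom.resLE_comp_ι, ← Category.assoc,
    IsOpenImmersion.lift_fac]

/-- The source and target pullbacks along an invariant thickening agree over `R`. -/
theorem exists_iso_pullback (V : G.U.Opens) (hV : G.s ⁻¹ᵁ V = G.t ⁻¹ᵁ V) (J : V.toScheme.IdealSheafData)
    (h : J.comap (G.s.resLE V (G.s ⁻¹ᵁ V) le_rfl) = J.comap (G.t.resLE V (G.s ⁻¹ᵁ V) hV.le)) :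
    ∃ φ : pullback G.s (J.subschemeι ≫ V.ι) ≅ pullback G.t (J.subschemeι ≫ V.ι),
      φ.hom ≫ pullback.fst G.t (J.subschemeι ≫ V.ι) = pullback.fst G.s (J.subschemeι ≫ V.ι) := by
  obtain ⟨φ, hφ⟩ := exists_lift_to_pullback G V hV J G.s G.t rfl hV.symm h
  obtain ⟨χ, hχ⟩ := exists_lift_to_pullback G V hV J G.t G.s hV.symm rfl h.symm
  refine ⟨⟨φ, χ, ?_, ?_⟩, hφ⟩
  · rw [← cancel_mono (pullback.fst G.s (J.subschemeι ≫ V.ι)), Category.assoc, hχ, hφ, Category.id_comp]
  · rw [← cancel_mono (pullback.fst G.t (J.subschemeι ≫ V.ι)), Category.assoc, hφ, hχ, Category.id_comp]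

/-- If the source is finite locally free over `x`, so is the target. -/
theorem isFinLocFree_snd_t {T : Scheme.{u}} (x : T ⟶ G.U) (h : Mor2.IsFinLocFree (pullback.snd G.s x)) :
    Mor2.IsFinLocFree (pullback.snd G.t x) := by
  have := isIso_i G
  have sq : IsPullback (pullback.fst G.t x ≫ G.i) (pullback.snd G.t x) G.s x := by
    have h2 := (IsPullback.of_hasPullback G.t x).paste_horiz
      (h₁₂ := G.i) (v₁₃ := G.s) (h₂₂ := 𝟙 G.U) (IsPullback.of_horiz_isIso ⟨by rw [G.i_s, Category.comp_id]⟩)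
    simpa using h2
  rw [← sq.isoPullback_hom_snd]
  obtain ⟨a, b, c⟩ := h
  exact ⟨inferInstance, inferInstance, inferInstance⟩

/-- **Invariant affine thickenings near generic orbits.** -/
theorem exists_thickening [IsFinite G.s] [IsFinite G.t] [QuasiSeparatedSpace G.U]
    (hfg : ∀ r (U : G.U.affineOpens), ((FitStrat.fit G.s r).ideal U).FG)
    {m : ℕ} (u : Fin m → G.U) (hu : ∀ i (r : G.R), G.s r = u i → ∀ x : G.U, x ⤳ G.t r → x = G.t r) :
    ∃ (V : G.U.Opens) (V' : V.toScheme.IdealSheafData), IsAffineOpen V ∧ (∀ i, u i ∈ V) ∧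
      G.s ⁻¹ᵁ V = G.t ⁻¹ᵁ V ∧ V'.support = ⊤ ∧ LocallyOfFinitePresentation V'.subschemeι ∧
      (∃ φ : pullback G.s (V'.subschemeι ≫ V.ι) ≅ pullback G.t (V'.subschemeι ≫ V.ι),
        φ.hom ≫ pullback.fst G.t (V'.subschemeι ≫ V.ι) = pullback.fst G.s (V'.subschemeι ≫ V.ι)) ∧
      Mor2.IsFinLocFree (pullback.snd G.s (V'.subschemeι ≫ V.ι)) ∧
      Mor2.IsFinLocFree (pullback.snd G.t (V'.subschemeι ≫ V.ι)) := by
  classical
  let Z := FitStrat.fit G.s
  have hanti : ∀ {a b : ℕ}, a ≤ b → ∀ x, x ∈ (Z b).support → x ∈ (Z a).support := fun {a b} hab x hx =>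
    Scheme.IdealSheafData.support_antitone (FitStrat.fit_mono G.s hab) hx
  have hex : ∀ i, ∃ r, u i ∉ (Z (r + 1)).support := fun i => by
    obtain ⟨r, hr⟩ := FitStrat.exists_notMem_support G.s (u i)
    exact ⟨r, fun h => hr (hanti (Nat.le_succ r) _ h)⟩
  let rk : Fin m → ℕ := fun i => Nat.find (hex i)
  have hin : ∀ i, u i ∈ (Z (rk i)).support := fun i => by
    by_cases h : rk i = 0
    · rw [h, show Z 0 = ⊥ from FitStrat.fit_zero_eq_bot G.s G.e G.e_s, Scheme.IdealSheafData.support_bot]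
      trivial
    · obtain ⟨k, hk⟩ := Nat.exists_eq_succ_of_ne_zero h
      have := Nat.find_min (hex i) (show k < rk i by omega)
      rw [hk]
      exact not_not.1 this
  let K : Type := {r : ℕ // r ∈ Finset.univ.image rk}
  have : Finite K := inferInstanceAs (Finite {r : ℕ // r ∈ Finset.univ.image rk})
  let str : K → G.U.Opens := fun r =>
    ⟨interior ((Z r.1).support : Set G.U) ∩ ((Z (r.1 + 1)).support : Set G.U)ᶜ,
      isOpen_interior.inter (Z (r.1 + 1)).support.isClosed.isOpen_compl⟩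
  let O : K → Set G.U := fun r => ⋃ i : {i // rk i = r.1}, ⇑G.t '' (⇑G.s ⁻¹' {u i.1})
  have hOfin : ∀ r, (O r).Finite := fun r => Set.finite_iUnion fun i =>
    (G.s.finite_preimage_singleton (u i.1)).image _
  have hO : ∀ r, ∀ x ∈ O r, ∃ i, rk i = r.1 ∧ ∃ q : G.R, G.s q = u i ∧ G.t q = x := fun r x hx => by
    obtain ⟨i, q, hq, rfl⟩ := Set.mem_iUnion.1 hx
    exact ⟨i.1, i.2, q, hq, rfl⟩
  have hgen : ∀ r, ∀ x ∈ O r, ∀ y : G.U, y ⤳ x → y = x := fun r x hx y hy => by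
    obtain ⟨i, -, q, hq, rfl⟩ := hO r x hx
    exact hu i q hq y hy
  have hstr : ∀ r, O r ⊆ str r := fun r x hx => by
    obtain ⟨i, hi, q, hq, rfl⟩ := hO r x hx
    refine ⟨?_, fun h => ?_⟩
    · obtain ⟨N, hxN, hN⟩ := exists_open_subset_support (Z r.1) (G.t q) (hgen r _ hx) (hfg _)
        ((mem_support_iff_of_comap_eq G (comap_fit_invariant G r.1) q).1 (by rw [hq, ← hi]; exact hin i))
      exact interior_maximal hN N.isOpen hxN
    · refine Nat.find_spec (hex i) ?_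
      show u i ∈ (Z (rk i + 1)).support
      rw [← hq, hi]
      exact (mem_support_iff_of_comap_eq G (comap_fit_invariant G (r.1 + 1)) q).2 h
  have hcore : ∀ r, O r ⊆ core G (str r) := fun r x hx => by
    refine mem_core G _ x fun q hq => hstr r ?_
    obtain ⟨i, hi, q', hq', rfl⟩ := hO r x hx
    obtain ⟨m', hm, hm'⟩ := saturation_eq G hq' hq
    exact Set.mem_iUnion.2 ⟨⟨i, hi⟩, m', hm, hm'⟩
  have key : ∀ r : K, ∃ W : G.U.Opens, IsAffineOpen W ∧ O r ⊆ W ∧ W ≤ str r ∧ G.s ⁻¹ᵁ W = G.t ⁻¹ᵁ W := by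
    intro r
    obtain ⟨A, hA, hOA, hAS⟩ := exists_affine_nhd (O r) (hOfin r) (hgen r) (core G (str r)) (hcore r)
    have hOA' : O r ⊆ core G A := fun x hx => mem_core G _ x fun q hq => hOA (by
      obtain ⟨i, hi, q', hq', rfl⟩ := hO r x hx
      obtain ⟨m', hm, hm'⟩ := saturation_eq G hq' hq
      exact Set.mem_iUnion.2 ⟨⟨i, hi⟩, m', hm, hm'⟩)
    have : IsAffine A.toScheme := hA
    obtain ⟨f, hf1, hf2⟩ := exists_basicOpen_of_finite (A.ι ⁻¹' O r)
      ((hOfin r).preimage A.ι.isOpenEmbedding.injective.injOn) (A.ι ⁻¹ᵁ core G A) (fun y hy => hOA' hy)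
    have hD : IsAffineOpen (A.ι ''ᵁ A.toScheme.basicOpen f) :=
      ((isAffineOpen_top A.toScheme).basicOpen f).image_of_isOpenImmersion A.ι
    have hDA : A.ι ''ᵁ A.toScheme.basicOpen f ≤ core G A := fun x hx => by
      obtain ⟨y, hy, rfl⟩ := hx
      exact hf2 hy
    have hOD : O r ⊆ A.ι ''ᵁ A.toScheme.basicOpen f := fun x hx => ⟨⟨x, hOA hx⟩, hf1 hx, rfl⟩
    let W₀ := core G A
    let J₀ := (Z r.1).comap W₀.ι
    have hWs : ∀ x ∈ W₀, x ∈ (str r : Set G.U) := fun x hx => core_le G _ (hAS (core_le G A hx))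
    have hJ₀ : J₀.support = ⊤ := by
      rw [Scheme.IdealSheafData.support_comap]
      exact TopologicalSpace.Closeds.ext (Set.eq_univ_of_forall fun (y : W₀.toScheme) => show W₀.ι y ∈ ((Z r.1).support : Set G.U) from interior_subset (hWs y.1 y.2).1)
    have hfree : Mor2.IsFinLocFree (pullback.snd G.s (J₀.subschemeι ≫ W₀.ι)) :=
      isFinLocFree_of_stratum G (IsPullback.of_hasPullback G.s _) r.1
        (by rw [Scheme.IdealSheafData.comap_comp]
            exact le_bot_iff.1 (Scheme.IdealSheafData.le_map_iff_comap_le.1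
              (by rw [Scheme.IdealSheafData.map_bot, Scheme.IdealSheafData.ker_subschemeι])))
        (fun y => (hWs _ (J₀.subschemeι y).2).2)
    set D := A.ι ''ᵁ A.toScheme.basicOpen f with hDdef
    obtain ⟨g, hg⟩ := exists_basicOpen_orbit_subset G W₀ (core_invariant G A) J₀ hJ₀ hfree A (core_le G A) f hD hDA
    have : IsAffine D.toScheme := hD
    refine ⟨D.ι ''ᵁ D.toScheme.basicOpen g, ((isAffineOpen_top _).basicOpen g).image_of_isOpenImmersion _,
      fun x hx => (hg x).2 fun q hq => hOD ?_, fun x hx => hWs x (hDA ?_), ?_⟩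
    · obtain ⟨i, hi, q', hq', rfl⟩ := hO r x hx
      obtain ⟨m', hm, hm'⟩ := saturation_eq G hq' hq
      exact Set.mem_iUnion.2 ⟨⟨i, hi⟩, m', hm, hm'⟩
    · obtain ⟨y, -, rfl⟩ := hx
      exact y.2
    · have one : ∀ q : G.R, G.s q ∈ D.ι ''ᵁ D.toScheme.basicOpen g → G.t q ∈ D.ι ''ᵁ D.toScheme.basicOpen g :=
        fun q hq => (hg _).2 fun q' hq' => by
          obtain ⟨m', hm, hm'⟩ := saturation_eq G (u := G.s q) rfl hq'
          exact hm' ▸ (hg _).1 hq m' hm
      refine Opens.ext (Set.ext fun q => ⟨one q, fun hq => ?_⟩)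
      have := one (G.i q) (by rw [s_i_apply]; exact hq)
      rwa [t_i_apply] at this
  choose W hWaff hOW hWstr hWinv using key
  have hdisj : Pairwise fun k l : K => Disjoint (W k) (W l) := fun k l hkl => by
    show Disjoint (W k) (W l)
    rw [← Opens.coe_disjoint, Set.disjoint_left]
    intro x hk hl
    have h1 := hWstr k hk
    have h2 := hWstr l hl
    rcases Nat.lt_or_gt_of_ne (fun h => hkl (Subtype.ext h) : k.1 ≠ l.1) with h | h
    · exact h1.2 (hanti h _ (interior_subset h2.1))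
    · exact h2.2 (hanti h _ (interior_subset h1.1))
  let V : G.U.Opens := ⨆ k, W k
  have hWV : ∀ k, W k ≤ V := le_iSup W
  have hVinv : G.s ⁻¹ᵁ V = G.t ⁻¹ᵁ V := Opens.ext (Set.ext fun q => by
    show G.s q ∈ ⨆ k, W k ↔ G.t q ∈ ⨆ k, W k
    simp only [Opens.mem_iSup]
    exact exists_congr fun k => Set.ext_iff.1 (congrArg (fun X : Opens G.R => (X : Set G.R)) (hWinv k)) q)
  let P : K → V.toScheme.Opens := fun k => V.ι ⁻¹ᵁ W k
  have hPdisj : Pairwise fun k l : K => Disjoint (P k) (P l) := fun k l hkl => by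
    show Disjoint (P k) (P l)
    rw [← Opens.coe_disjoint]
    exact (Opens.coe_disjoint.2 (hdisj hkl)).preimage _
  have hPtop : ⨆ k, P k = ⊤ := eq_top_iff.2 fun y _ => by
    obtain ⟨k, hk⟩ := Opens.mem_iSup.1 (show V.ι y ∈ ⨆ k, W k from y.2)
    exact Opens.mem_iSup.2 ⟨k, hk⟩
  obtain ⟨J, hJ⟩ := IdealGlue.exists_glue P hPdisj hPtop (fun k => (Z k.1).comap ((P k).ι ≫ V.ι))
  have hJsup : J.support = ⊤ := TopologicalSpace.Closeds.ext (Set.eq_univ_of_forall fun y => by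
    obtain ⟨k, hk⟩ := Opens.mem_iSup.1 (hPtop ▸ Opens.mem_top y : y ∈ ⨆ k, P k)
    have h := congrArg (fun I : (P k).toScheme.IdealSheafData => (⟨y, hk⟩ : (P k).toScheme) ∈ I.support) (hJ k)
    simp only [Scheme.IdealSheafData.support_comap] at h
    exact (Iff.of_eq h).2 (interior_subset (hWstr k hk).1 : V.ι y ∈ ((Z k.1).support : Set G.U)))
  have hinvJ : J.comap (G.s.resLE V (G.s ⁻¹ᵁ V) le_rfl) = J.comap (G.t.resLE V (G.s ⁻¹ᵁ V) hVinv.le) := by
    refine IdealGlue.eq_of_comap_eq (fun k => (G.s.resLE V (G.s ⁻¹ᵁ V) le_rfl) ⁻¹ᵁ P k) ?_ fun k => ?_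
    · rw [← Scheme.Hom.preimage_iSup, hPtop]; rfl
    · set N := (G.s.resLE V (G.s ⁻¹ᵁ V) le_rfl) ⁻¹ᵁ P k
      have main : ∀ (a : G.R ⟶ G.U) (ha : G.s ⁻¹ᵁ V ≤ a ⁻¹ᵁ V),
          (∀ y : N, a ((G.s ⁻¹ᵁ V).ι y.1) ∈ W k) →
          (J.comap (a.resLE V (G.s ⁻¹ᵁ V) ha)).comap N.ι = ((Z k.1).comap a).comap (N.ι ≫ (G.s ⁻¹ᵁ V).ι) := by
        intro a ha hrange
        have hr : Set.range (N.ι ≫ a.resLE V (G.s ⁻¹ᵁ V) ha) ⊆ Set.range (P k).ι := by
          rintro _ ⟨y, rfl⟩
          rw [Scheme.Opens.range_ι]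
          show V.ι ((N.ι ≫ a.resLE V (G.s ⁻¹ᵁ V) ha) y) ∈ W k
          rw [← Scheme.Hom.comp_apply, Category.assoc, Scheme.Hom.resLE_comp_ι, Scheme.Hom.comp_apply,
            Scheme.Hom.comp_apply]
          exact hrange y
        rw [← Scheme.IdealSheafData.comap_comp, ← IsOpenImmersion.lift_fac _ _ hr,
          Scheme.IdealSheafData.comap_comp, hJ k, ← Scheme.IdealSheafData.comap_comp,
          ← Scheme.IdealSheafData.comap_comp, ← Category.assoc, IsOpenImmersion.lift_fac, Category.assoc,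
          Scheme.Hom.resLE_comp_ι, Category.assoc]
      have hsW : ∀ y : N, G.s ((G.s ⁻¹ᵁ V).ι y.1) ∈ W k := fun y => by
        have h : V.ι ((G.s.resLE V (G.s ⁻¹ᵁ V) le_rfl) y.1) ∈ W k := y.2
        rwa [← Scheme.Hom.comp_apply, Scheme.Hom.resLE_comp_ι, Scheme.Hom.comp_apply] at h
      rw [main G.s le_rfl hsW, main G.t hVinv.le fun y => orbit_subset_of_invariant G (hWinv k) _ (hsW y),
        comap_fit_invariant G k.1]
  have hlfp : LocallyOfFinitePresentation J.subschemeι := by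
    refine (IsZariskiLocalAtTarget.iff_of_iSup_eq_top (P := @LocallyOfFinitePresentation) P hPtop).2 fun k => ?_
    have h1 : LocallyOfFinitePresentation ((Z k.1).comap ((P k).ι ≫ V.ι)).subschemeι := by
      have : LocallyOfFinitePresentation (Z k.1).subschemeι :=
        H8Lim.locallyOfFinitePresentation_of_ker_fg _ fun U => by rw [Scheme.IdealSheafData.ker_subschemeι]; exact hfg _ U
      rw [← Scheme.IdealSheafData.comapIso_hom_fst]
      infer_instance
    rw [← hJ k] at h1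
    have h2 : LocallyOfFinitePresentation (pullback.fst (P k).ι J.subschemeι) := by
      rw [← Scheme.IdealSheafData.comapIso_inv_subschemeι]
      infer_instance
    rw [← (isPullback_morphismRestrict J.subschemeι (P k)).isoPullback_hom_fst]
    infer_instance
  have hfree : Mor2.IsFinLocFree (pullback.snd G.s (J.subschemeι ≫ V.ι)) := by
    have hloc : ∀ k, Mor2.IsFinLocFree (pullback.snd G.s (J.subschemeι ≫ V.ι) ∣_ (J.subschemeι ⁻¹ᵁ P k)) :=
      fun k => by
        have sq := (isPullback_morphismRestrict (pullback.snd G.s (J.subschemeι ≫ V.ι)) (J.subschemeι ⁻¹ᵁ P k)).flip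
        refine isFinLocFree_of_stratum G (sq.paste_horiz (IsPullback.of_hasPullback G.s _)) k.1 ?_ fun y => ?_
        · rw [← Category.assoc, Scheme.IdealSheafData.comap_comp]
          have hr : Set.range ((J.subschemeι ⁻¹ᵁ P k).ι ≫ J.subschemeι) ⊆ Set.range (P k).ι := by
            rintro _ ⟨y, rfl⟩
            rw [Scheme.Opens.range_ι]
            exact y.2
          rw [← Scheme.IdealSheafData.comap_comp, ← IsOpenImmersion.lift_fac _ _ hr, Category.assoc,
            Scheme.IdealSheafData.comap_comp, ← hJ k, ← Scheme.IdealSheafData.comap_comp,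
            IsOpenImmersion.lift_fac, Scheme.IdealSheafData.comap_comp]
          refine le_bot_iff.1 ((Scheme.IdealSheafData.comap_mono _ (Scheme.IdealSheafData.le_map_iff_comap_le.1
            (by rw [Scheme.IdealSheafData.map_bot, Scheme.IdealSheafData.ker_subschemeι] : J ≤ _))).trans ?_)
          exact le_of_eq (Scheme.IdealSheafData.comap_bot _)
        · rw [Scheme.Hom.comp_apply, Scheme.Hom.comp_apply]
          exact (hWstr k y.2).2
    have htop : ⨆ k, J.subschemeι ⁻¹ᵁ P k = ⊤ := by rw [← Scheme.Hom.preimage_iSup, hPtop]; rfl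
    exact ⟨(IsZariskiLocalAtTarget.iff_of_iSup_eq_top (P := @IsFinite) _ htop).2 fun k => (hloc k).1,
      (IsZariskiLocalAtTarget.iff_of_iSup_eq_top (P := @Flat) _ htop).2 fun k => (hloc k).2.1,
      (IsZariskiLocalAtTarget.iff_of_iSup_eq_top (P := @LocallyOfFinitePresentation) _ htop).2 fun k => (hloc k).2.2⟩
  refine ⟨V, J, IsAffineOpen.iSup_of_disjoint hWaff hdisj, fun i => ?_, hVinv, hJsup, hlfp,
    exists_iso_pullback G V hVinv J hinvJ, hfree, isFinLocFree_snd_t G _ hfree⟩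
  refine hWV ⟨rk i, Finset.mem_image_of_mem _ (Finset.mem_univ i)⟩ (hOW _ ?_)
  exact Set.mem_iUnion.2 ⟨⟨i, rfl⟩, G.e (u i), by rw [Set.mem_preimage, ← Scheme.Hom.comp_apply, G.e_s]; rfl,
    by rw [← Scheme.Hom.comp_apply, G.e_t]; rfl⟩

end Groth.Agent.GrpdLib.GenericThick
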