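import Groth.Prelude.Def_Fitting
import Groth.Agent.FittLib.Local
import Groth.Agent.FittLib.Torsion
import Groth.Agent.ProjLib.IdealComap
import Mathlib.AlgebraicGeometry.Morphisms.FlatRank
import Mathlib.AlgebraicGeometry.Morphisms.Finite

/-! Fitting ideals of a finite morphism: base change and the rank stratification. -/

universe u

set_option autoImplicit false
set_option backward.isDefEq.respectTransparency.types false

open CategoryTheory CategoryTheory.Limits AlgebraicGeometry TopologicalSpace TensorProduct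

namespace Groth.Agent.GrpdLib.FitStrat

variable {X Y X' Y' : Scheme.{u}}

/-- The Fitting ideal of `Γ(X, f⁻¹V)` as a `Γ(Y, V)`-module. -/
noncomputable def fitV (f : X ⟶ Y) (V : Y.Opens) (r : ℕ) : Ideal Γ(Y, V) :=
  letI := (f.app V).hom.toAlgebra
  Fitt.ideal Γ(Y, V) Γ(X, f ⁻¹ᵁ V) r

theorem fitV_map {f : X ⟶ Y} [IsFinite f] {f' : X' ⟶ Y'} {g' : X' ⟶ X} {g : Y' ⟶ Y}
    (H : IsPullback g' f' f g) {V : Y.Opens} (hV : IsAffineOpen V) {W : Y'.Opens} (hW : IsAffineOpen W)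
    (e : W ≤ g ⁻¹ᵁ V) (r : ℕ) : (fitV f V r).map (g.appLE V W e).hom = fitV f' W r := by
  have hle : f' ⁻¹ᵁ W ≤ g' ⁻¹ᵁ (f ⁻¹ᵁ V) := fun x hx => by
    have : g (f' x) = f (g' x) := by rw [← Scheme.Hom.comp_apply, ← H.w, Scheme.Hom.comp_apply]
    show g' x ∈ f ⁻¹ᵁ V
    have h2 : g (f' x) ∈ V := e hx
    rw [this] at h2
    exact h2
  have hU : f' ⁻¹ᵁ W = g' ⁻¹ᵁ (f ⁻¹ᵁ V) ⊓ f' ⁻¹ᵁ W := (inf_eq_right.2 hle).symm
  have hp := (isIso_pushoutSection_iff H e le_rfl hU).1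
    (isIso_pushoutSection_of_isAffineOpen H e le_rfl hU hV hW (hV.preimage f))
  rw [← Scheme.Hom.app_eq_appLE, ← Scheme.Hom.app_eq_appLE] at hp
  let _ := (f.app V).hom.toAlgebra
  let _ := (f'.app W).hom.toAlgebra
  let _ := (g.appLE V W e).hom.toAlgebra
  let _ := (g'.appLE (f ⁻¹ᵁ V) (f' ⁻¹ᵁ W) hle).hom.toAlgebra
  let _ := ((f'.app W).hom.comp (g.appLE V W e).hom).toAlgebra
  have : IsScalarTower Γ(Y, V) Γ(Y', W) Γ(X', f' ⁻¹ᵁ W) := .of_algebraMap_eq fun _ => rfl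
  have : IsScalarTower Γ(Y, V) Γ(X, f ⁻¹ᵁ V) Γ(X', f' ⁻¹ᵁ W) := .of_algebraMap_eq fun x => by
    show ((g.appLE V W e) ≫ f'.app W).hom x = ((f.app V) ≫ g'.appLE _ _ hle).hom x
    rw [hp.w]
  have hA : Algebra.IsPushout Γ(Y, V) Γ(X, f ⁻¹ᵁ V) Γ(Y', W) Γ(X', f' ⁻¹ᵁ W) :=
    CommRingCat.isPushout_iff_isPushout.1 hp
  have : Module.Finite Γ(Y, V) Γ(X, f ⁻¹ᵁ V) := f.finite_app V hV
  exact (FittLib.ideal_isBaseChange hA.symm.out r).symm

/-- The Fitting ideal sheaf of a finite morphism. -/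
noncomputable def fit (f : X ⟶ Y) [IsFinite f] (r : ℕ) : Y.IdealSheafData where
  ideal V := fitV f V.1 r
  map_ideal_basicOpen V h := by
    have H : IsPullback (𝟙 X) f f (𝟙 Y) := IsPullback.of_id_fst
    have := fitV_map H V.2 (V.2.basicOpen h) (Y.basicOpen_le h) r
    refine Eq.trans (congrArg (fun φ => Ideal.map (CommRingCat.Hom.hom φ) _) ?_) this
    simp [Scheme.Hom.appLE]
    rfl

theorem comap_fit {f : X ⟶ Y} [IsFinite f] {f' : X' ⟶ Y'} [IsFinite f'] {g' : X' ⟶ X} {g : Y' ⟶ Y}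
    (H : IsPullback g' f' f g) (r : ℕ) : (fit f r).comap g = fit f' r := by
  refine Scheme.IdealSheafData.ext_of_iSup_eq_top
    (fun p : {p : Y'.affineOpens × Y.affineOpens // (p.1 : Y'.Opens) ≤ g ⁻¹ᵁ (p.2 : Y.Opens)} => p.1.1)
    (eq_top_iff.2 fun x _ => ?_) ?_
  · obtain ⟨V, hV, hgx, -⟩ := exists_isAffineOpen_mem_and_subset (x := g x) (U := ⊤) trivial
    obtain ⟨W, hW, hxW, e⟩ := exists_isAffineOpen_mem_and_subset (x := x) (U := g ⁻¹ᵁ V) hgx
    exact Opens.mem_iSup.2 ⟨⟨(⟨W, hW⟩, ⟨V, hV⟩), e⟩, hxW⟩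
  · rintro ⟨⟨W, V⟩, e⟩
    rw [ProjLib.comap_ideal_eq _ g V W e]
    exact fitV_map H V.2 W.2 e r

theorem fit_mono (f : X ⟶ Y) [IsFinite f] : Monotone (fit f) := fun i j hij V => by
  let _ := (f.app V.1).hom.toAlgebra
  have : Module.Finite Γ(Y, V.1) Γ(X, f ⁻¹ᵁ V.1) := IsFinite.finite_app f V.1 V.2
  exact FittLib.ideal_mono (R := Γ(Y, V.1)) (M := Γ(X, f ⁻¹ᵁ V.1)) hij

theorem fit_zero_eq_bot (f : X ⟶ Y) [IsFinite f] (σ : Y ⟶ X) (hσ : σ ≫ f = 𝟙 Y) : fit f 0 = ⊥ := by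
  refine le_bot_iff.1 fun V a ha => ?_
  let _ := (f.app V.1).hom.toAlgebra
  have h := Module.mem_annihilator.1 (FittLib.ideal_zero_le_annihilator ha) (1 : Γ(X, f ⁻¹ᵁ V.1))
  rw [Algebra.smul_def, mul_one] at h
  have h2 : ((f.app V.1) ≫ σ.app (f ⁻¹ᵁ V.1)).hom a = 0 := by
    show (σ.app (f ⁻¹ᵁ V.1)).hom ((f.app V.1).hom a) = 0
    rw [show (f.app V.1).hom a = 0 from h, map_zero]
  rw [← Scheme.Hom.comp_app, Scheme.Hom.congr_app hσ] at h2
  have hb : Function.Injective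
      (Y.presheaf.map (eqToHom (show σ ⁻¹ᵁ (f ⁻¹ᵁ V.1) = V.1 by
        rw [← Scheme.Hom.comp_preimage, hσ]; rfl)).op).hom :=
    (ConcreteCategory.bijective_of_isIso (C := CommRingCat) _).1
  exact hb (h2.trans (map_zero _).symm)

theorem exists_notMem_support (f : X ⟶ Y) [IsFinite f] (y : Y) : ∃ r, y ∉ (fit f r).support := by
  obtain ⟨V, hV, hyV, -⟩ := exists_isAffineOpen_mem_and_subset (x := y) (U := ⊤) trivial
  let _ := (f.app V).hom.toAlgebra
  have : Module.Finite Γ(Y, V) Γ(X, f ⁻¹ᵁ V) := IsFinite.finite_app f V hV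
  obtain ⟨n, x, hx⟩ := FittLib.exists_generators Γ(Y, V) Γ(X, f ⁻¹ᵁ V)
  refine ⟨n, fun h => ?_⟩
  rw [Scheme.IdealSheafData.mem_support_iff_of_mem (U := ⟨V, hV⟩) hyV,
    Scheme.mem_zeroLocus_iff] at h
  refine h (1 : Γ(Y, V)) ?_ (by rw [Y.basicOpen_of_isUnit isUnit_one]; exact hyV)
  show (1 : Γ(Y, V)) ∈ fitV f V n
  rw [fitV, FittLib.ideal_eq_top_of_span x hx le_rfl]
  trivial

theorem isFinLocFree_of_fit (f : X ⟶ Y) [IsFinite f] (r : ℕ) (h0 : ∀ k, k < r → fit f k = ⊥)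
    (h1 : ∀ k, r ≤ k → fit f k = ⊤) :
    Flat f ∧ LocallyOfFinitePresentation f ∧ ∀ y, f.finrank y = r := by
  have key : ∀ (V : Y.Opens) (_ : IsAffineOpen V),
      letI := (f.app V).hom.toAlgebra
      Module.Projective Γ(Y, V) Γ(X, f ⁻¹ᵁ V) ∧
        ∀ p, Module.rankAtStalk (R := Γ(Y, V)) Γ(X, f ⁻¹ᵁ V) p = r := by
    intro V hV
    let _ := (f.app V).hom.toAlgebra
    have : Module.Finite Γ(Y, V) Γ(X, f ⁻¹ᵁ V) := IsFinite.finite_app f V hV
    have hl := (FittLib.locallyFree_iff (R := Γ(Y, V)) (M := Γ(X, f ⁻¹ᵁ V)) r).2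
      ⟨fun k hk => congrArg (fun I : Y.IdealSheafData => I.ideal ⟨V, hV⟩) (h0 k hk),
       fun k hk => congrArg (fun I : Y.IdealSheafData => I.ideal ⟨V, hV⟩) (h1 k hk)⟩
    have hP : Module.Projective Γ(Y, V) Γ(X, f ⁻¹ᵁ V) :=
      FittLib.projective_of_locallyFree _ fun p _ => by
        obtain ⟨a, ha, hfree, -⟩ := hl p
        exact ⟨a, ha, hfree⟩
    have : Module.Flat Γ(Y, V) Γ(X, f ⁻¹ᵁ V) := Module.Flat.of_projective
    refine ⟨hP, fun p => ?_⟩
    · obtain ⟨a, ha, hfree, hrank⟩ := hl p.asIdeal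
      obtain ⟨q, rfl⟩ : ∃ q : PrimeSpectrum (Localization.Away a), q.comap (algebraMap _ _) = p := by
        have : p ∈ Set.range (PrimeSpectrum.comap (algebraMap Γ(Y, V) (Localization.Away a))) := by
          rw [PrimeSpectrum.localization_away_comap_range (Localization.Away a) a]
          exact ha
        exact this
      rw [← Module.rankAtStalk_isBaseChange (IsLocalizedModule.isBaseChange (Submonoid.powers a)
        (Localization.Away a) (LocalizedModule.mkLinearMap (Submonoid.powers a) _)) q,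
        Module.rankAtStalk_eq_finrank_of_free, hrank]
      rfl
  have hres : ∀ V : Y.affineOpens, Flat (f ∣_ V.1) ∧ LocallyOfFinitePresentation (f ∣_ V.1) := fun V => by
    have : IsAffine V.1.toScheme := V.2
    have : IsAffine (f ⁻¹ᵁ V.1).toScheme := V.2.preimage f
    have hV : IsAffineOpen (V.1.ι ''ᵁ ⊤) := (isAffineOpen_top V.1.toScheme).image_of_isOpenImmersion _
    let _ := (f.app (V.1.ι ''ᵁ ⊤)).hom.toAlgebra
    have : Module.Finite Γ(Y, V.1.ι ''ᵁ ⊤) Γ(X, f ⁻¹ᵁ (V.1.ι ''ᵁ ⊤)) := IsFinite.finite_app f _ hV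
    obtain ⟨hproj, -⟩ := key _ hV
    have := Module.finitePresentation_of_projective Γ(Y, V.1.ι ''ᵁ ⊤) Γ(X, f ⁻¹ᵁ (V.1.ι ''ᵁ ⊤))
    have h1 : (f.app (V.1.ι ''ᵁ ⊤)).hom.Flat := Module.Flat.of_projective
    have h2 : (f.app (V.1.ι ''ᵁ ⊤)).hom.FinitePresentation :=
      Algebra.FinitePresentation.of_finitePresentation Γ(Y, V.1.ι ''ᵁ ⊤) Γ(X, f ⁻¹ᵁ (V.1.ι ''ᵁ ⊤))
    have hb : ∀ {A B : CommRingCat.{u}} (φ : A ⟶ B) [IsIso φ], Function.Bijective φ.hom :=
      fun φ _ => ConcreteCategory.bijective_of_isIso φ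
    constructor
    · rw [HasRingHomProperty.iff_of_isAffine (P := @Flat), morphismRestrict_appTop]
      exact RingHom.Flat.respectsIso.cancel_right_isIso _ _ |>.2 h1
    · rw [HasRingHomProperty.iff_of_isAffine (P := @LocallyOfFinitePresentation), morphismRestrict_appTop]
      exact RingHom.finitePresentation_respectsIso.cancel_right_isIso _ _ |>.2 h2
  have hfl : Flat f := (IsZariskiLocalAtTarget.iff_of_iSup_eq_top (P := @Flat)
    (fun V : Y.affineOpens => V.1) (iSup_affineOpens_eq_top Y)).2 fun V => (hres V).1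
  refine ⟨hfl, (IsZariskiLocalAtTarget.iff_of_iSup_eq_top (P := @LocallyOfFinitePresentation)
    (fun V : Y.affineOpens => V.1) (iSup_affineOpens_eq_top Y)).2 fun V => (hres V).2, fun y => ?_⟩
  obtain ⟨V, hV, hyV, -⟩ := exists_isAffineOpen_mem_and_subset (x := y) (U := ⊤) trivial
  have hU : IsAffineOpen (f ⁻¹ᵁ V) := hV.preimage f
  have sq : IsPullback hU.fromSpec (Spec.map (f.app V)) f hV.fromSpec := by
    refine (IsOpenImmersion.isPullback (Spec.map (f.app V)) hU.fromSpec hV.fromSpec f ?_ ?_).flip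
    · rw [Scheme.Hom.app_eq_appLE, IsAffineOpen.SpecMap_appLE_fromSpec]
    · rw [IsAffineOpen.opensRange_fromSpec, IsAffineOpen.opensRange_fromSpec]
  obtain ⟨p, rfl⟩ : y ∈ Set.range hV.fromSpec := by rw [hV.range_fromSpec]; exact hyV
  let _ := (f.app V).hom.toAlgebra
  obtain ⟨hproj, hrank⟩ := key V hV
  have : Module.Finite Γ(Y, V) Γ(X, f ⁻¹ᵁ V) := IsFinite.finite_app f V hV
  rw [← Scheme.Hom.finrank_of_isPullback _ _ _ _ sq p]
  refine (congrFun (Scheme.Hom.finrank_SpecMap_eq_finrank (IsFinite.finite_app f V hV)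
    (show (f.app V).hom.Flat from Module.Flat.of_projective)) p).trans ?_
  rw [← RingHom.algebraMap_toAlgebra (f.app V).hom, RingHom.finrank_algebraMap]
  exact hrank p

end Groth.Agent.GrpdLib.FitStrat
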