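import Groth.Prelude.Def_QuotSh
import Mathlib.CategoryTheory.Sites.RegularEpi
import Mathlib.CategoryTheory.Sites.EpiMono
import Mathlib.CategoryTheory.Limits.Constructions.Over.Connected

/-!
# An epimorphism with covered kernel pair presents the quotient sheaf
-/

set_option autoImplicit false
set_option backward.isDefEq.respectTransparency.types false

universe u

open CategoryTheory CategoryTheory.Limits AlgebraicGeometry

namespace Groth.Agent.GrpdLib.EpiQuot

variable {K : Precoverage Scheme.{u}} {S : Scheme.{u}}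

/-- The functor `V ↦ h_V`. -/
noncomputable abbrev repFunctor (K : Precoverage Scheme.{u}) (S : Scheme.{u}) : Over S ⥤ QuotSh.Sh K S :=
  (yoneda ⋙ (Functor.whiskeringRight _ _ _).obj uliftFunctor.{u + 1, u}) ⋙ presheafToSheaf (QuotSh.J K S) (Type (u + 1))

theorem isQuotient_of_epi {R U M P : Over S} (s t : R ⟶ U) (q : U ⟶ M) (w : s ≫ q = t ≫ q)
    {a b : P ⟶ U} (sq : IsPullback a b q q) (l : R ⟶ P) (hla : l ≫ a = t) (hlb : l ≫ b = s)
    (hq : Epi (QuotSh.repMap K q)) (hl : Epi (QuotSh.repMap K l)) : QuotSh.IsQuotient K s t q := by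
  have sq' : IsPullback (QuotSh.repMap K a) (QuotSh.repMap K b) (QuotSh.repMap K q) (QuotSh.repMap K q) :=
    sq.map (repFunctor K S)
  haveI : IsRegularEpi (QuotSh.repMap K q) :=
    IsRegularEpiCategory.regularEpiOfEpi (QuotSh.repMap K q)
  haveI : EffectiveEpi (QuotSh.repMap K q) := (isRegularEpi_iff_effectiveEpi _).1 inferInstance
  let hc := isColimitCoforkOfEffectiveEpi (QuotSh.repMap K q) (PullbackCone.mk _ _ sq'.w) sq'.isLimit
  have hs : QuotSh.repMap K s = QuotSh.repMap K l ≫ QuotSh.repMap K b := by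
    rw [← hlb]; exact (repFunctor K S).map_comp l b
  have ht : QuotSh.repMap K t = QuotSh.repMap K l ≫ QuotSh.repMap K a := by
    rw [← hla]; exact (repFunctor K S).map_comp l a
  have hab : QuotSh.repMap K a ≫ QuotSh.quotπ K s t = QuotSh.repMap K b ≫ QuotSh.quotπ K s t := by
    rw [← cancel_epi (QuotSh.repMap K l), ← Category.assoc, ← Category.assoc, ← hs, ← ht, QuotSh.quot_condition]
  refine ⟨w, ?_⟩
  have hd : QuotSh.quotπ K s t ≫ QuotSh.quotDesc K q w = QuotSh.repMap K q := coequalizer.π_desc _ _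
  obtain ⟨g, hg⟩ : ∃ g, QuotSh.repMap K q ≫ g = QuotSh.quotπ K s t :=
    ⟨hc.desc (Cofork.ofπ (QuotSh.quotπ K s t) hab), hc.fac _ WalkingParallelPair.one⟩
  refine ⟨g, ?_, ?_⟩
  · apply coequalizer.hom_ext
    change QuotSh.quotπ K s t ≫ QuotSh.quotDesc K q w ≫ g = QuotSh.quotπ K s t ≫ 𝟙 _
    rw [reassoc_of% hd, hg, Category.comp_id]
  · rw [← cancel_epi (QuotSh.repMap K q), reassoc_of% hg, hd, Category.comp_id]

/-- A morphism with sections locally on a covering of the target induces an epimorphism. -/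
theorem epi_repMap_of_cover [K.IsStableUnderBaseChange] {U M : Over S} (q : U ⟶ M)
    (hq : Presieve.singleton q.left ∈ K M.left) : Epi (QuotSh.repMap K q) := by
  rw [← Sheaf.isLocallySurjective_iff_epi', Presheaf.isLocallySurjective_presheafToSheaf_map_iff]
  refine ⟨fun {T} x => ?_⟩
  let y : T ⟶ M := x.down
  have h := (K.toGrothendieck).pullback_stable y.left (Precoverage.generate_mem_toGrothendieck hq)
  rw [GrothendieckTopology.mem_over_iff]
  refine GrothendieckTopology.superset_covering _ ?_ h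
  rintro Z g ⟨W, a, b, ⟨⟩, hab⟩
  rw [Sieve.overEquiv_iff]
  exact ⟨ULift.up (Over.homMk a (by
    show a ≫ U.hom = g ≫ T.hom
    rw [← Over.w q, reassoc_of% hab, Over.w y])), congrArg ULift.up (Over.OverMorphism.ext hab)⟩

end Groth.Agent.GrpdLib.EpiQuot
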