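import Groth.Agent.GrpdLib.Orbits
import Groth.Agent.SGA3cLib.ActionPoints
import Mathlib.CategoryTheory.Monoidal.Cartesian.Over

/-!
# The groupoid scheme of an action
-/

set_option autoImplicit false
set_option backward.isDefEq.respectTransparency false
set_option backward.isDefEq.respectTransparency.types false

universe u

open CategoryTheory CategoryTheory.Limits AlgebraicGeometry MonoidalCategory CartesianMonoidalCategory MonObj
open Groth.Agent.SGA3cLib

namespace Groth.Agent.GrpdLib.ActGrpd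

variable {S : Scheme.{u}} {G X : Over S} [GrpObj G] (a : AlgGrp.Action G X)

/-- Pairs of composable arrows. -/
noncomputable abbrev P : Over S :=
  Over.mk (pullback.fst (snd G X).left a.act.left ≫ (G ⊗ X).hom)

noncomputable def α₀ : P a ⟶ G ⊗ X := Over.homMk (pullback.fst _ _) rfl

noncomputable def β₀ : P a ⟶ G ⊗ X := Over.homMk (pullback.snd _ _) (by
  show pullback.snd (snd G X).left a.act.left ≫ (G ⊗ X).hom = pullback.fst _ _ ≫ (G ⊗ X).hom
  conv_lhs => rw [← Over.w a.act, ← Category.assoc, ← pullback.condition, Category.assoc, Over.w (snd G X)])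

theorem cond₀ : α₀ a ≫ snd G X = β₀ a ≫ a.act := Over.OverMorphism.ext pullback.condition

/-- Composition of arrows `(g, h x) ∘ (h, x) = (g h, x)`. -/
noncomputable def mulArrow {T : Over S} (α β : T ⟶ G ⊗ X) : T ⟶ G ⊗ X :=
  lift ((α ≫ fst G X) * (β ≫ fst G X)) (β ≫ snd G X)

theorem comp_mulArrow {T T' : Over S} (l : T' ⟶ T) (α β : T ⟶ G ⊗ X) :
    l ≫ mulArrow α β = mulArrow (l ≫ α) (l ≫ β) := by
  simp [mulArrow, comp_lift, MonObj.comp_mul]

theorem act_eq {T : Over S} (α : T ⟶ G ⊗ X) :
    α ≫ a.act = smulPt a (α ≫ fst G X) (α ≫ snd G X) := by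
  rw [smulPt, ← comp_lift, lift_fst_snd, Category.comp_id]

theorem exists_over {T : Scheme.{u}} (α : T ⟶ (G ⊗ X).left) :
    ∃ (p : T ⟶ S) (α' : Over.mk p ⟶ G ⊗ X), α'.left = α := ⟨α ≫ (G ⊗ X).hom, Over.homMk α rfl, rfl⟩

theorem over_eq {T : Scheme.{u}} {α β : T ⟶ (G ⊗ X).left} (h : α ≫ (snd G X).left = β ≫ a.act.left) :
    β ≫ (G ⊗ X).hom = α ≫ (G ⊗ X).hom := by
  rw [← Over.w a.act, ← Category.assoc, ← h, Category.assoc, Over.w (snd G X), Over.w a.act]

/-- Composition on `T`-points. -/
theorem lift_c {T : Over S} (α β : T ⟶ G ⊗ X) (h : α.left ≫ (snd G X).left = β.left ≫ a.act.left) :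
    pullback.lift α.left β.left h ≫ (mulArrow (α₀ a) (β₀ a)).left = (mulArrow α β).left := by
  let l : T ⟶ P a := Over.homMk (pullback.lift α.left β.left h) (by
    show pullback.lift α.left β.left h ≫ pullback.fst _ _ ≫ (G ⊗ X).hom = T.hom
    rw [pullback.lift_fst_assoc, Over.w α])
  have h1 : l ≫ α₀ a = α := Over.OverMorphism.ext (pullback.lift_fst _ _ _)
  have h2 : l ≫ β₀ a = β := Over.OverMorphism.ext (pullback.lift_snd _ _ _)
  conv_rhs => rw [← h1, ← h2, ← comp_mulArrow, Over.comp_left]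
  rfl

theorem mulArrow_snd {T : Over S} (α β : T ⟶ G ⊗ X) : mulArrow α β ≫ snd G X = β ≫ snd G X := lift_snd _ _

theorem mulArrow_act {T : Over S} (α β : T ⟶ G ⊗ X) (h : α ≫ snd G X = β ≫ a.act) :
    mulArrow α β ≫ a.act = α ≫ a.act := by
  rw [act_eq, act_eq a α]
  simp only [mulArrow, lift_fst, lift_snd, mul_smulPt]
  rw [← act_eq a β, ← h]

/-- The unit arrow at a point. -/
noncomputable def unitArrow : X ⟶ G ⊗ X := lift 1 (𝟙 X)

theorem comp_unitArrow {T : Over S} (x : T ⟶ X) : x ≫ unitArrow = (lift 1 x : T ⟶ G ⊗ X) := by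
  simp [unitArrow, comp_lift, MonObj.comp_one]

/-- The inverse arrow. -/
noncomputable def invArrow : G ⊗ X ⟶ G ⊗ X := lift (fst G X)⁻¹ a.act

theorem comp_invArrow {T : Over S} (α : T ⟶ G ⊗ X) :
    α ≫ invArrow a = lift (α ≫ fst G X)⁻¹ (α ≫ a.act) := by
  simp [invArrow, comp_lift, GrpObj.comp_inv]

/-- The groupoid scheme of an action. -/
noncomputable def grpd : Grpd.GroupoidScheme S where
  U := X.left
  R := (G ⊗ X).left
  pU := X.hom
  pR := (G ⊗ X).hom
  s := (snd G X).left
  t := a.act.left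
  e := (unitArrow (G := G) (X := X)).left
  i := (invArrow a).left
  c := (mulArrow (α₀ a) (β₀ a)).left
  s_over := Over.w (snd G X)
  t_over := Over.w a.act
  comp_s α β h := by
    obtain ⟨p, α, rfl⟩ := exists_over α
    let β' : Over.mk p ⟶ G ⊗ X := Over.homMk β ((over_eq a h).trans (Over.w α))
    erw [lift_c a α β' h, ← Over.comp_left, mulArrow_snd, Over.comp_left]
    rfl
  comp_t α β h := by
    obtain ⟨p, α, rfl⟩ := exists_over α
    let β' : Over.mk p ⟶ G ⊗ X := Over.homMk β ((over_eq a h).trans (Over.w α))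
    erw [lift_c a α β' h, ← Over.comp_left, mulArrow_act a α β' (Over.OverMorphism.ext h), Over.comp_left]
  assoc α β γ h₁ h₂ := by
    obtain ⟨p, α, rfl⟩ := exists_over α
    let β' : Over.mk p ⟶ G ⊗ X := Over.homMk β ((over_eq a h₁).trans (Over.w α))
    let γ' : Over.mk p ⟶ G ⊗ X :=
      Over.homMk γ ((over_eq a h₂).trans ((over_eq a h₁).trans (Over.w α)))
    have e1 : pullback.lift α.left β h₁ ≫ (mulArrow (α₀ a) (β₀ a)).left = (mulArrow α β').left := lift_c a α β' h₁
    have e2 : pullback.lift β γ h₂ ≫ (mulArrow (α₀ a) (β₀ a)).left = (mulArrow β' γ').left := lift_c a β' γ' h₂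
    have e3 := lift_c a (mulArrow α β') γ' (by
      rw [← Over.comp_left, mulArrow_snd, Over.comp_left]; exact h₂)
    have e4 := lift_c a α (mulArrow β' γ') (by
      rw [← Over.comp_left, ← Over.comp_left, mulArrow_act a β' γ' (Over.OverMorphism.ext h₂)]; exact h₁)
    have e5 : mulArrow (mulArrow α β') γ' = mulArrow α (mulArrow β' γ') := by
      simp [mulArrow, _root_.mul_assoc]
    refine Eq.trans ?_ (e3.trans ((congrArg (fun m => m.left) e5).trans (e4.symm.trans ?_)))
    · exact congrArg (· ≫ _) (pullback.hom_ext (by simp only [pullback.lift_fst]; exact e1) (by simp [γ']))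
    · exact congrArg (· ≫ _) (pullback.hom_ext (by simp) (by simp only [pullback.lift_snd]; exact e2.symm))
  e_s := by rw [← Over.comp_left, unitArrow, lift_snd]; rfl
  e_t := by
    rw [← Over.comp_left, show unitArrow ≫ a.act = smulPt a 1 (𝟙 X) from rfl, one_smulPt]; rfl
  comp_e α := by
    obtain ⟨p, α, rfl⟩ := exists_over α
    let β' : Over.mk p ⟶ G ⊗ X := α ≫ snd G X ≫ unitArrow
    have hc : α ≫ snd G X = β' ≫ a.act := by
      simp only [β', Category.assoc]
      rw [show (unitArrow : X ⟶ G ⊗ X) ≫ a.act = smulPt a 1 (𝟙 X) from rfl, one_smulPt, Category.comp_id]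
    refine Eq.trans (congrArg (· ≫ _) (pullback.hom_ext ?_ ?_)) ((lift_c a α β' (congrArg (fun m => m.left) hc)).trans
      (congrArg (fun m => m.left) (show mulArrow α β' = α from ?_)))
    · simp
    · simp [β']
    · apply hom_ext <;> simp [mulArrow, β', comp_unitArrow, ← Category.assoc]
  e_comp α := by
    obtain ⟨p, α, rfl⟩ := exists_over α
    let β' : Over.mk p ⟶ G ⊗ X := α ≫ a.act ≫ unitArrow
    have hc : β' ≫ snd G X = α ≫ a.act := by simp [β', unitArrow]
    refine Eq.trans (congrArg (· ≫ _) (pullback.hom_ext ?_ ?_)) ((lift_c a β' α (congrArg (fun m => m.left) hc)).trans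
      (congrArg (fun m => m.left) (show mulArrow β' α = α from ?_)))
    · simp [β']
    · simp
    · apply hom_ext <;> simp [mulArrow, β', comp_unitArrow, ← Category.assoc]
  i_s := by rw [← Over.comp_left, invArrow, lift_snd]
  i_t := by
    rw [← Over.comp_left, show invArrow a ≫ a.act = smulPt a (fst G X)⁻¹ a.act from rfl]
    have h : a.act = smulPt a (fst G X) (snd G X) := by rw [smulPt, lift_fst_snd, Category.id_comp]
    conv_lhs => rw [h, inv_smulPt]
  comp_i α := by
    obtain ⟨p, α, rfl⟩ := exists_over α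
    let β' : Over.mk p ⟶ G ⊗ X := α ≫ invArrow a
    have hc : α ≫ snd G X = β' ≫ a.act := by
      simp only [β']
      rw [comp_invArrow, ← smulPt, act_eq a α, inv_smulPt]
    refine Eq.trans (congrArg (· ≫ _) (pullback.hom_ext ?_ ?_)) ((lift_c a α β' (congrArg (fun m => m.left) hc)).trans
      ((congrArg (fun m => m.left) (show mulArrow α β' = α ≫ a.act ≫ unitArrow from ?_)).trans (Over.comp_left ..)))
    · simp
    · simp [β']
    · rw [← Category.assoc, comp_unitArrow]
      apply hom_ext <;> simp [mulArrow, β', comp_invArrow]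
  i_comp α := by
    obtain ⟨p, α, rfl⟩ := exists_over α
    let β' : Over.mk p ⟶ G ⊗ X := α ≫ invArrow a
    have hc : β' ≫ snd G X = α ≫ a.act := by simp [β', invArrow]
    refine Eq.trans (congrArg (· ≫ _) (pullback.hom_ext ?_ ?_)) ((lift_c a β' α (congrArg (fun m => m.left) hc)).trans
      ((congrArg (fun m => m.left) (show mulArrow β' α = α ≫ snd G X ≫ unitArrow from ?_)).trans (Over.comp_left ..)))
    · simp [β']
    · simp
    · rw [← Category.assoc, comp_unitArrow]
      apply hom_ext <;> simp [mulArrow, β', comp_invArrow]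

end Groth.Agent.GrpdLib.ActGrpd
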