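import Mathlib.AlgebraicGeometry.Morphisms.Integral
import Mathlib.AlgebraicGeometry.Cover.Open
import Mathlib.RingTheory.Localization.Away.Basic

/-!
# Surjective maps of affine schemes injective on functions are epimorphisms
-/

set_option autoImplicit false

universe u

open CategoryTheory CategoryTheory.Limits AlgebraicGeometry

namespace Groth.Agent.GrpdLib

/-- Two morphisms out of an affine scheme into an affine scheme agreeing after an injective ring map agree. -/
theorem eq_of_specMap_comp_of_isAffine {C A : CommRingCat.{u}} (φ : C ⟶ A) (hφ : Function.Injective φ.hom)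
    {Z : Scheme.{u}} [IsAffine Z] (h₁ h₂ : Spec C ⟶ Z) (h : Spec.map φ ≫ h₁ = Spec.map φ ≫ h₂) : h₁ = h₂ := by
  have h' : Spec.map φ ≫ h₁ ≫ Z.isoSpec.hom = Spec.map φ ≫ h₂ ≫ Z.isoSpec.hom := by
    rw [← Category.assoc, h, Category.assoc]
  obtain ⟨f₁, hf₁⟩ := Spec.map_surjective (h₁ ≫ Z.isoSpec.hom)
  obtain ⟨f₂, hf₂⟩ := Spec.map_surjective (h₂ ≫ Z.isoSpec.hom)
  rw [← hf₁, ← hf₂, ← Spec.map_comp, ← Spec.map_comp] at h'
  have h'' := Spec.map_injective h'
  rw [← cancel_mono Z.isoSpec.hom, ← hf₁, ← hf₂]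
  congr 1
  ext x
  exact hφ (RingHom.congr_fun (congrArg CommRingCat.Hom.hom h'') x)

/-- A surjective map of affine schemes which is injective on functions is an epimorphism of schemes. -/
theorem epi_specMap {C A : Type u} [CommRing C] [CommRing A] (φ : C →+* A) (hφ : Function.Injective φ)
    (hsurj : Function.Surjective (PrimeSpectrum.comap φ)) : Epi (Spec.map (CommRingCat.ofHom φ)) := by
  refine ⟨fun {Z} h₁ h₂ h => ?_⟩
  have hpt : ∀ y : Spec (CommRingCat.of C), h₁ y = h₂ y := fun y => by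
    obtain ⟨x, rfl⟩ := hsurj y
    exact congrArg (fun f : Spec (CommRingCat.of A) ⟶ Z => f x) h
  refine Scheme.hom_ext_of_forall _ _ fun y => ?_
  obtain ⟨_, ⟨(Za : Z.Opens), hZa, rfl⟩, hyZ, -⟩ :=
    Z.isBasis_affineOpens.exists_subset_of_mem_open (Set.mem_univ (h₁ y)) isOpen_univ
  obtain ⟨_, ⟨(c : C), rfl⟩, hyc, hc⟩ :=
    PrimeSpectrum.isTopologicalBasis_basic_opens.exists_subset_of_mem_open hyZ (h₁ ⁻¹ᵁ Za).isOpen
  let D : (Spec (CommRingCat.of C)).Opens := PrimeSpectrum.basicOpen c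
  refine ⟨D, hyc, ?_⟩
  let ιc := Spec.map (CommRingCat.ofHom (algebraMap C (Localization.Away c)))
  have hr : Set.range ιc = (PrimeSpectrum.basicOpen c : Set (PrimeSpectrum C)) :=
    PrimeSpectrum.localization_away_comap_range (Localization.Away c) c
  have hin : ∀ f : Spec (CommRingCat.of C) ⟶ Z, (∀ z, f z = h₁ z) → Set.range (ιc ≫ f) ⊆ Set.range Za.ι := by
    rintro f hf _ ⟨z, rfl⟩
    rw [Scheme.Opens.range_ι, Scheme.Hom.comp_apply, hf]
    exact hc (hr.subset ⟨z, rfl⟩)
  let l₁ := IsOpenImmersion.lift Za.ι (ιc ≫ h₁) (hin h₁ fun _ => rfl)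
  let l₂ := IsOpenImmersion.lift Za.ι (ιc ≫ h₂) (hin h₂ fun z => (hpt z).symm)
  have : IsAffine Za.toScheme := hZa
  let φc := IsLocalization.Away.map (Localization.Away c) (Localization.Away (φ c)) φ c
  have hinj : Function.Injective φc :=
    (IsLocalization.Away.map_injective_iff (S := Localization.Away c) (Q := Localization.Away (φ c)) φ c).2 fun a ha => ⟨0, by rw [pow_zero, one_mul]; exact hφ (ha.trans (map_zero φ).symm)⟩
  have key : l₁ = l₂ := by
    refine eq_of_specMap_comp_of_isAffine (CommRingCat.ofHom φc) hinj l₁ l₂ ?_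
    rw [← cancel_mono Za.ι, Category.assoc, Category.assoc, IsOpenImmersion.lift_fac, IsOpenImmersion.lift_fac,
      ← Category.assoc, ← Category.assoc, ← Spec.map_comp]
    rw [show CommRingCat.ofHom (algebraMap C (Localization.Away c)) ≫ CommRingCat.ofHom φc =
      CommRingCat.ofHom φ ≫ CommRingCat.ofHom (algebraMap A (Localization.Away (φ c))) from
      CommRingCat.hom_ext (IsLocalization.map_comp (M := Submonoid.powers c) (T := Submonoid.powers (φ c)) (S := Localization.Away c) (Q := Localization.Away (φ c)) (g := φ) (by rintro x ⟨n, rfl⟩; exact ⟨n, by simp⟩)), Spec.map_comp, Category.assoc, Category.assoc, h]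
  have hι : ιc ≫ h₁ = ιc ≫ h₂ := by
    rw [← IsOpenImmersion.lift_fac Za.ι (ιc ≫ h₁) (hin h₁ fun _ => rfl),
      ← IsOpenImmersion.lift_fac Za.ι (ιc ≫ h₂) (hin h₂ fun z => (hpt z).symm)]
    exact congrArg (· ≫ Za.ι) key
  have hrange : ιc.opensRange = D := TopologicalSpace.Opens.ext hr
  rw [← hrange, ← cancel_epi ιc.isoOpensRange.hom]
  simpa [Scheme.Hom.isoOpensRange_hom_ι_assoc] using hι

end Groth.Agent.GrpdLib
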