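import Mathlib.AlgebraicGeometry.Morphisms.UniversallyOpen
import Groth.Agent.GrpdLib.EpiSpec
import Groth.Agent.GrpdLib.OrbitScheme
import Groth.Agent.GrpdLib.Orbits

/-!
# The categorical quotient of an affine finite locally free groupoid
-/

set_option autoImplicit false

universe u

open CategoryTheory CategoryTheory.Limits AlgebraicGeometry

namespace Groth.Agent.GrpdLib

set_option maxHeartbeats 800000

variable {S : Scheme.{u}} (G : Grpd.GroupoidScheme S)

/-- A morphism on an open of the objects is invariant if it takes equal values at the two ends of arrows. -/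
def Eqz {Z : Scheme.{u}} (W : G.U.Opens) (g : W.toScheme ⟶ Z) : Prop :=
  ∀ ⦃T : Scheme.{u}⦄ (a b : T ⟶ W.toScheme) (r : T ⟶ G.R),
    r ≫ G.t = a ≫ W.ι → r ≫ G.s = b ≫ W.ι → a ≫ g = b ≫ g

theorem eqz_homOfLE {Z : Scheme.{u}} {W W' : G.U.Opens} (h : W' ≤ W) (g : W.toScheme ⟶ Z) (hg : Eqz G W g) :
    Eqz G W' (G.U.homOfLE h ≫ g) := fun T a b r ha hb => by
  rw [← Category.assoc, ← Category.assoc]
  exact hg _ _ r (by rw [Category.assoc, Scheme.homOfLE_ι, ha]) (by rw [Category.assoc, Scheme.homOfLE_ι, hb])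

theorem lift_apply {X Y T : Scheme.{u}} (j : Y ⟶ X) [IsOpenImmersion j] (f : T ⟶ X)
    (h : Set.range f ⊆ Set.range j) (x : T) : j (IsOpenImmersion.lift j f h x) = f x := by
  rw [← Scheme.Hom.comp_apply, IsOpenImmersion.lift_fac]

variable [IsAffine G.U] [IsAffine G.R]

/-- The map between localisations at an invariant function. -/
noncomputable def locSub (c : G.invariants) : Localization.Away c →+* Localization.Away (c : Γ(G.U, ⊤)) :=
  IsLocalization.Away.map (Localization.Away c) (Localization.Away (G.invariants.subtype c)) G.invariants.subtype c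

theorem locSub_comp (c : G.invariants) :
    (locSub G c).comp (algebraMap G.invariants (Localization.Away c)) =
      (algebraMap Γ(G.U, ⊤) (Localization.Away (c : Γ(G.U, ⊤)))).comp G.invariants.subtype :=
  IsLocalization.map_comp (M := Submonoid.powers c) (T := Submonoid.powers (G.invariants.subtype c)) (S := Localization.Away c)
    (Q := Localization.Away (G.invariants.subtype c)) (g := G.invariants.subtype) (by rintro x ⟨n, rfl⟩; exact ⟨n, by simp⟩)

theorem locSub_injective (c : G.invariants) : Function.Injective (locSub G c) :=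
  (IsLocalization.Away.map_injective_iff (S := Localization.Away c)
    (Q := Localization.Away (G.invariants.subtype c)) G.invariants.subtype c).2 fun a ha =>
      ⟨0, by rw [pow_zero, one_mul]; exact Subtype.val_injective ha⟩

/-- The inclusion of a principal open of objects. -/
noncomputable def locA (c : G.invariants) : Spec (CommRingCat.of (Localization.Away (c : Γ(G.U, ⊤)))) ⟶ G.U :=
  pt G.U (algebraMap Γ(G.U, ⊤) (Localization.Away (c : Γ(G.U, ⊤))))

/-- The inclusion of a principal open of the quotient. -/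
noncomputable def locC (c : G.invariants) :
    Spec (CommRingCat.of (Localization.Away c)) ⟶ Spec (CommRingCat.of G.invariants) :=
  Spec.map (CommRingCat.ofHom (algebraMap G.invariants (Localization.Away c)))

instance (c : G.invariants) : IsOpenImmersion (locC G c) := inferInstanceAs (IsOpenImmersion (Spec.map _))

instance (c : G.invariants) : IsOpenImmersion (locA G c) := by
  unfold locA pt
  infer_instance

theorem locA_toQuot (c : G.invariants) :
    locA G c ≫ G.toQuot = Spec.map (CommRingCat.ofHom (locSub G c)) ≫ locC G c := by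
  rw [locA, pt_toQuot, locC, ← Spec.map_comp]
  exact congrArg (fun f => Spec.map (CommRingCat.ofHom f)) (locSub_comp G c).symm

/-- The principal open of the quotient. -/
noncomputable def basicC (c : G.invariants) : (Spec (CommRingCat.of G.invariants)).Opens := PrimeSpectrum.basicOpen c

theorem opensRange_locC (c : G.invariants) : (locC G c).opensRange = basicC G c :=
  TopologicalSpace.Opens.ext (PrimeSpectrum.localization_away_comap_range (Localization.Away c) c)

theorem opensRange_locA (c : G.invariants) : (locA G c).opensRange = G.toQuot ⁻¹ᵁ basicC G c := by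
  refine TopologicalSpace.Opens.ext (Set.ext fun x => ?_)
  have h := PrimeSpectrum.localization_away_comap_range (Localization.Away (c : Γ(G.U, ⊤))) (c : Γ(G.U, ⊤))
  refine Iff.trans ?_ (Set.ext_iff.1 h (G.U.isoSpec.hom x))
  let F := Spec.map (CommRingCat.ofHom (algebraMap Γ(G.U, ⊤) (Localization.Away (c : Γ(G.U, ⊤)))))
  show x ∈ Set.range ⇑(F ≫ G.U.isoSpec.inv) ↔ G.U.isoSpec.hom x ∈ Set.range ⇑F
  rw [Scheme.Hom.comp_base, TopCat.coe_comp, Set.range_comp]
  constructor
  · rintro ⟨z, hz, rfl⟩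
    rw [← Scheme.Hom.comp_apply G.U.isoSpec.inv, Iso.inv_hom_id]
    exact hz
  · intro hz
    refine ⟨_, hz, ?_⟩
    rw [← Scheme.Hom.comp_apply G.U.isoSpec.hom, Iso.hom_inv_id]
    rfl

variable [IsFinite G.s] [Flat G.s] [LocallyOfFinitePresentation G.s]

theorem comap_locSub_surjective (c : G.invariants) : Function.Surjective (PrimeSpectrum.comap (locSub G c)) := by
  intro z
  obtain ⟨x, hx⟩ := (toQuot_surjective_and_fibres G).1.1 (locC G c z)
  have hmem : x ∈ (locA G c).opensRange := by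
    rw [opensRange_locA]
    show G.toQuot x ∈ basicC G c
    rw [hx, ← opensRange_locC]
    exact ⟨z, rfl⟩
  obtain ⟨w, rfl⟩ := hmem
  refine ⟨w, (locC G c).isOpenEmbedding.injective ?_⟩
  rw [← hx, ← Scheme.Hom.comp_apply (locA G c), locA_toQuot]
  rfl

theorem morphismRestrict_homOfLE {X Y : Scheme.{u}} (f : X ⟶ Y) {O O' : Y.Opens} (h : O' ≤ O) :
    (f ∣_ O') ≫ Y.homOfLE h = X.homOfLE (f.preimage_mono h) ≫ (f ∣_ O) := by
  rw [← cancel_mono O.ι, Category.assoc, Scheme.homOfLE_ι, morphismRestrict_ι, Category.assoc, morphismRestrict_ι,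
    Scheme.homOfLE_ι_assoc]

/-- The quotient map is an epimorphism over every open of the quotient. -/
theorem epi_toQuot_restrict (O : (Spec (CommRingCat.of G.invariants)).Opens) : Epi (G.toQuot ∣_ O) := by
  refine ⟨fun {Z} h₁ h₂ h => Scheme.hom_ext_of_forall _ _ fun y => ?_⟩
  obtain ⟨_, ⟨(c : G.invariants), rfl⟩, hyc, hc⟩ :=
    PrimeSpectrum.isTopologicalBasis_basic_opens.exists_subset_of_mem_open (show O.ι y ∈ (O : Set _) from y.2)
      O.isOpen
  have hcO : basicC G c ≤ O := hc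
  let l := IsOpenImmersion.lift O.ι (locC G c) (by
    rw [Scheme.Opens.range_ι]
    exact fun z hz => hc ((opensRange_locC G c).le hz))
  let m := IsOpenImmersion.lift (G.toQuot ⁻¹ᵁ O).ι (locA G c) (by
    rw [Scheme.Opens.range_ι]
    exact fun z hz => hc ((opensRange_locA G c).le hz))
  have hsq : m ≫ (G.toQuot ∣_ O) = Spec.map (CommRingCat.ofHom (locSub G c)) ≫ l := by
    rw [← cancel_mono O.ι, Category.assoc, morphismRestrict_ι, ← Category.assoc, IsOpenImmersion.lift_fac,
      locA_toQuot, Category.assoc, IsOpenImmersion.lift_fac]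
  have he := epi_specMap (locSub G c) (locSub_injective G c) (comap_locSub_surjective G c)
  have hl : l ≫ h₁ = l ≫ h₂ := by
    rw [← cancel_epi (Spec.map (CommRingCat.ofHom (locSub G c))), ← Category.assoc, ← Category.assoc, ← hsq,
      Category.assoc, Category.assoc, h]
  have : IsOpenImmersion l := by
    have : IsOpenImmersion (l ≫ O.ι) := by rw [IsOpenImmersion.lift_fac]; infer_instance
    exact IsOpenImmersion.of_comp l O.ι
  refine ⟨l.opensRange, ?_, ?_⟩
  · have hy : O.ι y ∈ (locC G c).opensRange := (opensRange_locC G c).ge hyc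
    obtain ⟨z, hz⟩ := hy
    refine ⟨z, O.ι.isOpenEmbedding.injective ?_⟩
    rw [← Scheme.Hom.comp_apply, IsOpenImmersion.lift_fac]
    exact hz
  · rw [← cancel_epi l.isoOpensRange.hom]
    simpa [Scheme.Hom.isoOpensRange_hom_ι_assoc] using hl

/-- An element of the localised objects with equal images at both ends is a fraction of invariants. -/
theorem mem_range_locSub (c : G.invariants) (v : Localization.Away (c : Γ(G.U, ⊤)))
    (σ τ : Localization.Away (c : Γ(G.U, ⊤)) →+* Localization.Away (G.s.appTop.hom c))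
    (hσ : σ.comp (algebraMap _ _) = (algebraMap Γ(G.R, ⊤) _).comp G.s.appTop.hom)
    (hτ : τ.comp (algebraMap _ _) = (algebraMap Γ(G.R, ⊤) _).comp G.t.appTop.hom) (hv : σ v = τ v) :
    v ∈ (locSub G c).range := by
  obtain ⟨n, a, ha⟩ := IsLocalization.Away.surj (c : Γ(G.U, ⊤)) v
  have hc : G.s.appTop.hom c = G.t.appTop.hom c := c.2
  have h1 : algebraMap Γ(G.R, ⊤) (Localization.Away (G.s.appTop.hom c)) (G.s.appTop.hom a) =
      algebraMap Γ(G.R, ⊤) _ (G.t.appTop.hom a) := by
    have hσ' : ∀ x, σ (algebraMap _ _ x) = algebraMap Γ(G.R, ⊤) _ (G.s.appTop.hom x) := RingHom.congr_fun hσ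
    have hτ' : ∀ x, τ (algebraMap _ _ x) = algebraMap Γ(G.R, ⊤) _ (G.t.appTop.hom x) := RingHom.congr_fun hτ
    rw [← hσ', ← hτ', ← ha, map_mul, map_mul, map_pow, map_pow, hv, hσ', hτ', ← hc]
  obtain ⟨⟨_, k, rfl⟩, hk⟩ := (IsLocalization.eq_iff_exists (Submonoid.powers (G.s.appTop.hom c)) _).1 h1
  have hinv : (c : Γ(G.U, ⊤)) ^ k * a ∈ G.invariants := by
    show G.s.appTop.hom _ = G.t.appTop.hom _
    rw [map_mul, map_mul, map_pow, map_pow, ← hc]
    exact hk
  refine ⟨algebraMap G.invariants (Localization.Away c) ⟨_, hinv⟩ *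
    IsLocalization.Away.invSelf c ^ (n + k), ?_⟩
  have hu : IsUnit (algebraMap Γ(G.U, ⊤) (Localization.Away (c : Γ(G.U, ⊤))) (c : Γ(G.U, ⊤))) :=
    IsLocalization.Away.algebraMap_isUnit _
  refine (hu.pow (n + k)).mul_left_injective ?_
  show _ * _ = _ * _
  rw [← show locSub G c (algebraMap G.invariants _ c) = algebraMap Γ(G.U, ⊤) _ (c : Γ(G.U, ⊤)) from
      RingHom.congr_fun (locSub_comp G c) c, ← map_pow, ← map_mul, mul_assoc, ← mul_pow,
    mul_comm (IsLocalization.Away.invSelf c), IsLocalization.Away.mul_invSelf, one_pow, mul_one,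
    show locSub G c (algebraMap G.invariants _ ⟨_, hinv⟩) = algebraMap Γ(G.U, ⊤) _ ((c : Γ(G.U, ⊤)) ^ k * a) from
      RingHom.congr_fun (locSub_comp G c) _,
    map_pow, show locSub G c (algebraMap G.invariants _ c) = algebraMap Γ(G.U, ⊤) _ (c : Γ(G.U, ⊤)) from
      RingHom.congr_fun (locSub_comp G c) c, map_mul, ← ha, map_pow]
  ring

/-- An invariant morphism descends to a small open around every point of the quotient. -/
theorem exists_desc_near (O : (Spec (CommRingCat.of G.invariants)).Opens) {Z : Scheme.{u}}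
    (g : (G.toQuot ⁻¹ᵁ O).toScheme ⟶ Z) (hg : Eqz G (G.toQuot ⁻¹ᵁ O) g)
    (hopen : IsOpenMap G.toQuot) (y : O) :
    ∃ (D : (Spec (CommRingCat.of G.invariants)).Opens) (hD : D ≤ O) (h : D.toScheme ⟶ Z),
      (y : Spec (CommRingCat.of G.invariants)) ∈ D ∧
        (G.toQuot ∣_ D) ≫ h = G.U.homOfLE (G.toQuot.preimage_mono hD) ≫ g := by
  classical
  obtain ⟨x, hx⟩ := (toQuot_surjective_and_fibres G).1.1 (y : Spec (CommRingCat.of G.invariants))
  have hxO : x ∈ G.toQuot ⁻¹ᵁ O := by
    show G.toQuot x ∈ O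
    rw [hx]; exact y.2
  obtain ⟨_, ⟨(Za : Z.Opens), hZa, rfl⟩, hxZ, -⟩ :=
    Z.isBasis_affineOpens.exists_subset_of_mem_open (Set.mem_univ (g ⟨x, hxO⟩)) isOpen_univ
  let V : G.U.Opens := (G.toQuot ⁻¹ᵁ O).ι ''ᵁ (g ⁻¹ᵁ Za)
  obtain ⟨_, ⟨(c : G.invariants), rfl⟩, hyc, hc⟩ :=
    PrimeSpectrum.isTopologicalBasis_basic_opens.exists_subset_of_mem_open
      (show (y : Spec (CommRingCat.of G.invariants)) ∈ ⇑G.toQuot '' (V : Set G.U) from
        ⟨x, ⟨⟨x, hxO⟩, hxZ, rfl⟩, hx⟩) (hopen _ V.isOpen)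
  have hcO : basicC G c ≤ O := fun z hz => by
    obtain ⟨u, hu, rfl⟩ := hc hz
    obtain ⟨w, -, rfl⟩ := hu
    exact w.2
  let m := IsOpenImmersion.lift (G.toQuot ⁻¹ᵁ O).ι (locA G c) (by
    rw [Scheme.Opens.range_ι]
    exact fun z hz => hcO ((opensRange_locA G c).le hz))
  have hmZ : Set.range (m ≫ g) ⊆ Set.range Za.ι := by
    rintro _ ⟨z, rfl⟩
    rw [Scheme.Opens.range_ι, Scheme.Hom.comp_apply]
    have hzc : G.toQuot (locA G c z) ∈ basicC G c := (opensRange_locA G c).le ⟨z, rfl⟩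
    obtain ⟨_, ⟨w, hwV, rfl⟩, hw⟩ := hc hzc
    obtain ⟨r, hrt, hrs⟩ := ((toQuot_surjective_and_fibres G).1.2 _ _).1 hw
    let rp : Spec (G.R.residueField r) ⟶ G.R := G.R.fromSpecResidueField r
    let k0 : Spec (G.R.residueField r) := IsLocalRing.closedPoint (G.R.residueField r)
    have hrk : rp k0 = r := Scheme.fromSpecResidueField_apply r _
    have hrange : ∀ (f : G.R ⟶ G.U) (a : (G.toQuot ⁻¹ᵁ O).toScheme), f r = (G.toQuot ⁻¹ᵁ O).ι a →
        Set.range (rp ≫ f) ⊆ Set.range (G.toQuot ⁻¹ᵁ O).ι := by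
      rintro f a ha _ ⟨q, rfl⟩
      refine ⟨a, ?_⟩
      rw [Scheme.Hom.comp_apply, show rp q = r from Scheme.fromSpecResidueField_apply r q, ha]
    have hmz : (G.toQuot ⁻¹ᵁ O).ι (m z) = locA G c z := by
      rw [← Scheme.Hom.comp_apply, IsOpenImmersion.lift_fac]
    let a := IsOpenImmersion.lift (G.toQuot ⁻¹ᵁ O).ι (rp ≫ G.t) (hrange G.t w hrt)
    let b := IsOpenImmersion.lift (G.toQuot ⁻¹ᵁ O).ι (rp ≫ G.s) (hrange G.s (m z) (hrs.trans hmz.symm))
    have hab := congrArg (fun f => f k0) (hg a b rp (IsOpenImmersion.lift_fac _ _ _).symm (IsOpenImmersion.lift_fac _ _ _).symm)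
    have haw : a k0 = w := (G.toQuot ⁻¹ᵁ O).ι.isOpenEmbedding.injective (by
      refine (lift_apply _ (rp ≫ G.t) _ k0).trans ?_
      rw [Scheme.Hom.comp_apply, hrk, hrt]
      rfl)
    have hbz : b k0 = m z := (G.toQuot ⁻¹ᵁ O).ι.isOpenEmbedding.injective (by
      refine (lift_apply _ (rp ≫ G.s) _ k0).trans ?_
      rw [Scheme.Hom.comp_apply, hrk, hrs, hmz])
    replace hab : g (a k0) = g (b k0) := hab
    rw [haw, hbz] at hab
    rw [SetLike.mem_coe, ← hab]
    exact hwV
  have : IsAffine Za.toScheme := hZa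
  let χ := ofPt (IsOpenImmersion.lift Za.ι (m ≫ g) hmZ)
  let σ : Localization.Away (c : Γ(G.U, ⊤)) →+* Localization.Away (G.s.appTop.hom c) :=
    IsLocalization.Away.lift (c : Γ(G.U, ⊤))
      (g := (algebraMap Γ(G.R, ⊤) (Localization.Away (G.s.appTop.hom c))).comp G.s.appTop.hom) (by
      rw [RingHom.comp_apply]
      exact IsLocalization.Away.algebraMap_isUnit _)
  let τ : Localization.Away (c : Γ(G.U, ⊤)) →+* Localization.Away (G.s.appTop.hom c) :=
    IsLocalization.Away.lift (c : Γ(G.U, ⊤))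
      (g := (algebraMap Γ(G.R, ⊤) (Localization.Away (G.s.appTop.hom c))).comp G.t.appTop.hom) (by
      rw [RingHom.comp_apply, show G.t.appTop.hom c = G.s.appTop.hom c from c.2.symm]
      exact IsLocalization.Away.algebraMap_isUnit _)
  have hσ : σ.comp (algebraMap _ _) = (algebraMap Γ(G.R, ⊤) _).comp G.s.appTop.hom :=
    IsLocalization.Away.lift_comp _ _
  have hτ : τ.comp (algebraMap _ _) = (algebraMap Γ(G.R, ⊤) _).comp G.t.appTop.hom :=
    IsLocalization.Away.lift_comp _ _
  let rB := pt G.R (algebraMap Γ(G.R, ⊤) (Localization.Away (G.s.appTop.hom c)))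
  have hm : ∀ (f : G.R ⟶ G.U) (φ : Localization.Away (c : Γ(G.U, ⊤)) →+* Localization.Away (G.s.appTop.hom c)),
      φ.comp (algebraMap _ _) = (algebraMap Γ(G.R, ⊤) _).comp f.appTop.hom →
      rB ≫ f = (Spec.map (CommRingCat.ofHom φ) ≫ m) ≫ (G.toQuot ⁻¹ᵁ O).ι := fun f φ hφ => by
    rw [Category.assoc, IsOpenImmersion.lift_fac, locA, ← pt_map, hφ]
    exact (pt_appTop f _).symm
  have hχ : ∀ v, σ (χ v) = τ (χ v) := by
    intro v
    have h := hg (Spec.map (CommRingCat.ofHom τ) ≫ m) (Spec.map (CommRingCat.ofHom σ) ≫ m) rB (hm G.t τ hτ)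
      (hm G.s σ hσ)
    have h' : pt Za.toScheme (σ.comp χ) = pt Za.toScheme (τ.comp χ) := by
      rw [pt_map, pt_map, pt_ofPt, ← cancel_mono Za.ι, Category.assoc, Category.assoc, IsOpenImmersion.lift_fac,
        ← Category.assoc, ← Category.assoc]
      exact h.symm
    exact RingHom.congr_fun (pt_injective h') v
  let ψ : Γ(Za.toScheme, ⊤) →+* Localization.Away c :=
    (RingEquiv.ofBijective (locSub G c).rangeRestrict
      ⟨fun a b h => locSub_injective G c (congrArg Subtype.val h), (locSub G c).rangeRestrict_surjective⟩).symm.toRingHom.comp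
      (χ.codRestrict (locSub G c).range fun v => mem_range_locSub G c (χ v) σ τ hσ hτ (hχ v))
  have hψ : (locSub G c).comp ψ = χ := RingHom.ext fun v => congrArg Subtype.val
    ((RingEquiv.ofBijective (locSub G c).rangeRestrict
      ⟨fun a b h => locSub_injective G c (congrArg Subtype.val h), (locSub G c).rangeRestrict_surjective⟩).apply_symm_apply
      (χ.codRestrict (locSub G c).range (fun v => mem_range_locSub G c (χ v) σ τ hσ hτ (hχ v)) v))
  let hC : Spec (CommRingCat.of (Localization.Away c)) ⟶ Z := pt Za.toScheme ψ ≫ Za.ι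
  have hCm : Spec.map (CommRingCat.ofHom (locSub G c)) ≫ hC = m ≫ g := by
    rw [← Category.assoc, ← pt_map, hψ, pt_ofPt, IsOpenImmersion.lift_fac]
  let eC : Spec (CommRingCat.of (Localization.Away c)) ≅ (basicC G c).toScheme :=
    (locC G c).isoOpensRange ≪≫ Scheme.isoOfEq _ (opensRange_locC G c)
  have heC : eC.hom ≫ (basicC G c).ι = locC G c := by
    simp [eC, Scheme.Hom.isoOpensRange_hom_ι]
  let eA : Spec (CommRingCat.of (Localization.Away (c : Γ(G.U, ⊤)))) ≅ (G.toQuot ⁻¹ᵁ basicC G c).toScheme :=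
    (locA G c).isoOpensRange ≪≫ Scheme.isoOfEq _ (opensRange_locA G c)
  have heA : eA.hom ≫ (G.toQuot ⁻¹ᵁ basicC G c).ι = locA G c := by
    simp [eA, Scheme.Hom.isoOpensRange_hom_ι]
  refine ⟨basicC G c, hcO, eC.inv ≫ hC, hyc, ?_⟩
  have h1 : eA.hom ≫ (G.toQuot ∣_ basicC G c) = Spec.map (CommRingCat.ofHom (locSub G c)) ≫ eC.hom := by
    rw [← cancel_mono (basicC G c).ι, Category.assoc, morphismRestrict_ι, ← Category.assoc, heA, locA_toQuot,
      Category.assoc, heC]
  have h2 : eA.hom ≫ G.U.homOfLE (G.toQuot.preimage_mono hcO) = m := by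
    rw [← cancel_mono (G.toQuot ⁻¹ᵁ O).ι, Category.assoc, Scheme.homOfLE_ι, heA, IsOpenImmersion.lift_fac]
  rw [← cancel_epi eA.hom, ← Category.assoc, h1, Category.assoc, Iso.hom_inv_id_assoc, hCm, ← Category.assoc, h2]

/-- **The quotient of an affine groupoid is categorical, universally for opens of the quotient.** -/
theorem exists_desc (O : (Spec (CommRingCat.of G.invariants)).Opens) {Z : Scheme.{u}}
    (g : (G.toQuot ⁻¹ᵁ O).toScheme ⟶ Z) (hg : Eqz G (G.toQuot ⁻¹ᵁ O) g) (hopen : IsOpenMap G.toQuot) :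
    ∃! h : O.toScheme ⟶ Z, (G.toQuot ∣_ O) ≫ h = g := by
  choose D hD h hy hh using exists_desc_near G O g hg hopen
  let 𝒰 : O.toScheme.OpenCover :=
    { I₀ := O
      X := fun y => (D y).toScheme
      f := fun y => (Spec (CommRingCat.of G.invariants)).homOfLE (hD y)
      mem₀ := by
        rw [Scheme.presieve₀_mem_precoverage_iff]
        refine ⟨fun y => ⟨y, (⟨O.ι y, hy y⟩ : D y), O.ι.isOpenEmbedding.injective ?_⟩, fun y => inferInstance⟩
        exact Scheme.homOfLE_apply (hD y) _ }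
  have hcompat : ∀ i j, pullback.fst (𝒰.f i) (𝒰.f j) ≫ h i = pullback.snd (𝒰.f i) (𝒰.f j) ≫ h j := by
    intro i j
    let P := pullback ((Spec (CommRingCat.of G.invariants)).homOfLE (hD i))
      ((Spec (CommRingCat.of G.invariants)).homOfLE (hD j))
    let E := D i ⊓ D j
    have hE : ∀ k (hk : E ≤ D k), (G.toQuot ∣_ E) ≫ (Spec (CommRingCat.of G.invariants)).homOfLE hk ≫ h k =
        G.U.homOfLE (G.toQuot.preimage_mono (hk.trans (hD k))) ≫ g := fun k hk => by
      rw [← Category.assoc, morphismRestrict_homOfLE, Category.assoc, hh, ← Category.assoc, Scheme.homOfLE_homOfLE]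
    have := epi_toQuot_restrict G E
    have heq : (Spec (CommRingCat.of G.invariants)).homOfLE (inf_le_left : E ≤ D i) ≫ h i =
        (Spec (CommRingCat.of G.invariants)).homOfLE (inf_le_right : E ≤ D j) ≫ h j := by
      rw [← cancel_epi (G.toQuot ∣_ E), hE i inf_le_left, hE j inf_le_right]
    let q : P ⟶ Spec (CommRingCat.of G.invariants) := pullback.fst _ _ ≫ (D i).ι
    have hq : q = pullback.snd _ _ ≫ (D j).ι := by
      rw [← Scheme.homOfLE_ι _ (hD j), ← Category.assoc, ← pullback.condition, Category.assoc, Scheme.homOfLE_ι]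
    let l := IsOpenImmersion.lift E.ι q (by
      rintro _ ⟨z, rfl⟩
      rw [Scheme.Opens.range_ι]
      refine ⟨((pullback.fst _ _ : P ⟶ _) z).2, ?_⟩
      rw [hq]
      exact ((pullback.snd _ _ : P ⟶ _) z).2)
    have hlE : l ≫ E.ι = q := IsOpenImmersion.lift_fac _ _ _
    have h1 : (pullback.fst _ _ : P ⟶ _) = l ≫ (Spec (CommRingCat.of G.invariants)).homOfLE (inf_le_left : E ≤ D i) := by
      rw [← cancel_mono (D i).ι, Category.assoc, Scheme.homOfLE_ι, hlE]
    have h2 : (pullback.snd _ _ : P ⟶ _) = l ≫ (Spec (CommRingCat.of G.invariants)).homOfLE (inf_le_right : E ≤ D j) := by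
      rw [← cancel_mono (D j).ι, Category.assoc, Scheme.homOfLE_ι, hlE, hq]
    show (pullback.fst _ _ : P ⟶ _) ≫ h i = (pullback.snd _ _ : P ⟶ _) ≫ h j
    rw [h1, h2, Category.assoc, Category.assoc, heq]
  have := epi_toQuot_restrict G O
  have hcov : ∀ x : (G.toQuot ⁻¹ᵁ O).toScheme,
      x ∈ (G.U.homOfLE (G.toQuot.preimage_mono (hD ((G.toQuot ∣_ O) x)))).opensRange := by
    intro x
    rw [Scheme.opensRange_homOfLE]
    show G.toQuot ((G.toQuot ⁻¹ᵁ O).ι x) ∈ D ((G.toQuot ∣_ O) x)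
    have e : O.ι ((G.toQuot ∣_ O) x) = G.toQuot ((G.toQuot ⁻¹ᵁ O).ι x) :=
      congrArg (fun f : (G.toQuot ⁻¹ᵁ O).toScheme ⟶ _ => f x) (morphismRestrict_ι G.toQuot O)
    rw [← e]
    exact hy _
  have hι : ∀ y, (Spec (CommRingCat.of G.invariants)).homOfLE (hD y) ≫ 𝒰.glueMorphisms h hcompat = h y :=
    fun y => 𝒰.ι_glueMorphisms h hcompat y
  have key : (G.toQuot ∣_ O) ≫ 𝒰.glueMorphisms h hcompat = g := by
    refine Scheme.hom_ext_of_forall _ _ fun x => ⟨_, hcov x, ?_⟩
    rw [← cancel_epi (Scheme.Hom.isoOpensRange _).hom, Scheme.Hom.isoOpensRange_hom_ι_assoc,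
      Scheme.Hom.isoOpensRange_hom_ι_assoc, ← Category.assoc, ← morphismRestrict_homOfLE G.toQuot (hD ((G.toQuot ∣_ O) x)), Category.assoc]
    exact (congrArg ((G.toQuot ∣_ D ((G.toQuot ∣_ O) x)) ≫ ·) (hι _)).trans (hh _)
  have := epi_toQuot_restrict G O
  refine ⟨𝒰.glueMorphisms h hcompat, key, fun h' h'' => ?_⟩
  rw [← cancel_epi (G.toQuot ∣_ O), h'', key]

omit [IsFinite G.s] [Flat G.s] [LocallyOfFinitePresentation G.s] in
theorem t_toQuot : G.t ≫ G.toQuot = G.s ≫ G.toQuot := by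
  have h1 : ∀ f : G.R ⟶ G.U, f ≫ G.toQuot = G.R.isoSpec.hom ≫
      Spec.map (CommRingCat.ofHom (f.appTop.hom.comp G.invariants.subtype)) := fun f => by
    rw [toQuot_eq, ← Scheme.isoSpec_hom_naturality_assoc, ← Spec.map_comp]
    rfl
  rw [h1, h1]
  exact congrArg (fun g => G.R.isoSpec.hom ≫ Spec.map (CommRingCat.ofHom g)) (RingHom.ext fun c => c.2.symm)

theorem isIntegralHom_toQuot : IsIntegralHom G.toQuot := by
  obtain ⟨p⟩ := nonempty_projPres G
  have h : G.invariants.subtype.IsIntegral := fun f => (ofScheme G).isIntegralElem p f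
  have : IsIntegralHom (Spec.map (CommRingCat.ofHom G.invariants.subtype)) := IsIntegralHom.SpecMap_iff.2 h
  rw [toQuot_eq]
  infer_instance

theorem isOpenMap_toQuot : IsOpenMap G.toQuot := by
  intro V hV
  have := isIso_i G
  have : Flat G.t := G.i_s ▸ inferInstance
  have : LocallyOfFinitePresentation G.t := G.i_s ▸ inferInstance
  have := isIntegralHom_toQuot G
  obtain ⟨hsurj, hfib⟩ := (toQuot_surjective_and_fibres G).1
  have hSat : IsOpen (⇑G.t '' (⇑G.s ⁻¹' V)) := G.t.isOpenMap _ (hV.preimage G.s.continuous)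
  have key : ⇑G.toQuot '' V = (⇑G.toQuot '' (⇑G.t '' (⇑G.s ⁻¹' V))ᶜ)ᶜ := by
    ext y
    constructor
    · rintro ⟨v, hv, rfl⟩ ⟨z, hz, hzy⟩
      obtain ⟨r, hrt, hrs⟩ := (hfib z v).1 hzy
      exact hz ⟨r, by rw [Set.mem_preimage, hrs]; exact hv, hrt⟩
    · intro hy
      obtain ⟨z, rfl⟩ := hsurj y
      by_contra hcon
      exact hy ⟨z, fun ⟨r, hr, hrz⟩ => hcon ⟨G.s r, hr, ((hfib z (G.s r)).2 ⟨r, hrz, rfl⟩).symm⟩, rfl⟩
  rw [key]
  exact (G.toQuot.isClosedMap _ hSat.isClosed_compl).isOpen_compl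

end Groth.Agent.GrpdLib
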