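import Groth.Agent.GrpdLib.Basis
import Mathlib.RingTheory.Flat.Basic
import Mathlib.RingTheory.Spectrum.Prime.FreeLocus

/-!
# Base change of an affine groupoid along an algebra over its invariants
-/

set_option autoImplicit false

universe u

open TensorProduct

namespace Groth.Agent.GrpdLib

theorem tensor_ringHom_ext {R L M T : Type u} [CommRing R] [CommRing L] [CommRing M] [CommRing T] [Algebra R L]
    [Algebra R M] {f g : L ⊗[R] M →+* T} (hl : ∀ x : L, f (x ⊗ₜ 1) = g (x ⊗ₜ 1))
    (hr : ∀ y : M, f (1 ⊗ₜ y) = g (1 ⊗ₜ y)) : f = g :=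
  RingGrpd.ext_of_left_right hl hr

namespace RingGrpd

set_option maxHeartbeats 400000

variable {A B : Type u} [CommRing A] [CommRing B] (G : RingGrpd A B)

/-- The source, linear over the invariants. -/
noncomputable def sAlg : A →ₐ[G.invariants] G.SB := IsScalarTower.toAlgHom G.invariants A G.SB

/-- The target, linear over the invariants. -/
noncomputable def tAlg : A →ₐ[G.invariants] G.SB :=
  { G.tSB with commutes' := fun c => (G.invariant_eq c.2).symm }

/-- The identity section, linear over the invariants. -/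
noncomputable def eAlg : G.SB →ₐ[G.invariants] A := G.epsilon.restrictScalars G.invariants

/-- The inverse, linear over the invariants. -/
noncomputable def iAlg : G.SB →ₐ[G.invariants] G.SB :=
  { (G.i : G.SB →+* G.SB) with
    commutes' := fun c => (RingHom.congr_fun G.i_s (c : A)).trans (show G.s (c : A) = G.t (c : A) from c.2).symm }

variable (D : Type u) [CommRing D] [Algebra G.invariants D]

/-- The base change of the objects. -/
abbrev BA : Type u := D ⊗[G.invariants] A

/-- The base change of the arrows. -/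
abbrev BB : Type u := D ⊗[G.invariants] G.SB

/-- The inclusion of arrows in their base change. -/
noncomputable def inB : B →+* G.BB D :=
  (Algebra.TensorProduct.includeRight : G.SB →ₐ[G.invariants] G.BB D).toRingHom

/-- The inclusion of coefficients in the base change of arrows. -/
noncomputable def inD : D →+* G.BB D := Algebra.TensorProduct.includeLeftRingHom

/-- The base change of a map linear over the invariants. -/
noncomputable def bmap {M N : Type u} [CommRing M] [CommRing N] [Algebra G.invariants M] [Algebra G.invariants N]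
    (f : M →ₐ[G.invariants] N) : D ⊗[G.invariants] M →+* D ⊗[G.invariants] N :=
  (Algebra.TensorProduct.map (AlgHom.id G.invariants D) f).toRingHom

theorem bmap_tmul {M N : Type u} [CommRing M] [CommRing N] [Algebra G.invariants M] [Algebra G.invariants N]
    (f : M →ₐ[G.invariants] N) (d : D) (m : M) : G.bmap D f (d ⊗ₜ m) = d ⊗ₜ f m := rfl

variable {D}

theorem compat_inB {T : Type u} [CommRing T] {α β : G.BB D →+* T}
    (h : α.comp (G.bmap D G.sAlg) = β.comp (G.bmap D G.tAlg)) :
    (α.comp (G.inB D)).comp G.s = (β.comp (G.inB D)).comp G.t :=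
  RingHom.ext fun a => RingHom.congr_fun h ((1 : D) ⊗ₜ[G.invariants] a)

theorem compat_inD {T : Type u} [CommRing T] {α β : G.BB D →+* T}
    (h : α.comp (G.bmap D G.sAlg) = β.comp (G.bmap D G.tAlg)) : α.comp (G.inD D) = β.comp (G.inD D) := by
  refine RingHom.ext fun d => ?_
  have := RingHom.congr_fun h (d ⊗ₜ[G.invariants] (1 : A))
  rwa [RingHom.comp_apply, RingHom.comp_apply, bmap_tmul, bmap_tmul, map_one, map_one] at this

/-- The composite of two base changed points. -/
noncomputable def bcomp {T : Type u} [CommRing T] (α β : G.BB D →+* T)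
    (h : α.comp (G.bmap D G.sAlg) = β.comp (G.bmap D G.tAlg)) : G.BB D →+* T :=
  liftRing (L := D) (M := G.SB) (α.comp (G.inD D))
    (G.comp (α.comp (G.inB D)) (β.comp (G.inB D)) (G.compat_inB h)) (by
      refine RingHom.ext fun c => ?_
      show G.comp _ _ (G.compat_inB h) (G.s (c : A)) = α (algebraMap G.invariants D c ⊗ₜ 1)
      rw [show G.s (c : A) = G.t (c : A) from c.2]
      refine (RingHom.congr_fun (G.comp_t _ _ (G.compat_inB h)) (c : A)).trans ?_
      show α ((1 : D) ⊗ₜ[G.invariants] G.tAlg (c : A)) = α (algebraMap G.invariants D c ⊗ₜ 1)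
      rw [show G.tAlg (c : A) = algebraMap G.invariants G.SB c from G.tAlg.commutes c,
        Algebra.algebraMap_eq_smul_one, Algebra.algebraMap_eq_smul_one, smul_tmul])

theorem bcomp_inD {T : Type u} [CommRing T] (α β : G.BB D →+* T)
    (h : α.comp (G.bmap D G.sAlg) = β.comp (G.bmap D G.tAlg)) (d : D) :
    G.bcomp α β h (d ⊗ₜ 1) = α (d ⊗ₜ 1) := by
  exact (liftRing_tmul (L := D) (M := G.SB) _ _ _ d 1).trans ((congrArg _ (map_one _)).trans (mul_one _))

theorem bcomp_inB {T : Type u} [CommRing T] (α β : G.BB D →+* T)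
    (h : α.comp (G.bmap D G.sAlg) = β.comp (G.bmap D G.tAlg)) (b : G.SB) :
    G.bcomp α β h (1 ⊗ₜ b) = G.comp (α.comp (G.inB D)) (β.comp (G.inB D)) (G.compat_inB h) b := by
  exact (liftRing_tmul (L := D) (M := G.SB) _ _ _ 1 b).trans
    ((congrArg (fun z => z * _) (map_one _)).trans (one_mul _))

theorem bcomp_comp_inB {T : Type u} [CommRing T] (α β : G.BB D →+* T)
    (h : α.comp (G.bmap D G.sAlg) = β.comp (G.bmap D G.tAlg)) :
    (G.bcomp α β h).comp (G.inB D) = G.comp (α.comp (G.inB D)) (β.comp (G.inB D)) (G.compat_inB h) :=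
  RingHom.ext fun b => G.bcomp_inB α β h b

variable (D)

/-- The base changed groupoid. -/
noncomputable def baseChange : RingGrpd (G.BA D) (G.BB D) where
  s := G.bmap D G.sAlg
  t := G.bmap D G.tAlg
  e := G.bmap D G.eAlg
  i := G.bmap D G.iAlg
  comp α β h := G.bcomp α β h
  comp_map g α β h h' := by
    refine tensor_ringHom_ext (fun d => ?_) fun b => ?_
    · simp only [RingHom.comp_apply, bcomp_inD]
    · simp only [RingHom.comp_apply, bcomp_inB]
      exact RingHom.congr_fun (G.comp_map g _ _ (G.compat_inB h) (G.compat_inB h')) b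
  comp_s α β h := by
    refine tensor_ringHom_ext (fun d => ?_) fun a => ?_
    · simp only [RingHom.comp_apply, bmap_tmul, map_one, bcomp_inD]
      exact RingHom.congr_fun (G.compat_inD h) d
    · simp only [RingHom.comp_apply, bmap_tmul, bcomp_inB]
      exact RingHom.congr_fun (G.comp_s _ _ (G.compat_inB h)) a
  comp_t α β h := by
    refine tensor_ringHom_ext (fun d => ?_) fun a => ?_
    · simp only [RingHom.comp_apply, bmap_tmul, map_one, bcomp_inD]
    · simp only [RingHom.comp_apply, bmap_tmul, bcomp_inB]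
      exact RingHom.congr_fun (G.comp_t _ _ (G.compat_inB h)) a
  assoc α β γ h₁ h₂ h₃ h₄ := by
    refine tensor_ringHom_ext (fun d => ?_) fun b => ?_
    · simp only [bcomp_inD]
    · simp only [bcomp_inB, bcomp_comp_inB]
      exact RingHom.congr_fun (G.assoc _ _ _ (G.compat_inB h₁) (G.compat_inB h₂)
        (by rw [G.comp_s]; exact G.compat_inB h₂) (by rw [G.comp_t]; exact G.compat_inB h₁)) b
  e_s := by
    refine tensor_ringHom_ext (fun d => ?_) fun a => ?_
    · simp [bmap_tmul]
    · exact congrArg ((1 : D) ⊗ₜ[G.invariants] ·) (RingHom.congr_fun G.e_s a)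
  e_t := by
    refine tensor_ringHom_ext (fun d => ?_) fun a => ?_
    · simp [bmap_tmul]
    · exact congrArg ((1 : D) ⊗ₜ[G.invariants] ·) (RingHom.congr_fun G.e_t a)
  comp_e α h := by
    refine tensor_ringHom_ext (fun d => ?_) fun b => ?_
    · simp only [bcomp_inD]
    · rw [bcomp_inB]
      refine RingHom.congr_fun ((G.comp_congr rfl ?_ _ ?_).trans (G.comp_e (α.comp (G.inB D)) ?_)) b
      · exact RingHom.ext fun x => rfl
      all_goals
        exact RingHom.ext fun x => (congrArg (fun y => (α.comp (G.inB D)) (G.s y)) (RingHom.congr_fun G.e_t x)).symm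
  e_comp α h := by
    refine tensor_ringHom_ext (fun d => ?_) fun b => ?_
    · simp [bcomp_inD, bmap_tmul]
    · rw [bcomp_inB]
      refine RingHom.congr_fun ((G.comp_congr ?_ rfl _ ?_).trans (G.e_comp (α.comp (G.inB D)) ?_)) b
      · exact RingHom.ext fun x => rfl
      all_goals
        exact RingHom.ext fun x => congrArg (fun y => (α.comp (G.inB D)) (G.t y)) (RingHom.congr_fun G.e_s x)
  i_s := by
    refine tensor_ringHom_ext (fun d => ?_) fun a => ?_
    · simp [bmap_tmul]
    · exact congrArg ((1 : D) ⊗ₜ[G.invariants] ·) (RingHom.congr_fun G.i_s a)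
  i_t := by
    refine tensor_ringHom_ext (fun d => ?_) fun a => ?_
    · simp [bmap_tmul]
    · exact congrArg ((1 : D) ⊗ₜ[G.invariants] ·) (RingHom.congr_fun G.i_t a)
  comp_i α h := by
    refine tensor_ringHom_ext (fun d => ?_) fun b => ?_
    · simp [bcomp_inD, bmap_tmul]
    · rw [bcomp_inB]
      refine (RingHom.congr_fun ((G.comp_congr rfl ?_ _ ?_).trans (G.comp_i (α.comp (G.inB D)) ?_)) b).trans rfl
      · exact RingHom.ext fun x => rfl
      all_goals
        exact RingHom.ext fun x => (congrArg (fun y => (α.comp (G.inB D)) y) (RingHom.congr_fun G.i_t x)).symm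
  i_comp α h := by
    refine tensor_ringHom_ext (fun d => ?_) fun b => ?_
    · simp [bcomp_inD, bmap_tmul]
    · rw [bcomp_inB]
      refine (RingHom.congr_fun ((G.comp_congr ?_ rfl _ ?_).trans (G.i_comp (α.comp (G.inB D)) ?_)) b).trans rfl
      · exact RingHom.ext fun x => rfl
      all_goals
        exact RingHom.ext fun x => congrArg (fun y => (α.comp (G.inB D)) y) (RingHom.congr_fun G.i_s x)

/-- For a flat base change the invariants are the coefficients. -/
theorem mem_invariants_baseChange_iff [Module.Flat G.invariants D] (z : G.BA D) :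
    z ∈ (G.baseChange D).invariants ↔ ∃ d : D, d ⊗ₜ[G.invariants] (1 : A) = z := by
  refine ⟨fun hz => ?_, ?_⟩
  · let f : G.invariants →ₗ[G.invariants] A := Algebra.linearMap G.invariants A
    let g : A →ₗ[G.invariants] G.SB := G.sAlg.toLinearMap - G.tAlg.toLinearMap
    have hfg : Function.Exact f g := fun a => ⟨fun h => ⟨⟨a, sub_eq_zero.1 h⟩, rfl⟩, by
      rintro ⟨c, rfl⟩
      exact sub_eq_zero.2 c.2⟩
    have h0 : (g.lTensor D) z = 0 := by
      rw [LinearMap.lTensor_sub, LinearMap.sub_apply]
      exact sub_eq_zero.2 hz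
    obtain ⟨w, hw⟩ := ((Module.Flat.lTensor_exact D hfg) z).1 h0
    refine ⟨TensorProduct.rid G.invariants D w, ?_⟩
    rw [← hw]
    conv_rhs => rw [← (TensorProduct.rid G.invariants D).symm_apply_apply w]
    rw [TensorProduct.rid_symm_apply, LinearMap.lTensor_tmul]
    rfl
  · rintro ⟨d, rfl⟩
    show G.bmap D G.sAlg (d ⊗ₜ 1) = G.bmap D G.tAlg (d ⊗ₜ 1)
    rw [bmap_tmul, bmap_tmul, map_one, map_one]

theorem injective_tmul_one [Module.Flat G.invariants D] :
    Function.Injective fun d : D => d ⊗ₜ[G.invariants] (1 : A) := by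
  intro x y h
  have hi := Module.Flat.lTensor_preserves_injective_linearMap (M := D)
    (Algebra.linearMap G.invariants A) Subtype.val_injective
  have h' : x ⊗ₜ[G.invariants] (1 : G.invariants) = y ⊗ₜ (1 : G.invariants) := hi (by
    simp only [LinearMap.lTensor_tmul, Algebra.linearMap_apply, map_one]
    exact h)
  have := congrArg (TensorProduct.rid G.invariants D) h'
  simpa using this

end RingGrpd

end Groth.Agent.GrpdLib
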