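import Groth.Agent.GrpdLib.RingGrpd
import Mathlib.LinearAlgebra.TensorProduct.Basis
import Mathlib.RingTheory.TensorProduct.Free

/-!
# A basis of arrows pulled back from objects gives a basis of objects over the invariants
-/

set_option autoImplicit false

universe u v

open TensorProduct

namespace Groth.Agent.GrpdLib.RingGrpd

set_option maxHeartbeats 400000

variable {A B : Type u} [CommRing A] [CommRing B] (G : RingGrpd A B) {I : Type v}

/-- The target, with values in `B` seen over the source. -/
noncomputable def tSB : A →+* G.SB := G.t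

/-- The first projection of pairs with the same source, on `B` seen over the source. -/
noncomputable def inclL : G.SB →+* G.SB ⊗[A] G.SB := G.leftS

/-- The second projection of pairs with the same source, on `B` seen over the source. -/
noncomputable def inclR : G.SB →+* G.SB ⊗[A] G.SB := G.rightS

theorem algebraMap_SB (a : A) : algebraMap A G.SB a = G.s a := rfl

theorem smul_SB (a : A) (z : G.SB) : a • z = algebraMap A G.SB a * z := Algebra.smul_def a z

theorem invariant_eq {a : A} (ha : a ∈ G.invariants) : algebraMap A G.SB a = G.tSB a := ha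

theorem epsilon_tSB (a : A) : G.epsilon (G.tSB a) = a := RingHom.congr_fun G.e_t a

theorem inclR_algebraMap (a : A) : G.inclR (algebraMap A G.SB a) = G.inclL (algebraMap A G.SB a) :=
  (RingHom.congr_fun G.leftS_s a).symm

theorem phi_rightT_algebraMap_mul_tSB (r f : A) :
    G.phi (G.rightT (G.s r * G.t f)) = G.inclL (G.tSB r) * G.inclR (G.tSB f) := by
  rw [map_mul, map_mul, show G.rightT (G.s r) = G.leftT (G.t r) from RingHom.congr_fun G.rightT_s r, G.phi_left,
    G.phi_rightT_t]
  rfl

/-- The comparison isomorphism on a combination of targets. -/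
theorem inclR_sum (c : I →₀ A) (x : I → A) (a : A)
    (h : G.tSB a = c.sum fun i ci => algebraMap A G.SB ci * G.tSB (x i)) :
    G.inclR (G.tSB a) = c.sum fun i ci => G.inclL (G.tSB ci) * G.inclR (G.tSB (x i)) := by
  let f : G.SB →+* G.SB ⊗[A] G.SB := G.phi.comp G.rightT
  have h1 : f (G.tSB a) = G.inclR (G.tSB a) := G.phi_rightT_t a
  rw [← h1, h, map_finsuppSum]
  exact Finsupp.sum_congr fun i _ => G.phi_rightT_algebraMap_mul_tSB _ _

/-- If the `t (x i)` form a basis of `B` over `A` through `s`, then the `x i` form a basis of `A` over the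
invariants. -/
theorem exists_basis_invariants (x : I → A) (b : Module.Basis I A G.SB) (hb : ∀ i, b i = G.tSB (x i)) :
    ∃ b' : Module.Basis I G.invariants A, ∀ i, b' i = x i := by
  classical
  have hli : LinearIndependent G.invariants x := by
    rw [linearIndependent_iff]
    intro l hl
    let l' : I →₀ A := Finsupp.mapRange (fun c : G.invariants => (c : A)) rfl l
    have h1 : b.repr.symm l' = G.tSB (Finsupp.linearCombination G.invariants x l) := by
      rw [b.repr_symm_apply, Finsupp.linearCombination_apply, Finsupp.linearCombination_apply, map_finsuppSum,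
        Finsupp.sum_mapRange_index (h := fun i a => a • b i) fun i => zero_smul _ _]
      refine Finsupp.sum_congr fun i _ => ?_
      rw [hb, Subring.smul_def, smul_eq_mul, map_mul, G.smul_SB, G.invariant_eq (l i).2]
    rw [hl, map_zero, LinearEquiv.map_eq_zero_iff] at h1
    ext i
    exact congrArg (fun k => k i) h1
  have hsp : ⊤ ≤ Submodule.span G.invariants (Set.range x) := by
    intro a _
    let c : I →₀ A := b.repr (G.tSB a)
    have hsum : G.tSB a = c.sum fun i ci => algebraMap A G.SB ci * G.tSB (x i) := by
      conv_lhs => rw [← b.linearCombination_repr (G.tSB a), Finsupp.linearCombination_apply]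
      refine Finsupp.sum_congr fun i _ => ?_
      rw [hb, G.smul_SB]
    have hinv : ∀ i, c i ∈ G.invariants := by
      let bb := Algebra.TensorProduct.basis G.SB b
      have h3 : G.inclR (G.tSB a) = c.sum fun i ci => G.inclL (algebraMap A G.SB ci) * G.inclR (G.tSB (x i)) := by
        rw [hsum, map_finsuppSum]
        refine Finsupp.sum_congr fun i _ => ?_
        rw [map_mul, inclR_algebraMap]
      have hlc : ∀ (g : A →+* G.SB),
          bb.repr.symm (c.mapRange g (map_zero g)) = c.sum fun i ci => G.inclL (g ci) * G.inclR (G.tSB (x i)) := by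
        intro g
        rw [bb.repr_symm_apply, Finsupp.linearCombination_apply, Finsupp.sum_mapRange_index (h := fun i a => a • bb i) fun i => zero_smul _ _]
        refine Finsupp.sum_congr fun i _ => ?_
        rw [Algebra.TensorProduct.basis_apply, hb, Algebra.smul_def]
        rfl
      have h4 := bb.repr.symm.injective
        ((hlc G.tSB).trans (((G.inclR_sum c x a hsum).symm.trans h3).trans (hlc (algebraMap A G.SB)).symm))
      intro i
      exact (congrArg (fun k => k i) h4).symm
    have h5 : a = c.sum fun i ci => ci * x i := by
      conv_lhs => rw [← G.epsilon_tSB a, hsum, map_finsuppSum]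
      refine Finsupp.sum_congr fun i _ => ?_
      rw [map_mul, AlgHom.commutes, G.epsilon_tSB]
      rfl
    rw [h5]
    exact Submodule.sum_mem _ fun i _ =>
      Submodule.smul_mem _ (⟨c i, hinv i⟩ : G.invariants) (Submodule.subset_span ⟨i, rfl⟩)
  exact ⟨Module.Basis.mk hli hsp, Module.Basis.mk_apply hli hsp⟩

/-- In that situation `A ⊗ A → B` is bijective. -/
theorem bijective_of_basis (x : I → A) (b : Module.Basis I A G.SB) (hb : ∀ i, b i = G.tSB (x i))
    (φ : A ⊗[G.invariants] A →+ G.SB)
    (hφ : ∀ a a', φ (a ⊗ₜ[G.invariants] a') = G.tSB a * algebraMap A G.SB a') :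
    Function.Bijective φ := by
  classical
  obtain ⟨b', hb'⟩ := G.exists_basis_invariants x b hb
  let E := TensorProduct.equivFinsuppOfBasisLeft (N := A) b'
  have h : ∀ c : I →₀ A, φ (E.symm c) = b.repr.symm c := by
    intro c
    rw [b.repr_symm_apply, Finsupp.linearCombination_apply,
      show E.symm c = c.sum fun i a => b' i ⊗ₜ[G.invariants] a from
        LinearMap.congr_fun (TensorProduct.equivFinsuppOfBasisLeft_symm b') c, map_finsuppSum]
    refine Finsupp.sum_congr fun i _ => ?_
    rw [hφ, hb', hb, G.smul_SB, mul_comm]
  have e : (φ : A ⊗[G.invariants] A → G.SB) = fun z => b.repr.symm (E z) :=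
    funext fun z => by rw [← h, E.symm_apply_apply]
  rw [e]
  exact b.repr.symm.bijective.comp E.bijective

end Groth.Agent.GrpdLib.RingGrpd
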