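import Groth.Agent.GrpdLib.CoequalizerGlue
import Mathlib.FieldTheory.IsAlgClosed.AlgebraicClosure

/-!
# The coequalizer of a finite locally free groupoid scheme: properties
-/

set_option autoImplicit false

universe u

open CategoryTheory CategoryTheory.Limits AlgebraicGeometry

namespace Groth.Agent.GrpdLib

set_option maxHeartbeats 800000

variable {S : Scheme.{u}} {G : Grpd.GroupoidScheme S}

/-- The hypothesis: every orbit lies in an affine open. -/
def OrbitsInAffines (G : Grpd.GroupoidScheme S) : Prop :=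
  ∀ x : G.U, ∃ V : G.U.Opens, IsAffineOpen V ∧ G.t.base '' (G.s.base ⁻¹' {x}) ⊆ (V : Set G.U)

variable [IsFinite G.s] [Flat G.s] [LocallyOfFinitePresentation G.s] (hb : OrbitsInAffines G)

include hb in
theorem exists_invOpen (x : G.U) : ∃ i : InvOpen G, x ∈ i.W := by
  obtain ⟨V, hV, hxV⟩ := hb x
  obtain ⟨W, hW, hxW, -, hinv⟩ := exists_invariant_affine G x V hV fun r hr => hxV ⟨r, hr, rfl⟩
  exact ⟨⟨W, hinv, hW⟩, hxW⟩

/-- The cover of the objects by the invariant affine opens. -/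
noncomputable def invCover : G.U.OpenCover :=
  G.U.openCoverOfIsOpenCover (fun i : InvOpen G => i.W) (by
    refine TopologicalSpace.Opens.ext (Set.eq_univ_of_forall fun x => ?_)
    obtain ⟨i, hi⟩ := exists_invOpen hb x
    exact TopologicalSpace.Opens.mem_iSup.2 ⟨i, hi⟩)

variable (G) in
/-- The quotient scheme. -/
noncomputable abbrev Quot : Scheme.{u} := colimit (quotDiagram G)

/-- The quotient of one invariant affine open inside the quotient scheme. -/
noncomputable abbrev InvOpen.toY (i : InvOpen G) : i.Q ⟶ Quot G := colimit.ι (quotDiagram G) i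

instance (i : InvOpen G) : IsOpenImmersion i.toY :=
  inferInstanceAs (IsOpenImmersion (colimit.ι (quotDiagram G) i))

theorem toY_tr {i j : InvOpen G} (h : i ≤ j) : InvOpen.tr h ≫ j.toY = i.toY :=
  colimit.w (quotDiagram G) (homOfLE h)

theorem homOfLE_q_toY {i j : InvOpen G} (h : i ≤ j) : G.U.homOfLE h ≫ j.q ≫ j.toY = i.q ≫ i.toY := by
  rw [← Category.assoc, ← InvOpen.q_tr h, Category.assoc, toY_tr]

theorem compat (i j : InvOpen G) :
    pullback.fst i.W.ι j.W.ι ≫ i.q ≫ i.toY = pullback.snd i.W.ι j.W.ι ≫ j.q ≫ j.toY := by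
  refine Scheme.hom_ext_of_forall _ _ fun z => ?_
  let P := pullback i.W.ι j.W.ι
  let m : P ⟶ G.U := pullback.fst _ _ ≫ i.W.ι
  have hm : m = pullback.snd _ _ ≫ j.W.ι := pullback.condition
  have hzj : m z ∈ j.W := by
    rw [hm, Scheme.Hom.comp_apply]
    exact ((pullback.snd _ _ : P ⟶ _) z).2
  obtain ⟨l, hzl, hli, hlj⟩ := InvOpen.exists_le G i j.W j.inv (m z) (((pullback.fst _ _ : P ⟶ _) z).2) hzj
  refine ⟨m ⁻¹ᵁ l.W, hzl, ?_⟩
  have h1 : (m ⁻¹ᵁ l.W).ι ≫ pullback.fst _ _ = (m ∣_ l.W) ≫ G.U.homOfLE hli := by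
    rw [← cancel_mono i.W.ι, Category.assoc, Category.assoc, Scheme.homOfLE_ι, morphismRestrict_ι]
  have h2 : (m ⁻¹ᵁ l.W).ι ≫ pullback.snd _ _ = (m ∣_ l.W) ≫ G.U.homOfLE hlj := by
    rw [← cancel_mono j.W.ι, Category.assoc, Category.assoc, Scheme.homOfLE_ι, morphismRestrict_ι, ← hm]
  rw [reassoc_of% h1, reassoc_of% h2, homOfLE_q_toY hli, homOfLE_q_toY hlj]

/-- The projection to the quotient scheme. -/
noncomputable def proj : G.U ⟶ Quot G :=
  (invCover hb).glueMorphisms (fun i : InvOpen G => i.q ≫ i.toY) compat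

theorem ι_proj (i : InvOpen G) : i.W.ι ≫ proj hb = i.q ≫ i.toY :=
  (invCover hb).ι_glueMorphisms (fun i : InvOpen G => i.q ≫ i.toY) compat i

theorem proj_ι_apply (i : InvOpen G) (x : i.W.toScheme) : proj hb (i.W.ι x) = i.toY (i.q x) :=
  congrArg (fun f : i.W.toScheme ⟶ Quot G => f x) (ι_proj hb i)

include hb in
theorem hom_ext_invCover {Z : Scheme.{u}} (f g : G.U ⟶ Z) (h : ∀ i : InvOpen G, i.W.ι ≫ f = i.W.ι ≫ g) : f = g :=
  (invCover hb).hom_ext f g h

theorem cond_proj : G.t ≫ proj hb = G.s ≫ proj hb := by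
  refine Scheme.hom_ext_of_forall _ _ fun r => ?_
  obtain ⟨i, hi⟩ := exists_invOpen hb (G.s r)
  refine ⟨G.s ⁻¹ᵁ i.W, hi, ?_⟩
  rw [← Category.assoc, ← restrictT_ι G i.W i.inv, Category.assoc, ← Category.assoc _ G.s, ← morphismRestrict_ι,
    Category.assoc, ι_proj, ← Category.assoc, i.tq, Category.assoc]

theorem mem_of_proj_eq (i : InvOpen G) (y : i.Q) (x : G.U) (hx : proj hb x = i.toY y) : x ∈ i.W := by
  obtain ⟨j, hj⟩ := exists_invOpen hb x
  have hx' : j.toY (j.q ⟨x, hj⟩) = i.toY y := (proj_ι_apply hb j ⟨x, hj⟩).symm.trans hx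
  obtain ⟨k, fj, fi, w, hwj, -⟩ := (Scheme.IsLocallyDirected.ι_eq_ι_iff (quotDiagram G)).1 hx'
  obtain ⟨w, rfl⟩ := k.surjective_q w
  have hw : j.q (G.U.homOfLE (leOfHom fj) w) = j.q ⟨x, hj⟩ := (InvOpen.tr_apply (leOfHom fj) w).symm.trans hwj
  obtain ⟨r, hrt, hrs⟩ := (j.fibres_q _ _).1 hw
  have hwk : G.t r ∈ k.W := by
    rw [hrt, show j.W.ι (G.U.homOfLE (leOfHom fj) w) = k.W.ι w from
      congrArg (fun f : k.W.toScheme ⟶ G.U => f w) (Scheme.homOfLE_ι G.U (leOfHom fj))]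
    exact w.2
  have : G.s r ∈ k.W := (k.mem_iff r).2 hwk
  rw [hrs] at this
  exact (leOfHom fi : k.W ≤ i.W) this

theorem isPullback_proj (i : InvOpen G) : IsPullback i.q i.W.ι i.toY (proj hb) := by
  refine IsOpenImmersion.isPullback _ _ _ _ (ι_proj hb i) ?_
  ext x
  constructor
  · rintro ⟨y, hy⟩
    exact ⟨⟨x, mem_of_proj_eq hb i y x hy.symm⟩, rfl⟩
  · rintro ⟨x, rfl⟩
    exact ⟨i.q x, (proj_ι_apply hb i x).symm⟩

theorem isColimit_proj : Nonempty (IsColimit (Cofork.ofπ (proj hb) (cond_proj hb))) := by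
  refine ⟨Cofork.IsColimit.mk' _ fun s => ?_⟩
  have hs : ∀ i : InvOpen G, restrictT G i.W i.inv ≫ i.W.ι ≫ s.π = (G.s ∣_ i.W) ≫ i.W.ι ≫ s.π := fun i => by
    rw [← Category.assoc, restrictT_ι, Category.assoc, s.condition, ← Category.assoc, ← morphismRestrict_ι,
      Category.assoc]
  let h : ∀ i : InvOpen G, i.Q ⟶ s.pt := fun i => (i.existsUnique_desc (i.W.ι ≫ s.π) (hs i)).exists.choose
  have hh : ∀ i : InvOpen G, i.q ≫ h i = i.W.ι ≫ s.π := fun i =>
    (i.existsUnique_desc (i.W.ι ≫ s.π) (hs i)).exists.choose_spec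
  let c : Cocone (quotDiagram G) :=
    { pt := s.pt
      ι :=
        { app := h
          naturality := fun i j f => by
            show InvOpen.tr (leOfHom f) ≫ h j = h i ≫ 𝟙 _
            rw [Category.comp_id, ← cancel_epi i.q, ← Category.assoc, InvOpen.q_tr, Category.assoc, hh, hh,
              Scheme.homOfLE_ι_assoc] } }
  have hd : ∀ i : InvOpen G, i.toY ≫ colimit.desc (quotDiagram G) c = h i := fun i => colimit.ι_desc c i
  refine ⟨colimit.desc (quotDiagram G) c, hom_ext_invCover hb _ _ fun i => ?_, fun {m} hm => ?_⟩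
  · show i.W.ι ≫ proj hb ≫ _ = _
    rw [← Category.assoc, ι_proj, Category.assoc, hd, hh]
  · refine colimit.hom_ext (F := quotDiagram G) fun i => ?_
    show i.toY ≫ m = i.toY ≫ _
    rw [hd, ← cancel_epi i.q, hh, ← Category.assoc, ← ι_proj hb i, Category.assoc]
    exact congrArg (i.W.ι ≫ ·) hm

theorem surjective_proj : Surjective (proj hb) := ⟨fun y => by
  obtain ⟨i, yi, rfl⟩ := Scheme.IsLocallyDirected.ι_jointly_surjective (quotDiagram G) y
  obtain ⟨x, rfl⟩ := InvOpen.surjective_q i yi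
  exact ⟨i.W.ι x, proj_ι_apply hb i x⟩⟩

set_option backward.isDefEq.respectTransparency.types false in
theorem isIntegralHom_proj : IsIntegralHom (proj hb) := by
  refine IsZariskiLocalAtTarget.of_openCover (P := @IsIntegralHom.{u}) (Scheme.IsLocallyDirected.openCover (quotDiagram G))
    fun (i : InvOpen G) => ?_
  have : IsIntegralHom i.q := isIntegralHom_toQuot i.grpd
  let sq := (isPullback_proj hb i).flip
  show IsIntegralHom (pullback.snd (proj hb) i.toY)
  rw [← sq.isoPullback_inv_snd]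
  infer_instance

theorem isOpenMap_proj : IsOpenMap (proj hb) := by
  intro V hV
  have : ⇑(proj hb) '' V = ⋃ i : InvOpen G, ⇑i.toY '' (⇑i.q '' (⇑i.W.ι ⁻¹' V)) := by
    ext y
    constructor
    · rintro ⟨x, hx, rfl⟩
      obtain ⟨i, hi⟩ := exists_invOpen hb x
      exact Set.mem_iUnion.2 ⟨i, _, ⟨⟨x, hi⟩, hx, rfl⟩, (proj_ι_apply hb i ⟨x, hi⟩).symm⟩
    · intro hy
      obtain ⟨i, _, ⟨x, hx, rfl⟩, rfl⟩ := Set.mem_iUnion.1 hy
      exact ⟨i.W.ι x, hx, proj_ι_apply hb i x⟩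
  rw [this]
  exact isOpen_iUnion fun i =>
    i.toY.isOpenEmbedding.isOpenMap _ (i.isOpenMap_q _ (hV.preimage i.W.ι.continuous))

theorem fibres_proj (x y : G.U) : proj hb x = proj hb y ↔ ∃ r : G.R, G.t r = x ∧ G.s r = y := by
  constructor
  · intro h
    obtain ⟨i, hi⟩ := exists_invOpen hb x
    have hy : y ∈ i.W := mem_of_proj_eq hb i (i.q ⟨x, hi⟩) y (h.symm.trans (proj_ι_apply hb i ⟨x, hi⟩))
    refine (i.fibres_q ⟨x, hi⟩ ⟨y, hy⟩).1 (i.toY.isOpenEmbedding.injective ?_)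
    exact (proj_ι_apply hb i ⟨x, hi⟩).symm.trans (h.trans (proj_ι_apply hb i ⟨y, hy⟩))
  · rintro ⟨r, rfl, rfl⟩
    exact congrArg (fun f : G.R ⟶ Quot G => f r) (cond_proj hb)

theorem surjective_lift_proj : Function.Surjective (pullback.lift G.t G.s (cond_proj hb)) := by
  intro z
  let P := pullback (proj hb) (proj hb)
  let k := AlgebraicClosure (P.residueField z)
  let zb : Spec (CommRingCat.of k) ⟶ P :=
    Spec.map (CommRingCat.ofHom (algebraMap (P.residueField z) k)) ≫ P.fromSpecResidueField z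
  let pt0 : Spec (CommRingCat.of k) := IsLocalRing.closedPoint k
  have hzb : ∀ q, zb q = z := fun q => Scheme.fromSpecResidueField_apply z _
  let x0 := zb ≫ pullback.fst (proj hb) (proj hb)
  let x1 := zb ≫ pullback.snd (proj hb) (proj hb)
  have hx : x0 ≫ proj hb = x1 ≫ proj hb := by
    simp only [x0, x1, Category.assoc, pullback.condition]
  obtain ⟨i, hi⟩ := exists_invOpen hb (x0 pt0)
  have hq : ∀ q, x0 q = x0 pt0 ∧ x1 q = x1 pt0 := fun q => by
    constructor <;> (simp only [x0, x1, Scheme.Hom.comp_apply, hzb])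
  have h1i : x1 pt0 ∈ i.W := by
    refine mem_of_proj_eq hb i (i.q ⟨x0 pt0, hi⟩) _ ?_
    exact (congrArg (fun f : _ ⟶ Quot G => f pt0) hx).symm.trans (proj_ι_apply hb i ⟨x0 pt0, hi⟩)
  have hr : ∀ (f : Spec (CommRingCat.of k) ⟶ G.U), (∀ q, f q = f pt0) → f pt0 ∈ i.W →
      Set.range f ⊆ Set.range i.W.ι := by
    rintro f hf hf0 _ ⟨q, rfl⟩
    rw [Scheme.Opens.range_ι, hf]
    exact hf0
  let a0 := IsOpenImmersion.lift i.W.ι x0 (hr x0 (fun q => (hq q).1) hi)
  let a1 := IsOpenImmersion.lift i.W.ι x1 (hr x1 (fun q => (hq q).2) h1i)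
  have ha0 : a0 ≫ i.W.ι = x0 := IsOpenImmersion.lift_fac _ _ _
  have ha1 : a1 ≫ i.W.ι = x1 := IsOpenImmersion.lift_fac _ _ _
  have ha : a0 ≫ i.q = a1 ≫ i.q := by
    rw [← cancel_mono i.toY, Category.assoc, Category.assoc, ← ι_proj hb i, ← Category.assoc, ← Category.assoc,
      ha0, ha1, hx]
  obtain ⟨(r : Spec (CommRingCat.of k) ⟶ (G.s ⁻¹ᵁ i.W).toScheme), hrt, hrs⟩ := ((((toQuot_surjective_and_fibres i.grpd).2 k).2 a0 a1).1 ha :
    ∃ r : Spec (CommRingCat.of k) ⟶ (G.s ⁻¹ᵁ i.W).toScheme, r ≫ restrictT G i.W i.inv = a0 ∧ r ≫ (G.s ∣_ i.W) = a1)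
  replace hrt : r ≫ restrictT G i.W i.inv = a0 := hrt
  replace hrs : r ≫ (G.s ∣_ i.W) = a1 := hrs
  have key : (r ≫ (G.s ⁻¹ᵁ i.W).ι) ≫ pullback.lift G.t G.s (cond_proj hb) = zb := by
    apply pullback.hom_ext
    · rw [Category.assoc, pullback.lift_fst, Category.assoc, ← restrictT_ι G i.W i.inv, ← Category.assoc, hrt, ha0]
    · rw [Category.assoc, pullback.lift_snd, Category.assoc, ← morphismRestrict_ι, ← Category.assoc, hrs, ha1]
  exact ⟨(r ≫ (G.s ⁻¹ᵁ i.W).ι) pt0,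
    (congrArg (fun f : Spec (CommRingCat.of k) ⟶ P => f pt0) key).trans (hzb pt0)⟩

include hb in
theorem isAffine_quot [IsAffine G.U] : IsAffine (Quot G) := by
  let i : InvOpen G := ⟨⊤, rfl, isAffineOpen_top G.U⟩
  have hr : i.toY.opensRange = ⊤ := by
    refine TopologicalSpace.Opens.ext (Set.eq_univ_of_forall fun y => ?_)
    obtain ⟨x, rfl⟩ := (surjective_proj hb).surj y
    exact ⟨i.q ⟨x, trivial⟩, (proj_ι_apply hb i ⟨x, trivial⟩).symm⟩
  have := isIso_of_isOpenImmersion_of_opensRange_eq_top i.toY hr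
  exact IsAffine.of_isIso (inv i.toY)

end Groth.Agent.GrpdLib
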