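import Groth.Agent.GrpdLib.AffineCoequalizer
import Groth.Agent.GrpdLib.InvariantAffine
import Groth.Agent.GrpdLib.Restrict

/-!
# The coequalizer of a finite locally free groupoid scheme with orbits in affine opens
-/

set_option autoImplicit false

universe u

open CategoryTheory CategoryTheory.Limits AlgebraicGeometry

namespace Groth.Agent.GrpdLib

set_option maxHeartbeats 800000

section Affine

variable {S : Scheme.{u}} (G : Grpd.GroupoidScheme S) [IsAffine G.U] [IsAffine G.R]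
  [IsFinite G.s] [Flat G.s] [LocallyOfFinitePresentation G.s]

theorem eqz_of_condition {Z : Scheme.{u}} (W : G.U.Opens) (g : G.U ⟶ Z) (hg : G.t ≫ g = G.s ≫ g) :
    Eqz G W (W.ι ≫ g) := fun T a b r ha hb => by
  rw [← Category.assoc, ← ha, Category.assoc, hg, ← Category.assoc, hb, Category.assoc]

theorem existsUnique_desc {Z : Scheme.{u}} (g : G.U ⟶ Z) (hg : G.t ≫ g = G.s ≫ g) :
    ∃! h : Spec (CommRingCat.of G.invariants) ⟶ Z, G.toQuot ≫ h = g := by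
  obtain ⟨h, hh, huniq⟩ := exists_desc G ⊤ ((G.toQuot ⁻¹ᵁ ⊤).ι ≫ g) (eqz_of_condition G _ g hg) (isOpenMap_toQuot G)
  have hiff : ∀ k : Spec (CommRingCat.of G.invariants) ⟶ Z,
      G.toQuot ≫ k = g ↔ (G.toQuot ∣_ ⊤) ≫ Scheme.Opens.ι _ ≫ k = (G.toQuot ⁻¹ᵁ ⊤).ι ≫ g := fun k => by
    have : IsIso (G.toQuot ⁻¹ᵁ ⊤).ι := (Scheme.topIso G.U).isIso_hom
    rw [← Category.assoc, morphismRestrict_ι, Category.assoc, cancel_epi]
  refine ⟨(Scheme.topIso _).inv ≫ h, (hiff _).2 ?_, fun k hk => ?_⟩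
  · rw [← hh]
    congr 1
    rw [← Category.assoc]
    exact (congrArg (· ≫ h) (Scheme.topIso _).hom_inv_id).trans (Category.id_comp h)
  · rw [← huniq _ ((hiff k).1 hk), ← Category.assoc]
    exact ((congrArg (· ≫ k) (Scheme.topIso _).inv_hom_id).trans (Category.id_comp k)).symm

theorem epi_toQuot : Epi G.toQuot := ⟨fun {Z} h₁ h₂ h =>
  (existsUnique_desc G (G.toQuot ≫ h₁) (by rw [← Category.assoc, t_toQuot, Category.assoc])).unique rfl h.symm⟩

end Affine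

variable {S : Scheme.{u}} (G : Grpd.GroupoidScheme S)

/-- An invariant affine open of the objects. -/
structure InvOpen : Type u where
  /-- the open -/
  W : G.U.Opens
  inv : G.s ⁻¹ᵁ W = G.t ⁻¹ᵁ W
  aff : IsAffineOpen W

instance : Preorder (InvOpen G) := Preorder.lift InvOpen.W

variable {G}

/-- The groupoid over an invariant affine open. -/
noncomputable abbrev InvOpen.grpd (i : InvOpen G) : Grpd.GroupoidScheme S := restrict G i.W i.inv

instance (i : InvOpen G) : IsAffine i.grpd.U := i.aff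

variable [IsFinite G.s]

instance (i : InvOpen G) : IsAffine i.grpd.R := i.aff.preimage G.s

instance (i : InvOpen G) : IsFinite i.grpd.s := MorphismProperty.of_isPullback (P := @IsFinite) (isPullback_morphismRestrict G.s i.W).flip inferInstance

variable [Flat G.s] [LocallyOfFinitePresentation G.s]

instance (i : InvOpen G) : Flat i.grpd.s := MorphismProperty.of_isPullback (P := @Flat) (isPullback_morphismRestrict G.s i.W).flip inferInstance

instance (i : InvOpen G) : LocallyOfFinitePresentation i.grpd.s :=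
  MorphismProperty.of_isPullback (P := @LocallyOfFinitePresentation) (isPullback_morphismRestrict G.s i.W).flip inferInstance

/-- The quotient of an invariant affine open. -/
noncomputable abbrev InvOpen.Q (i : InvOpen G) : Scheme.{u} := Spec (CommRingCat.of i.grpd.invariants)

/-- The quotient map of an invariant affine open. -/
noncomputable def InvOpen.q (i : InvOpen G) : i.W.toScheme ⟶ i.Q := i.grpd.toQuot

omit [Flat G.s] [LocallyOfFinitePresentation G.s] in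
theorem InvOpen.tq (i : InvOpen G) :
    restrictT G i.W i.inv ≫ i.q = (G.s ∣_ i.W) ≫ i.q := t_toQuot i.grpd

instance (i : InvOpen G) : Epi i.q := epi_toQuot i.grpd

theorem InvOpen.surjective_q (i : InvOpen G) : Function.Surjective i.q :=
  (toQuot_surjective_and_fibres i.grpd).1.1

theorem InvOpen.fibres_q (i : InvOpen G) (x z : i.W.toScheme) :
    i.q x = i.q z ↔ ∃ r : G.R, G.t r = i.W.ι x ∧ G.s r = i.W.ι z := by
  refine ((toQuot_surjective_and_fibres i.grpd).1.2 x z).trans ?_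
  have key : ∀ r : (G.s ⁻¹ᵁ i.W).toScheme, i.W.ι (restrictT G i.W i.inv r) = G.t ((G.s ⁻¹ᵁ i.W).ι r) ∧
      i.W.ι ((G.s ∣_ i.W) r) = G.s ((G.s ⁻¹ᵁ i.W).ι r) := fun r =>
    ⟨congrArg (fun f : (G.s ⁻¹ᵁ i.W).toScheme ⟶ G.U => f r) (restrictT_ι G i.W i.inv),
      congrArg (fun f : (G.s ⁻¹ᵁ i.W).toScheme ⟶ G.U => f r) (morphismRestrict_ι G.s i.W)⟩
  constructor
  · rintro ⟨r, hrt, hrs⟩
    exact ⟨(G.s ⁻¹ᵁ i.W).ι r, (key r).1.symm.trans (congrArg i.W.ι hrt),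
      (key r).2.symm.trans (congrArg i.W.ι hrs)⟩
  · rintro ⟨r, hrt, hrs⟩
    have hr : r ∈ G.s ⁻¹ᵁ i.W := by
      show G.s r ∈ i.W
      rw [hrs]; exact z.2
    exact ⟨⟨r, hr⟩, i.W.ι.isOpenEmbedding.injective ((key _).1.trans hrt),
      i.W.ι.isOpenEmbedding.injective ((key _).2.trans hrs)⟩

theorem InvOpen.isOpenMap_q (i : InvOpen G) : IsOpenMap i.q := isOpenMap_toQuot i.grpd

omit [IsFinite G.s] [Flat G.s] [LocallyOfFinitePresentation G.s] in
theorem InvOpen.mem_iff (i : InvOpen G) (r : G.R) : G.s r ∈ i.W ↔ G.t r ∈ i.W :=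
  SetLike.ext_iff.1 i.inv r

/-- An invariant morphism on an invariant affine open. -/
theorem InvOpen.existsUnique_desc (i : InvOpen G) {Z : Scheme.{u}} (g : i.W.toScheme ⟶ Z)
    (hg : restrictT G i.W i.inv ≫ g = (G.s ∣_ i.W) ≫ g) : ∃! h : i.Q ⟶ Z, i.q ≫ h = g :=
  GrpdLib.existsUnique_desc i.grpd g hg

section Transition

variable {i j : InvOpen G} (h : i ≤ j)

theorem InvOpen.incl_cond :
    restrictT G i.W i.inv ≫ G.U.homOfLE h ≫ j.q = (G.s ∣_ i.W) ≫ G.U.homOfLE h ≫ j.q := by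
  have e1 : restrictT G i.W i.inv ≫ G.U.homOfLE h =
      G.R.homOfLE (G.s.preimage_mono h) ≫ restrictT G j.W j.inv := by
    rw [← cancel_mono j.W.ι, Category.assoc, Scheme.homOfLE_ι, restrictT_ι, Category.assoc, restrictT_ι,
      Scheme.homOfLE_ι_assoc]
  rw [← Category.assoc, e1, Category.assoc, j.tq, ← Category.assoc,
    ← morphismRestrict_homOfLE G.s (show i.W ≤ j.W from h), Category.assoc]

/-- The transition map between quotients. -/
noncomputable def InvOpen.tr : i.Q ⟶ j.Q :=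
  (i.existsUnique_desc (G.U.homOfLE h ≫ j.q) (InvOpen.incl_cond h)).exists.choose

theorem InvOpen.q_tr : i.q ≫ InvOpen.tr h = G.U.homOfLE h ≫ j.q :=
  (i.existsUnique_desc (G.U.homOfLE h ≫ j.q) (InvOpen.incl_cond h)).exists.choose_spec

theorem InvOpen.tr_apply (x : i.W.toScheme) : InvOpen.tr h (i.q x) = j.q (G.U.homOfLE h x) :=
  congrArg (fun f : i.W.toScheme ⟶ j.Q => f x) (InvOpen.q_tr h)

theorem InvOpen.isOpenImmersion_tr : IsOpenImmersion (InvOpen.tr h) := by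
  let O : j.Q.Opens := ⟨⇑j.q '' Set.range (G.U.homOfLE h), j.isOpenMap_q _ (G.U.homOfLE h).isOpenEmbedding.isOpen_range⟩
  have hi : ∀ x : (j.q ⁻¹ᵁ O).toScheme, ((j.q ⁻¹ᵁ O).ι ≫ j.W.ι) x ∈ i.W := fun x => by
    obtain ⟨_, ⟨w, rfl⟩, hw⟩ := x.2
    obtain ⟨r, hrt, hrs⟩ := (j.fibres_q ((j.q ⁻¹ᵁ O).ι x) (G.U.homOfLE h w)).1 hw.symm
    show j.W.ι ((j.q ⁻¹ᵁ O).ι x) ∈ i.W
    rw [← hrt]
    refine (i.mem_iff r).1 ?_
    rw [hrs, show j.W.ι (G.U.homOfLE h w) = i.W.ι w from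
      congrArg (fun f : i.W.toScheme ⟶ G.U => f w) (Scheme.homOfLE_ι G.U h)]
    exact w.2
  let e : (j.q ⁻¹ᵁ O).toScheme ⟶ i.W.toScheme := IsOpenImmersion.lift i.W.ι ((j.q ⁻¹ᵁ O).ι ≫ j.W.ι) (by
    rintro _ ⟨x, rfl⟩
    rw [Scheme.Opens.range_ι]
    exact hi x)
  have heι : e ≫ i.W.ι = (j.q ⁻¹ᵁ O).ι ≫ j.W.ι := IsOpenImmersion.lift_fac _ _ _
  have heh : e ≫ G.U.homOfLE h = (j.q ⁻¹ᵁ O).ι := by
    rw [← cancel_mono j.W.ι, Category.assoc, Scheme.homOfLE_ι, heι]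
  have hEqz : Eqz j.grpd (j.q ⁻¹ᵁ O) (e ≫ i.q) := by
    intro T (a : T ⟶ (j.q ⁻¹ᵁ O).toScheme) (b : T ⟶ (j.q ⁻¹ᵁ O).toScheme) (r : T ⟶ (G.s ⁻¹ᵁ j.W).toScheme)
      (ha : r ≫ restrictT G j.W j.inv = a ≫ (j.q ⁻¹ᵁ O).ι) (hb : r ≫ (G.s ∣_ j.W) = b ≫ (j.q ⁻¹ᵁ O).ι)
    show a ≫ e ≫ i.q = b ≫ e ≫ i.q
    have hb' : (r ≫ (G.s ⁻¹ᵁ j.W).ι) ≫ G.s = (b ≫ e) ≫ i.W.ι := by
      rw [Category.assoc, ← morphismRestrict_ι, ← Category.assoc, Category.assoc b, heι, ← Category.assoc b]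
      exact congrArg (· ≫ j.W.ι) hb
    have ha' : (r ≫ (G.s ⁻¹ᵁ j.W).ι) ≫ G.t = (a ≫ e) ≫ i.W.ι := by
      rw [Category.assoc, ← restrictT_ι G j.W j.inv, ← Category.assoc, Category.assoc a, heι, ← Category.assoc a]
      exact congrArg (· ≫ j.W.ι) ha
    let r' := IsOpenImmersion.lift (G.s ⁻¹ᵁ i.W).ι (r ≫ (G.s ⁻¹ᵁ j.W).ι) (range_subset_of G i.W _ (b ≫ e) hb')
    have hr' : r' ≫ (G.s ⁻¹ᵁ i.W).ι = r ≫ (G.s ⁻¹ᵁ j.W).ι := IsOpenImmersion.lift_fac _ _ _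
    have h1 : r' ≫ restrictT G i.W i.inv = a ≫ e := by
      rw [← cancel_mono i.W.ι, Category.assoc, restrictT_ι, ← Category.assoc, hr', ha']
    have h2 : r' ≫ (G.s ∣_ i.W) = b ≫ e := by
      rw [← cancel_mono i.W.ι, Category.assoc, morphismRestrict_ι, ← Category.assoc, hr', hb']
    rw [← Category.assoc a, ← h1, Category.assoc, i.tq, ← Category.assoc, h2, Category.assoc]
  obtain ⟨σ, hσ, -⟩ := exists_desc j.grpd O (e ≫ i.q) hEqz j.isOpenMap_q
  replace hσ : (j.q ∣_ O) ≫ σ = e ≫ i.q := hσ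
  let τ : i.Q ⟶ O.toScheme := IsOpenImmersion.lift O.ι (InvOpen.tr h) (by
    rintro _ ⟨y, rfl⟩
    obtain ⟨x, rfl⟩ := i.surjective_q y
    rw [Scheme.Opens.range_ι]
    exact ⟨_, ⟨x, rfl⟩, (InvOpen.tr_apply h x).symm⟩)
  have hτ : τ ≫ O.ι = InvOpen.tr h := IsOpenImmersion.lift_fac _ _ _
  let e' : i.W.toScheme ⟶ (j.q ⁻¹ᵁ O).toScheme := IsOpenImmersion.lift (j.q ⁻¹ᵁ O).ι (G.U.homOfLE h) (by
    rw [Scheme.Opens.range_ι]
    rintro _ ⟨x, rfl⟩
    exact ⟨_, ⟨x, rfl⟩, rfl⟩)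
  have he'ι : e' ≫ (j.q ⁻¹ᵁ O).ι = G.U.homOfLE h := IsOpenImmersion.lift_fac _ _ _
  have he'e : e' ≫ e = 𝟙 _ := by
    rw [← cancel_mono i.W.ι, Category.assoc, heι, ← Category.assoc, he'ι, Scheme.homOfLE_ι, Category.id_comp]
  have hqτ : i.q ≫ τ = e' ≫ (j.q ∣_ O) := by
    rw [← cancel_mono O.ι, Category.assoc, hτ, InvOpen.q_tr, Category.assoc, morphismRestrict_ι, ← Category.assoc,
      he'ι]
  have h1 : τ ≫ σ = 𝟙 _ := by
    rw [← cancel_epi i.q, ← Category.assoc, hqτ, Category.assoc, hσ, ← Category.assoc, he'e, Category.id_comp,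
      Category.comp_id]
  have h2 : σ ≫ τ = 𝟙 _ := by
    have := epi_toQuot_restrict j.grpd O
    have : Epi (j.q ∣_ O) := this
    rw [← cancel_epi (j.q ∣_ O), ← Category.assoc, hσ, ← cancel_mono O.ι, Category.assoc, Category.assoc, hτ,
      InvOpen.q_tr, Category.comp_id, morphismRestrict_ι, ← Category.assoc, heh]
  have : IsIso τ := ⟨σ, h1, h2⟩
  rw [← hτ]
  infer_instance

end Transition

variable (G)

/-- The diagram of quotients of the invariant affine opens. -/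
@[simps]
noncomputable def quotDiagram : InvOpen G ⥤ Scheme.{u} where
  obj i := i.Q
  map f := InvOpen.tr (leOfHom f)
  map_id i := by
    rw [← cancel_epi i.q, InvOpen.q_tr, Scheme.homOfLE_rfl, Category.id_comp, Category.comp_id]
  map_comp {i j k} f g := by
    rw [← cancel_epi i.q, InvOpen.q_tr, ← Category.assoc, InvOpen.q_tr, Category.assoc, InvOpen.q_tr,
      ← Category.assoc, Scheme.homOfLE_homOfLE]

instance {i j : InvOpen G} (f : i ⟶ j) : IsOpenImmersion ((quotDiagram G).map f) :=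
  InvOpen.isOpenImmersion_tr (leOfHom f)

/-- Every orbit in an invariant affine open and an invariant open has an invariant affine neighbourhood inside both. -/
theorem InvOpen.exists_le (i : InvOpen G) (O : G.U.Opens) (hO : G.s ⁻¹ᵁ O = G.t ⁻¹ᵁ O) (u : G.U) (hi : u ∈ i.W)
    (hu : u ∈ O) : ∃ l : InvOpen G, u ∈ l.W ∧ l ≤ i ∧ l.W ≤ O := by
  have : IsAffine i.W.toScheme := i.aff
  have horb : ∀ r : G.R, G.s r = u → G.t r ∈ i.W ∧ G.t r ∈ O := fun r hr =>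
    ⟨(i.mem_iff r).1 (hr ▸ hi), (SetLike.ext_iff.1 hO r).1 (show G.s r ∈ O from hr ▸ hu)⟩
  obtain ⟨f, hf1, hf2⟩ := exists_basicOpen_of_finite (i.W.ι ⁻¹' (⇑G.t '' (⇑G.s ⁻¹' {u})))
    (((G.s.finite_preimage_singleton u).image _).preimage i.W.ι.isOpenEmbedding.injective.injOn) (i.W.ι ⁻¹ᵁ O)
    (fun x ⟨r, hr, hrx⟩ => by
      show i.W.ι x ∈ O
      rw [← hrx]; exact (horb r hr).2)
  let V : G.U.Opens := i.W.ι ''ᵁ i.W.toScheme.basicOpen f
  obtain ⟨W, hWa, huW, hWV, hWinv⟩ := exists_invariant_affine G u V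
    (((isAffineOpen_top i.W.toScheme).basicOpen f).image_of_isOpenImmersion i.W.ι)
    (fun r hr => ⟨⟨G.t r, (horb r hr).1⟩, hf1 ⟨r, hr, rfl⟩, rfl⟩)
  refine ⟨⟨W, hWinv, hWa⟩, huW, fun x hx => ?_, fun x hx => ?_⟩
  · obtain ⟨y, -, rfl⟩ := hWV hx
    exact y.2
  · obtain ⟨y, hy, rfl⟩ := hWV hx
    exact hf2 hy

instance : (quotDiagram G ⋙ Scheme.forget).IsLocallyDirected := by
  refine ⟨fun {i j k} fi fj xi xj hx => ?_⟩
  obtain ⟨x, rfl⟩ := i.surjective_q xi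
  obtain ⟨z, rfl⟩ := j.surjective_q xj
  have hx' : k.q (G.U.homOfLE (leOfHom fi) x) = k.q (G.U.homOfLE (leOfHom fj) z) :=
    (InvOpen.tr_apply (leOfHom fi) x).symm.trans (Eq.trans hx (InvOpen.tr_apply (leOfHom fj) z))
  obtain ⟨r, hrt, hrs⟩ := (k.fibres_q _ _).1 hx'
  replace hrt : G.t r = i.W.ι x := hrt.trans
    (congrArg (fun f : i.W.toScheme ⟶ G.U => f x) (Scheme.homOfLE_ι G.U (leOfHom fi)))
  replace hrs : G.s r = j.W.ι z := hrs.trans
    (congrArg (fun f : j.W.toScheme ⟶ G.U => f z) (Scheme.homOfLE_ι G.U (leOfHom fj)))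
  have hxj : i.W.ι x ∈ j.W := hrt ▸ (j.mem_iff r).1 (hrs ▸ z.2)
  obtain ⟨l, hul, hli, hlj⟩ := InvOpen.exists_le G i j.W j.inv (i.W.ι x) x.2 hxj
  refine ⟨l, homOfLE hli, homOfLE hlj, l.q ⟨_, hul⟩, ?_, ?_⟩
  · exact (InvOpen.tr_apply hli _).trans (congrArg i.q (i.W.ι.isOpenEmbedding.injective
      (congrArg (fun f : l.W.toScheme ⟶ G.U => f ⟨_, hul⟩) (Scheme.homOfLE_ι G.U hli))))
  · refine (InvOpen.tr_apply hlj _).trans ((j.fibres_q _ z).2 ⟨r, ?_, hrs⟩)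
    rw [hrt]
    exact (congrArg (fun f : l.W.toScheme ⟶ G.U => f ⟨_, hul⟩) (Scheme.homOfLE_ι G.U hlj)).symm

end Groth.Agent.GrpdLib
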