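import Groth.Prelude.Def_QuotSh

/-!
# Quotient sheaves and refinement of the topology
-/

set_option autoImplicit false
set_option backward.isDefEq.respectTransparency.types false

universe u

open CategoryTheory CategoryTheory.Limits AlgebraicGeometry

namespace Groth.Agent.GrpdLib.EpiQuotMono

variable {K K' : Precoverage Scheme.{u}} {S : Scheme.{u}} {R U M : Over S}

theorem isQuotient_of_le (hle : K.toGrothendieck ≤ K'.toGrothendieck) (s t : R ⟶ U) (q : U ⟶ M)
    (h : QuotSh.IsQuotient K s t q) : QuotSh.IsQuotient K' s t q := by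
  obtain ⟨w, hiso⟩ := h
  have hle' : QuotSh.J K S ≤ QuotSh.J K' S := fun T V hV => by
    rw [GrothendieckTopology.mem_over_iff] at hV ⊢
    exact hle _ hV
  let A := sheafificationAdjunction (QuotSh.J K S) (Type (u + 1))
  let A' := sheafificationAdjunction (QuotSh.J K' S) (Type (u + 1))
  let Q := QuotSh.quot K' s t
  let Q₀ : QuotSh.Sh K S := ⟨Q.obj, fun E => Presieve.isSheaf_of_le _ hle' (Q.property E)⟩
  let p := A'.homEquiv _ Q (QuotSh.quotπ K' s t)
  let p₀ := (A.homEquiv _ Q₀).symm p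
  have hp : QuotSh.repMap K s ≫ p₀ = QuotSh.repMap K t ≫ p₀ := by
    change (presheafToSheaf _ _).map _ ≫ (A.homEquiv _ Q₀).symm p = (presheafToSheaf _ _).map _ ≫ (A.homEquiv _ Q₀).symm p
    rw [← A.homEquiv_naturality_left_symm, ← A.homEquiv_naturality_left_symm]
    congr 1
    change _ ≫ A'.homEquiv _ Q (QuotSh.quotπ K' s t) = _ ≫ A'.homEquiv _ Q (QuotSh.quotπ K' s t)
    rw [← A'.homEquiv_naturality_left, ← A'.homEquiv_naturality_left]
    exact congrArg _ (QuotSh.quot_condition K' s t)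
  let g₀ : QuotSh.rep K M ⟶ Q₀ := inv (QuotSh.quotDesc K q w) ≫ coequalizer.desc p₀ hp
  have hd : ∀ (K : Precoverage Scheme.{u}), QuotSh.quotπ K s t ≫ QuotSh.quotDesc K q w = QuotSh.repMap K q :=
    fun K => coequalizer.π_desc _ _
  have hg₀ : QuotSh.repMap K q ≫ g₀ = p₀ := by
    rw [← hd K]
    simp only [g₀, Category.assoc, IsIso.hom_inv_id_assoc]
    exact coequalizer.π_desc _ _
  let g := (A'.homEquiv _ Q).symm (A.homEquiv _ Q₀ g₀)
  have hg : QuotSh.repMap K' q ≫ g = QuotSh.quotπ K' s t := by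
    change (presheafToSheaf _ _).map _ ≫ (A'.homEquiv _ Q).symm _ = _
    rw [← A'.homEquiv_naturality_left_symm]
    apply (A'.homEquiv _ Q).injective
    rw [Equiv.apply_symm_apply]
    have h1 : A.homEquiv _ Q₀ (QuotSh.repMap K q ≫ g₀) = A.homEquiv _ Q₀ p₀ := congrArg _ hg₀
    rw [A.homEquiv_naturality_left] at h1
    exact h1.trans ((A.homEquiv _ Q₀).apply_symm_apply p)
  haveI : Epi (QuotSh.repMap K' q) := by
    refine ⟨fun {Z} a b hab => ?_⟩
    let Z₀ : QuotSh.Sh K S := ⟨Z.obj, fun E => Presieve.isSheaf_of_le _ hle' (Z.property E)⟩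
    have hq : Epi (QuotSh.repMap K q) := by
      rw [← hd K]
      haveI : Epi (QuotSh.quotπ K s t) := coequalizer.π_epi
      exact epi_comp _ _
    have h1 := congrArg (A'.homEquiv _ Z) hab
    rw [A'.homEquiv_naturality_left, A'.homEquiv_naturality_left] at h1
    have h2 : (A.homEquiv _ Z₀).symm (A'.homEquiv _ Z a) = (A.homEquiv _ Z₀).symm (A'.homEquiv _ Z b) := by
      rw [← cancel_epi (QuotSh.repMap K q)]
      change (presheafToSheaf _ _).map _ ≫ _ = (presheafToSheaf _ _).map _ ≫ _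
      rw [← A.homEquiv_naturality_left_symm, ← A.homEquiv_naturality_left_symm]
      exact congrArg _ h1
    exact (A'.homEquiv _ Z).injective ((A.homEquiv _ Z₀).symm.injective h2)
  refine ⟨w, g, ?_, ?_⟩
  · apply coequalizer.hom_ext
    change QuotSh.quotπ K' s t ≫ QuotSh.quotDesc K' q w ≫ g = QuotSh.quotπ K' s t ≫ 𝟙 _
    rw [← Category.assoc, hd K', hg, Category.comp_id]
  · rw [← cancel_epi (QuotSh.repMap K' q), ← Category.assoc, hg, hd K', Category.comp_id]

end Groth.Agent.GrpdLib.EpiQuotMono
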