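import Groth.Agent.GrpdLib.Orbits

/-!
# Points of the stabilizer and conjugation by arrows
-/

set_option autoImplicit false

universe u

open CategoryTheory CategoryTheory.Limits AlgebraicGeometry

namespace Groth.Agent.GrpdLib

variable {S : Scheme.{u}} (G : Grpd.GroupoidScheme S)

/-- The arrow underlying a point of the stabilizer. -/
noncomputable def stabArrow : G.stabilizer ⟶ G.R := pullback.fst G.j G.diag

theorem stabArrow_t : stabArrow G ≫ G.t = G.stabilizerToU := by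
  have h := congrArg (· ≫ pullback.fst G.pU G.pU) (pullback.condition (f := G.j) (g := G.diag))
  simp only [Category.assoc, Grpd.GroupoidScheme.j, Grpd.GroupoidScheme.diag, pullback.lift_fst,
    Category.comp_id] at h
  exact h

theorem stabArrow_s : stabArrow G ≫ G.s = G.stabilizerToU := by
  have h := congrArg (· ≫ pullback.snd G.pU G.pU) (pullback.condition (f := G.j) (g := G.diag))
  simp only [Category.assoc, Grpd.GroupoidScheme.j, Grpd.GroupoidScheme.diag, pullback.lift_snd,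
    Category.comp_id] at h
  exact h

/-- The stabilizer point of a loop. -/
noncomputable def stabMk {T : Scheme.{u}} (γ : T ⟶ G.R) (h : γ ≫ G.t = γ ≫ G.s) : T ⟶ G.stabilizer :=
  pullback.lift γ (γ ≫ G.t) (by
    apply pullback.hom_ext
    · rw [Category.assoc, Category.assoc, Grpd.GroupoidScheme.j, Grpd.GroupoidScheme.diag, pullback.lift_fst,
        pullback.lift_fst, Category.comp_id]
    · rw [Category.assoc, Category.assoc, Grpd.GroupoidScheme.j, Grpd.GroupoidScheme.diag, pullback.lift_snd,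
        pullback.lift_snd, Category.comp_id, h])

theorem stabMk_arrow {T : Scheme.{u}} (γ : T ⟶ G.R) (h : γ ≫ G.t = γ ≫ G.s) : stabMk G γ h ≫ stabArrow G = γ :=
  pullback.lift_fst _ _ _

theorem stabMk_toU {T : Scheme.{u}} (γ : T ⟶ G.R) (h : γ ≫ G.t = γ ≫ G.s) :
    stabMk G γ h ≫ G.stabilizerToU = γ ≫ G.t :=
  pullback.lift_snd _ _ _

theorem stab_ext {T : Scheme.{u}} (x y : T ⟶ G.stabilizer) (h : x ≫ stabArrow G = y ≫ stabArrow G) : x = y :=
  pullback.hom_ext h (by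
    change x ≫ G.stabilizerToU = y ≫ G.stabilizerToU
    rw [← stabArrow_t, ← Category.assoc, h, Category.assoc])

/-- `α γ α⁻¹` for a loop `γ` at the source of `α`. -/
noncomputable def conjArr {T : Scheme.{u}} (α γ : T ⟶ G.R) (h : α ≫ G.s = γ ≫ G.t)
    (h' : γ ≫ G.t = γ ≫ G.s) : T ⟶ G.R :=
  cmp G (cmp G α γ h) (α ≫ G.i) (by rw [cmp_s, i_comp_t, h, h'])

theorem conjArr_loop {T : Scheme.{u}} (α γ : T ⟶ G.R) (h : α ≫ G.s = γ ≫ G.t) (h' : γ ≫ G.t = γ ≫ G.s) :
    conjArr G α γ h h' ≫ G.t = α ≫ G.t ∧ conjArr G α γ h h' ≫ G.s = α ≫ G.t :=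
  ⟨by rw [conjArr, cmp_t, cmp_t], by rw [conjArr, cmp_s, i_comp_s]⟩

theorem comp_conjArr {T T' : Scheme.{u}} (f : T' ⟶ T) (α γ : T ⟶ G.R) (h : α ≫ G.s = γ ≫ G.t)
    (h' : γ ≫ G.t = γ ≫ G.s) :
    f ≫ conjArr G α γ h h' = conjArr G (f ≫ α) (f ≫ γ) (by rw [Category.assoc, h, Category.assoc])
      (by rw [Category.assoc, h', Category.assoc]) := by
  unfold conjArr
  rw [comp_cmp]
  exact cmp_congr G (comp_cmp G f α γ h) (Category.assoc _ _ _).symm _ _

theorem conjArr_congr {T : Scheme.{u}} {α α' γ γ' : T ⟶ G.R} (ha : α = α') (hc : γ = γ')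
    (h : α ≫ G.s = γ ≫ G.t) (h' : γ ≫ G.t = γ ≫ G.s) (g : α' ≫ G.s = γ' ≫ G.t) (g' : γ' ≫ G.t = γ' ≫ G.s) :
    conjArr G α γ h h' = conjArr G α' γ' g g' := by
  subst ha hc; rfl

theorem conjArr_inv {T : Scheme.{u}} (α γ : T ⟶ G.R) (h : α ≫ G.s = γ ≫ G.t) (h' : γ ≫ G.t = γ ≫ G.s)
    (g : (α ≫ G.i) ≫ G.s = conjArr G α γ h h' ≫ G.t) (g' : conjArr G α γ h h' ≫ G.t = conjArr G α γ h h' ≫ G.s) :
    conjArr G (α ≫ G.i) (conjArr G α γ h h') g g' = γ := by
  have e2 : (α ≫ G.i) ≫ G.i = α := by rw [Category.assoc, i_comp_i, Category.comp_id]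
  have k0 : cmp G α γ h ≫ G.s = (α ≫ G.i) ≫ G.t := by rw [cmp_s, i_comp_t, h, h']
  have k1 : (α ≫ G.i) ≫ G.s = cmp G α γ h ≫ G.t := by rw [cmp_t, i_comp_s]
  have k2 : cmp G (α ≫ G.i) (cmp G α γ h) k1 ≫ G.s = (α ≫ G.i) ≫ G.t := by rw [cmp_s]; exact k0
  have k3 : γ ≫ G.s = (α ≫ G.i) ≫ G.t := by rw [i_comp_t, h, h']
  have hA : cmp G (α ≫ G.i) (conjArr G α γ h h') g = cmp G γ (α ≫ G.i) k3 :=
    (G.assoc (α ≫ G.i) (cmp G α γ h) (α ≫ G.i) k1 k0).symm.trans
      (cmp_congr G (cmp_inv_cmp G α γ h k1) rfl k2 k3)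
  have k4 : cmp G γ (α ≫ G.i) k3 ≫ G.s = ((α ≫ G.i) ≫ G.i) ≫ G.t := by rw [cmp_s, i_comp_t]
  exact (cmp_congr G hA rfl _ k4).trans (cmp_cmp_inv_right G (α ≫ G.i) γ k3 k4)

/-- Conjugate a stabilizer point by an arrow. -/
noncomputable def conjPt {T : Scheme.{u}} (α : T ⟶ G.R) (x : T ⟶ G.stabilizer)
    (h : x ≫ G.stabilizerToU = α ≫ G.s) : T ⟶ G.stabilizer :=
  stabMk G (conjArr G α (x ≫ stabArrow G) (by rw [Category.assoc, stabArrow_t, h])
    (by rw [Category.assoc, Category.assoc, stabArrow_t, stabArrow_s]))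
    ((conjArr_loop G _ _ _ _).1.trans (conjArr_loop G _ _ _ _).2.symm)

theorem conjPt_toU {T : Scheme.{u}} (α : T ⟶ G.R) (x : T ⟶ G.stabilizer) (h : x ≫ G.stabilizerToU = α ≫ G.s) :
    conjPt G α x h ≫ G.stabilizerToU = α ≫ G.t :=
  (stabMk_toU G _ _).trans (conjArr_loop G _ _ _ _).1

theorem conjPt_congr {T : Scheme.{u}} {α α' : T ⟶ G.R} {x x' : T ⟶ G.stabilizer} (ha : α = α') (hx : x = x')
    (h : x ≫ G.stabilizerToU = α ≫ G.s) (h' : x' ≫ G.stabilizerToU = α' ≫ G.s) :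
    conjPt G α x h = conjPt G α' x' h' := by
  subst ha hx; rfl

theorem comp_conjPt {T T' : Scheme.{u}} (f : T' ⟶ T) (α : T ⟶ G.R) (x : T ⟶ G.stabilizer)
    (h : x ≫ G.stabilizerToU = α ≫ G.s) :
    f ≫ conjPt G α x h = conjPt G (f ≫ α) (f ≫ x) (by rw [Category.assoc, h, Category.assoc]) := by
  apply stab_ext
  rw [Category.assoc, conjPt, stabMk_arrow, conjPt, stabMk_arrow, comp_conjArr]
  exact conjArr_congr G rfl (Category.assoc _ _ _).symm _ _ _ _

theorem conjPt_inv {T : Scheme.{u}} (α : T ⟶ G.R) (x : T ⟶ G.stabilizer) (h : x ≫ G.stabilizerToU = α ≫ G.s)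
    (g : conjPt G α x h ≫ G.stabilizerToU = (α ≫ G.i) ≫ G.s) : conjPt G (α ≫ G.i) (conjPt G α x h) g = x := by
  apply stab_ext
  rw [conjPt, stabMk_arrow]
  exact (conjArr_congr G rfl (stabMk_arrow G _ _) _ _
    ((i_comp_s G _).trans (conjArr_loop G _ _ _ _).1.symm)
    ((conjArr_loop G _ _ _ _).1.trans (conjArr_loop G _ _ _ _).2.symm)).trans (conjArr_inv G _ _ _ _ _ _)

/-- The base changes of the stabilizer along `s` and along `t` are isomorphic over `R`. -/
noncomputable def stabConj : pullback G.stabilizerToU G.s ≅ pullback G.stabilizerToU G.t where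
  hom := pullback.lift (conjPt G (pullback.snd _ _) (pullback.fst _ _) pullback.condition) (pullback.snd _ _)
    (conjPt_toU G _ _ _)
  inv := pullback.lift (conjPt G (pullback.snd _ _ ≫ G.i) (pullback.fst _ _)
    (pullback.condition.trans (i_comp_s G _).symm)) (pullback.snd _ _) ((conjPt_toU G _ _ _).trans (i_comp_t G _))
  hom_inv_id := by
    apply pullback.hom_ext
    · rw [Category.assoc, pullback.lift_fst, Category.id_comp, comp_conjPt]
      exact (conjPt_congr G (pullback.lift_snd_assoc _ _ _ _) (pullback.lift_fst _ _ _) _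
        ((conjPt_toU G _ _ _).trans (i_comp_s G _).symm)).trans (conjPt_inv G _ _ _ _)
    · rw [Category.assoc, pullback.lift_snd, pullback.lift_snd, Category.id_comp]
  inv_hom_id := by
    apply pullback.hom_ext
    · rw [Category.assoc, pullback.lift_fst, Category.id_comp, comp_conjPt]
      refine (conjPt_congr G (α' := (pullback.snd _ _ ≫ G.i) ≫ G.i) ?_ (pullback.lift_fst _ _ _) _
        ((conjPt_toU G _ _ _).trans (i_comp_s G _).symm)).trans (conjPt_inv G _ _ _ _)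
      rw [pullback.lift_snd, Category.assoc, i_comp_i, Category.comp_id]
    · rw [Category.assoc, pullback.lift_snd, pullback.lift_snd, Category.id_comp]

theorem stabConj_hom_snd : (stabConj G).hom ≫ pullback.snd _ _ = pullback.snd _ _ := pullback.lift_snd _ _ _

end Groth.Agent.GrpdLib
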