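import Groth.Agent.GrpdLib.GenericQS
import Groth.Agent.GrpdLib.StabConj
import Groth.Agent.GrpQLib.FactorMono
import Groth.Agent.FlatLocal.Descent
import Groth.Agent.S0414

/-!
# Quotient over a dense saturated open when the stabilizer is flat or the objects are reduced
-/

set_option autoImplicit false
set_option backward.isDefEq.respectTransparency false
set_option backward.isDefEq.respectTransparency.types false
set_option linter.style.haveILetI false

universe u

open CategoryTheory CategoryTheory.Limits AlgebraicGeometry TopologicalSpace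

namespace Groth.Agent.GrpdLib.FlatStab

open Groth.Agent GrpdLib GenericQS

variable {S : Scheme.{u}} (G : Grpd.GroupoidScheme S)

theorem restrict_sat_stab [Flat G.t] [LocallyOfFinitePresentation G.t] [IsLocallyNoetherian G.U]
    [NoetherianSpace G.R] (V : G.U.Opens) (h : Flat (G.stabilizerToU ∣_ V)) :
    Flat (G.stabilizerToU ∣_ sat G V) := by
  let f := G.stabilizerToU
  let W := sat G V
  let r := (G.s ⁻¹ᵁ V).ι
  let σ := G.t.resLE W (G.s ⁻¹ᵁ V) (fun a ha => ⟨a, ha, rfl⟩)
  haveI : Flat σ := by dsimp only [σ, Scheme.Hom.resLE]; infer_instance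
  haveI : Surjective σ := ⟨fun w => by
    obtain ⟨a, ha, hw⟩ := w.2
    refine ⟨⟨a, ha⟩, W.ι.isOpenEmbedding.injective ?_⟩
    rw [← Scheme.Hom.comp_apply, Scheme.Hom.resLE_comp_ι, Scheme.Hom.comp_apply]
    exact hw⟩
  haveI : NoetherianSpace (G.s ⁻¹ᵁ V).toScheme := r.isOpenEmbedding.isInducing.noetherianSpace
  have hσ : (@Surjective ⊓ @Flat ⊓ @QuasiCompact : MorphismProperty Scheme.{u}) σ :=
    ⟨⟨inferInstance, inferInstance⟩, inferInstance⟩
  have h1 : Flat (pullback.snd f V.ι) := by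
    rw [← (isPullback_morphismRestrict f V).flip.isoPullback_inv_snd]
    exact (MorphismProperty.cancel_left_of_respectsIso @Flat _ _).2 h
  have h2 : Flat (pullback.snd f (r ≫ G.s)) := by
    rw [← morphismRestrict_ι, ← pullbackLeftPullbackSndIso_inv_snd_snd]
    exact (MorphismProperty.cancel_left_of_respectsIso @Flat _ _).2 (MorphismProperty.pullback_snd _ _ h1)
  have h3 : Flat (pullback.snd f (r ≫ G.t)) := by
    rw [← pullbackLeftPullbackSndIso_inv_snd_snd] at h2 ⊢
    have h2' := (MorphismProperty.cancel_left_of_respectsIso @Flat _ _).1 h2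
    refine (MorphismProperty.cancel_left_of_respectsIso @Flat _ _).2 ?_
    have sq : IsPullback (pullback.fst (pullback.snd f G.t) r ≫ (stabConj G).inv)
        (pullback.snd (pullback.snd f G.t) r) (pullback.snd f G.s) r :=
      (IsPullback.of_hasPullback (pullback.snd f G.t) r).of_iso (Iso.refl _) (stabConj G).symm (Iso.refl _)
        (Iso.refl _) (by simp) (by simp)
        (by
          show pullback.snd f G.t ≫ 𝟙 _ = (stabConj G).inv ≫ pullback.snd f G.s
          rw [Category.comp_id, Iso.eq_inv_comp]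
          exact stabConj_hom_snd G) (by simp)
    rw [← sq.isoPullback_hom_snd]
    exact (MorphismProperty.cancel_left_of_respectsIso @Flat _ _).2 h2'
  have h4 : Flat (pullback.snd (pullback.snd f W.ι) σ) := by
    rw [← (Scheme.Hom.resLE_comp_ι _ _ : σ ≫ W.ι = r ≫ G.t),
      ← pullbackLeftPullbackSndIso_inv_snd_snd] at h3
    exact (MorphismProperty.cancel_left_of_respectsIso @Flat _ _).1 h3
  have h5 : Flat (pullback.snd f W.ι) := MorphismProperty.of_pullback_snd_of_descendsAlong hσ h4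
  rw [← (isPullback_morphismRestrict f W).flip.isoPullback_hom_snd]
  exact (MorphismProperty.cancel_left_of_respectsIso @Flat _ _).2 h5

/-- Arrows with the endpoints of a given one are that arrow composed with a loop at its source. -/
theorem exists_iso_kernel {T : Scheme.{u}} (r : T ⟶ G.R) :
    ∃ e : pullback (r ≫ G.j) G.j ≅ pullback G.stabilizerToU (r ≫ G.s),
      e.hom ≫ pullback.snd _ _ = pullback.fst _ _ := by
  let τ := pullback.fst (r ≫ G.j) G.j
  let β := pullback.snd (r ≫ G.j) G.j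
  have hj : (τ ≫ r) ≫ G.j = β ≫ G.j := (Category.assoc _ _ _).trans pullback.condition
  have ht : (τ ≫ r) ≫ G.t = β ≫ G.t := by
    have := congrArg (· ≫ pullback.fst G.pU G.pU) hj
    simpa only [Category.assoc, Grpd.GroupoidScheme.j, pullback.lift_fst] using this
  have hs : (τ ≫ r) ≫ G.s = β ≫ G.s := by
    have := congrArg (· ≫ pullback.snd G.pU G.pU) hj
    simpa only [Category.assoc, Grpd.GroupoidScheme.j, pullback.lift_snd] using this
  have hc : ((τ ≫ r) ≫ G.i) ≫ G.s = β ≫ G.t := by rw [i_comp_s, ht]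
  let δ := cmp G ((τ ≫ r) ≫ G.i) β hc
  have hδs : δ ≫ G.s = β ≫ G.s := cmp_s G _ _ _
  have hδt : δ ≫ G.t = β ≫ G.s := by
    show cmp G _ _ hc ≫ G.t = _
    rw [cmp_t, i_comp_t, hs]
  let f : pullback (r ≫ G.j) G.j ⟶ pullback G.stabilizerToU (r ≫ G.s) :=
    pullback.lift (stabMk G δ (hδt.trans hδs.symm)) τ (by
      rw [stabMk_toU, hδt, ← hs]; simp only [Category.assoc])
  let x := pullback.fst G.stabilizerToU (r ≫ G.s)
  let τ' := pullback.snd G.stabilizerToU (r ≫ G.s)
  have hb : (τ' ≫ r) ≫ G.s = (x ≫ stabArrow G) ≫ G.t := by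
    rw [Category.assoc x, stabArrow_t, Category.assoc]; exact pullback.condition.symm
  have hb' : (x ≫ stabArrow G) ≫ G.s = (τ' ≫ r) ≫ G.s := by
    rw [hb, Category.assoc x, stabArrow_s, Category.assoc x, stabArrow_t]
  let b : pullback G.stabilizerToU (r ≫ G.s) ⟶ pullback (r ≫ G.j) G.j :=
    pullback.lift τ' (cmp G (τ' ≫ r) (x ≫ stabArrow G) hb) (by
      apply pullback.hom_ext
      · simp only [Category.assoc, Grpd.GroupoidScheme.j, pullback.lift_fst]
        rw [cmp_t, Category.assoc]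
      · simp only [Category.assoc, Grpd.GroupoidScheme.j, pullback.lift_snd]
        rw [cmp_s, hb', Category.assoc])
  have h1 : f ≫ x = stabMk G δ (hδt.trans hδs.symm) := pullback.lift_fst _ _ _
  have h2 : f ≫ τ' = τ := pullback.lift_snd _ _ _
  have h3 : b ≫ τ = τ' := pullback.lift_fst _ _ _
  have h4 : b ≫ β = cmp G (τ' ≫ r) (x ≫ stabArrow G) hb := pullback.lift_snd _ _ _
  have hfb : f ≫ b = 𝟙 _ := by
    apply pullback.hom_ext
    · rw [Category.assoc, show b ≫ pullback.fst _ _ = τ' from h3, h2, Category.id_comp]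
    · rw [Category.assoc, show b ≫ pullback.snd _ _ = _ from h4, Category.id_comp, comp_cmp]
      refine (cmp_congr G (show f ≫ τ' ≫ r = τ ≫ r by rw [← Category.assoc, h2]) ?_ _ ?_).trans (cmp_cmp_inv G (τ ≫ r) β hc ?_)
      · rw [← Category.assoc, h1, stabMk_arrow]
      · rw [← i_comp_t]; exact (cmp_t G _ _ hc).symm
      · rw [← i_comp_t]; exact (cmp_t G _ _ hc).symm
  have hbf : b ≫ f = 𝟙 _ := by
    apply pullback.hom_ext
    · rw [Category.assoc, show f ≫ pullback.fst _ _ = _ from h1, Category.id_comp]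
      apply stab_ext
      rw [Category.assoc, stabMk_arrow, comp_cmp]
      refine (cmp_congr G ?_ h4 _ ?_).trans (cmp_inv_cmp G (τ' ≫ r) (x ≫ stabArrow G) hb ?_)
      · rw [← Category.assoc, ← Category.assoc, h3]
      · rw [cmp_t, i_comp_s]
      · rw [cmp_t, i_comp_s]
    · rw [Category.assoc, show f ≫ pullback.snd _ _ = τ from h2, h3, Category.id_comp]
  exact ⟨⟨f, b, hfb, hbf⟩, h2⟩

/-- Quotient over a dense saturated open when the kernel pair of `j` is flat. -/
theorem exists_quotient_of_flat_kernel [IsNoetherian S] [IsNoetherian G.U] [IsNoetherian G.R] [Flat G.s]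
    [LocallyOfFiniteType G.s] [QuasiCompact G.s] [LocallyOfFiniteType G.pU] [QuasiCompact G.pU]
    [Flat (pullback.fst G.j G.j)] :
    ∃ (W : G.U.Opens) (hW : G.t ⁻¹ᵁ W = G.s ⁻¹ᵁ W), Dense (W : Set G.U) ∧
      ∃ (V : Scheme.{u}) (p : (W : Scheme.{u}) ⟶ V)
        (w : G.t.resLE W (G.s ⁻¹ᵁ W) hW.ge ≫ p = (G.s ∣_ W) ≫ p) (q : V ⟶ S),
        Nonempty (IsColimit (Cofork.ofπ p w)) ∧ p ≫ q = W.ι ≫ G.pU ∧
        Surjective p ∧ Flat p ∧ LocallyOfFinitePresentation p ∧ LocallyOfFiniteType q ∧ QuasiCompact q := by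
  haveI : LocallyOfFiniteType (pullback.fst G.pU G.pU ≫ G.pU) := inferInstance
  haveI : IsLocallyNoetherian (pullback G.pU G.pU) :=
    LocallyOfFiniteType.isLocallyNoetherian (pullback.fst G.pU G.pU ≫ G.pU)
  haveI : LocallyOfFiniteType (G.j ≫ pullback.fst G.pU G.pU ≫ G.pU) := by
    rw [← Category.assoc, Grpd.GroupoidScheme.j, pullback.lift_fst, G.t_over, ← G.s_over]
    infer_instance
  haveI : LocallyOfFiniteType G.j := locallyOfFiniteType_of_comp G.j (pullback.fst G.pU G.pU ≫ G.pU)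
  haveI : LocallyOfFinitePresentation G.j := inferInstance
  obtain ⟨Y, ψ, τ, hψs, hψf, hψp, hτ, hψτ⟩ := GrpQLib.exists_factor G.j
  let sY := τ ≫ pullback.snd G.pU G.pU
  let tY := τ ≫ pullback.fst G.pU G.pU
  have hs : ψ ≫ sY = G.s := by
    rw [← Category.assoc, hψτ]; exact pullback.lift_snd _ _ _
  have ht : ψ ≫ tY = G.t := by
    rw [← Category.assoc, hψτ]; exact pullback.lift_fst _ _ _
  haveI : Flat (ψ ≫ sY) := by rw [hs]; infer_instance
  haveI : Flat sY := FlatLocal.flat_of_comp ψ sY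
  haveI : LocallyOfFiniteType (ψ ≫ sY) := by rw [hs]; infer_instance
  haveI : LocallyOfFiniteType sY := by
    haveI : LocallyOfFinitePresentation (ψ ≫ sY) := inferInstance
    haveI : LocallyOfFinitePresentation sY := AlgSpLib.lfp_of_comp_fppf ψ sY ‹_›
    infer_instance
  haveI : IsLocallyNoetherian Y := LocallyOfFiniteType.isLocallyNoetherian sY
  haveI : CompactSpace Y := ψ.surjective.compactSpace ψ.continuous
  haveI : IsNoetherian Y := { }
  haveI : QuasiCompact sY := inferInstance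
  haveI : QuasiCompact ψ := inferInstance
  haveI : Epi ψ := Flat.epi_of_flat_of_surjective ψ
  have hext : ∀ {T : Scheme.{u}} {a b : T ⟶ Y}, a ≫ sY = b ≫ sY → a ≫ tY = b ≫ tY → a = b := fun {T a b} h1 h2 => by
    rw [← cancel_mono τ]
    apply pullback.hom_ext
    · simpa only [Category.assoc] using h2
    · simpa only [Category.assoc] using h1
  let e := G.e ≫ ψ
  have hes : e ≫ sY = 𝟙 _ := by rw [Category.assoc, hs, G.e_s]
  have het : e ≫ tY = 𝟙 _ := by rw [Category.assoc, ht, G.e_t]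
  have hi : ∀ {Z : Scheme.{u}} (a b : Z ⟶ G.R), a ≫ ψ = b ≫ ψ → a ≫ G.i ≫ ψ = b ≫ G.i ≫ ψ := fun a b h => by
    have h1 := congrArg (· ≫ sY) h
    have h2 := congrArg (· ≫ tY) h
    simp only [Category.assoc, hs, ht] at h1 h2
    apply hext <;> simp only [Category.assoc, hs, ht, G.i_s, G.i_t, h1, h2]
  let i : Y ⟶ Y := EffectiveEpi.desc ψ (G.i ≫ ψ) hi
  have hψi : ψ ≫ i = G.i ≫ ψ := EffectiveEpi.fac ψ (G.i ≫ ψ) hi
  have his : i ≫ sY = tY := by rw [← cancel_epi ψ, reassoc_of% hψi, hs, ht, G.i_s]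
  have hit : i ≫ tY = sY := by rw [← cancel_epi ψ, reassoc_of% hψi, hs, ht, G.i_t]
  let m : pullback G.s G.t ⟶ pullback sY tY :=
    pullback.map _ _ _ _ ψ ψ (𝟙 _) (by rw [Category.comp_id, hs]) (by rw [Category.comp_id, ht])
  haveI : Surjective m := MorphismProperty.pullbackMap (P := @Surjective) hψs hψs hs.symm ht.symm
  haveI : Flat m := MorphismProperty.pullbackMap (P := @Flat) hψf hψf hs.symm ht.symm
  haveI : QuasiCompact m := MorphismProperty.pullbackMap (P := @QuasiCompact) inferInstance inferInstance hs.symm ht.symm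
  have hm1 : m ≫ pullback.fst sY tY = pullback.fst G.s G.t ≫ ψ := pullback.lift_fst _ _ _
  have hm2 : m ≫ pullback.snd sY tY = pullback.snd G.s G.t ≫ ψ := pullback.lift_snd _ _ _
  have hcs : G.c ≫ G.s = pullback.snd G.s G.t ≫ G.s := by
    have := G.comp_s (pullback.fst G.s G.t) (pullback.snd G.s G.t) pullback.condition
    rwa [show pullback.lift (pullback.fst G.s G.t) (pullback.snd G.s G.t) pullback.condition = 𝟙 _ from
      pullback.hom_ext (by simp) (by simp), Category.id_comp] at this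
  have hct : G.c ≫ G.t = pullback.fst G.s G.t ≫ G.t := by
    have := G.comp_t (pullback.fst G.s G.t) (pullback.snd G.s G.t) pullback.condition
    rwa [show pullback.lift (pullback.fst G.s G.t) (pullback.snd G.s G.t) pullback.condition = 𝟙 _ from
      pullback.hom_ext (by simp) (by simp), Category.id_comp] at this
  have hc : ∀ {Z : Scheme.{u}} (a b : Z ⟶ pullback G.s G.t), a ≫ m = b ≫ m → a ≫ G.c ≫ ψ = b ≫ G.c ≫ ψ := fun a b h => by
    apply hext
    · have := congrArg (· ≫ pullback.snd sY tY ≫ sY) h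
      simp only [Category.assoc, reassoc_of% hm2, hs] at this
      simp only [Category.assoc, hs, hcs, this]
    · have := congrArg (· ≫ pullback.fst sY tY ≫ tY) h
      simp only [Category.assoc, reassoc_of% hm1, ht] at this
      simp only [Category.assoc, ht, hct, this]
  let c : pullback sY tY ⟶ Y := EffectiveEpi.desc m (G.c ≫ ψ) hc
  have hmc : m ≫ c = G.c ≫ ψ := EffectiveEpi.fac m (G.c ≫ ψ) hc
  haveI : Epi m := Flat.epi_of_flat_of_surjective m
  have hcs' : c ≫ sY = pullback.snd sY tY ≫ sY := by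
    rw [← cancel_epi m, reassoc_of% hmc, hs, hcs, reassoc_of% hm2, hs]
  have hct' : c ≫ tY = pullback.fst sY tY ≫ tY := by
    rw [← cancel_epi m, reassoc_of% hmc, ht, hct, reassoc_of% hm1, ht]
  have hover : tY ≫ G.pU = sY ≫ G.pU := by
    simp only [tY, sY, Category.assoc, pullback.condition]
  let H : Grpd.GroupoidScheme S :=
    { U := G.U
      R := Y
      pU := G.pU
      pR := sY ≫ G.pU
      s := sY
      t := tY
      e := e
      i := i
      c := c
      s_over := rfl
      t_over := hover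
      comp_s := fun α β h => by rw [Category.assoc, hcs', pullback.lift_snd_assoc]
      comp_t := fun α β h => by rw [Category.assoc, hct', pullback.lift_fst_assoc]
      assoc := fun α β δ h₁ h₂ => by
        apply hext <;>
          simp only [Category.assoc, hcs', hct', pullback.lift_snd_assoc, pullback.lift_fst_assoc]
      e_s := hes
      e_t := het
      comp_e := fun α => by
        apply hext <;>
          simp only [Category.assoc, hcs', hct', hes, het, pullback.lift_snd_assoc, pullback.lift_fst_assoc,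
            Category.comp_id]
      e_comp := fun α => by
        apply hext <;>
          simp only [Category.assoc, hcs', hct', hes, het, pullback.lift_snd_assoc, pullback.lift_fst_assoc,
            Category.comp_id]
      i_s := his
      i_t := hit
      comp_i := fun α => by
        apply hext <;>
          simp only [Category.assoc, hcs', hct', hes, het, his, hit, pullback.lift_snd_assoc,
            pullback.lift_fst_assoc, Category.comp_id]
      i_comp := fun α => by
        apply hext <;>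
          simp only [Category.assoc, hcs', hct', hes, het, his, hit, pullback.lift_snd_assoc,
            pullback.lift_fst_assoc, Category.comp_id] }
  haveI : Mono H.j := ⟨fun a b h => hext
      (by simpa [H, Grpd.GroupoidScheme.j] using congrArg (· ≫ pullback.snd _ _) h)
      (by simpa [H, Grpd.GroupoidScheme.j] using congrArg (· ≫ pullback.fst _ _) h)⟩
  haveI : Flat H.s := inferInstanceAs (Flat sY)
  haveI : LocallyOfFiniteType H.s := inferInstanceAs (LocallyOfFiniteType sY)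
  haveI : QuasiCompact H.s := inferInstanceAs (QuasiCompact sY)
  haveI : LocallyOfFiniteType H.pU := inferInstanceAs (LocallyOfFiniteType G.pU)
  haveI : QuasiCompact H.pU := inferInstanceAs (QuasiCompact G.pU)
  haveI : LocallyQuasiFinite H.stabilizerToU := by
    haveI : Mono H.stabilizerToU := inferInstanceAs (Mono (pullback.snd H.j H.diag))
    haveI : LocallyOfFiniteType (H.j ≫ pullback.snd H.pU H.pU) := by
      rw [Grpd.GroupoidScheme.j, pullback.lift_snd]; infer_instance
    haveI : LocallyOfFiniteType H.j := locallyOfFiniteType_of_comp H.j (pullback.snd H.pU H.pU)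
    haveI : LocallyOfFiniteType H.stabilizerToU :=
      MorphismProperty.pullback_snd (P := @LocallyOfFiniteType) _ _ ‹_›
    exact LocallyQuasiFinite.of_injective H.stabilizerToU.injective
  obtain ⟨W, hW, hd, V, p, w, q, ⟨hcol⟩, hpq, hps, -, hpp, hqp, hqc, -, -, hmono⟩ :=
    GenericQS.exists_dense_quotient H
  obtain ⟨-, hpf⟩ := hmono inferInstance
  have hW' : G.t ⁻¹ᵁ W = G.s ⁻¹ᵁ W := by
    rw [← hs, ← ht, Scheme.Hom.comp_preimage, Scheme.Hom.comp_preimage]
    exact congrArg (ψ ⁻¹ᵁ ·) hW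
  let ψW := ψ.resLE (H.s ⁻¹ᵁ W) (G.s ⁻¹ᵁ W) (by rw [← Scheme.Hom.comp_preimage]; exact (congrArg (· ⁻¹ᵁ W) hs).ge)
  have e_s : ψW ≫ (H.s ∣_ W) = G.s ∣_ W := by
    rw [← cancel_mono W.ι, Category.assoc, morphismRestrict_ι, morphismRestrict_ι, Scheme.Hom.resLE_comp_ι_assoc]
    exact congrArg (_ ≫ ·) hs
  have e_t : ψW ≫ H.t.resLE W (H.s ⁻¹ᵁ W) hW.ge = G.t.resLE W (G.s ⁻¹ᵁ W) hW'.ge := by
    rw [← cancel_mono W.ι, Category.assoc, Scheme.Hom.resLE_comp_ι, Scheme.Hom.resLE_comp_ι,
      Scheme.Hom.resLE_comp_ι_assoc]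
    exact congrArg (_ ≫ ·) ht
  haveI : Flat ψW := by dsimp only [ψW, Scheme.Hom.resLE]; infer_instance
  haveI : Surjective ψW := ⟨fun y => by
    obtain ⟨r, hr⟩ := ψ.surjective y.1
    refine ⟨⟨r, show G.s r ∈ W from ?_⟩, Subtype.ext ?_⟩
    · rw [← hs, Scheme.Hom.comp_apply, hr]; exact y.2
    · show (H.s ⁻¹ᵁ W).ι (ψW _) = y.1
      rw [← Scheme.Hom.comp_apply, Scheme.Hom.resLE_comp_ι]
      exact hr⟩
  haveI : Epi ψW := Flat.epi_of_flat_of_surjective ψW
  refine ⟨W, hW', hd, V, p, ?_, q, ⟨?_⟩, hpq, hps, hpf, hpp, inferInstance, hqc⟩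
  · rw [← e_t, ← e_s, Category.assoc, Category.assoc, w]
  · exact Cofork.IsColimit.mk' _ fun t => by
      have hh' : H.t.resLE W (H.s ⁻¹ᵁ W) hW.ge ≫ t.π = (H.s ∣_ W) ≫ t.π := by
        rw [← cancel_epi ψW, ← Category.assoc, e_t, ← Category.assoc, e_s]
        exact t.condition
      exact ⟨hcol.desc (Cofork.ofπ t.π hh'), hcol.fac _ WalkingParallelPair.one,
        fun {m} hm => Cofork.IsColimit.hom_ext hcol
          (hm.trans (hcol.fac (Cofork.ofπ t.π hh') WalkingParallelPair.one).symm)⟩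

/-- A dense saturated open with a flat quotient when the stabilizer is flat or the objects are reduced. -/
theorem exists_dense_quotient [IsNoetherian S] [Flat G.s] [LocallyOfFiniteType G.s] [QuasiCompact G.s]
    [LocallyOfFiniteType G.pU] [QuasiCompact G.pU] (hF : Flat G.stabilizerToU ∨ IsReduced G.U) :
    ∃ (U : G.U.Opens) (hU : G.t ⁻¹ᵁ U = G.s ⁻¹ᵁ U), Dense (U : Set G.U) ∧
      ∃ (V : Scheme.{u}) (p : (U : Scheme.{u}) ⟶ V)
        (w : G.t.resLE U (G.s ⁻¹ᵁ U) hU.ge ≫ p = (G.s ∣_ U) ≫ p) (q : V ⟶ S),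
        Nonempty (IsColimit (Cofork.ofπ p w)) ∧ p ≫ q = U.ι ≫ G.pU ∧
        Surjective p ∧ Flat p ∧ LocallyOfFinitePresentation p ∧ LocallyOfFiniteType q ∧ QuasiCompact q := by
  haveI : IsLocallyNoetherian G.U := LocallyOfFiniteType.isLocallyNoetherian G.pU
  haveI : CompactSpace G.U := QuasiCompact.compactSpace_of_compactSpace G.pU
  haveI : IsNoetherian G.U := { }
  haveI : IsIso G.i := isIso_i G
  haveI : Flat G.t := by rw [← G.i_s]; infer_instance
  haveI : LocallyOfFiniteType G.t := by rw [← G.i_s]; infer_instance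
  haveI : QuasiCompact G.t := by rw [← G.i_s]; infer_instance
  haveI : LocallyOfFinitePresentation G.t := inferInstance
  haveI : IsLocallyNoetherian G.R := LocallyOfFiniteType.isLocallyNoetherian G.t
  haveI : CompactSpace G.R := QuasiCompact.compactSpace_of_compactSpace G.t
  haveI : IsNoetherian G.R := { }
  obtain ⟨V₀, hV₀d, hV₀⟩ : ∃ V₀ : G.U.Opens, Dense (V₀ : Set G.U) ∧ Flat (G.stabilizerToU ∣_ V₀) := by
    rcases hF with h | h
    · exact ⟨⊤, dense_univ, inferInstance⟩
    · haveI := h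
      haveI : LocallyOfFiniteType (G.j ≫ pullback.snd G.pU G.pU) := by
        rw [Grpd.GroupoidScheme.j, pullback.lift_snd]; infer_instance
      haveI : LocallyOfFiniteType G.j := locallyOfFiniteType_of_comp G.j (pullback.snd G.pU G.pU)
      haveI : LocallyOfFiniteType G.stabilizerToU :=
        MorphismProperty.pullback_snd (P := @LocallyOfFiniteType) _ _ ‹_›
      haveI : IsLocallyNoetherian (pullback G.pU G.pU) :=
        LocallyOfFiniteType.isLocallyNoetherian (pullback.fst G.pU G.pU ≫ G.pU)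
      haveI : QuasiCompact G.stabilizerToU :=
        MorphismProperty.pullback_snd (P := @QuasiCompact) G.j G.diag inferInstance
      obtain ⟨V₀, h1, h2, -⟩ := S0414.result G.stabilizerToU
      exact ⟨V₀, h1, h2⟩
  let W := sat G V₀
  have hinv : G.s ⁻¹ᵁ W = G.t ⁻¹ᵁ W := sat_inv G V₀
  have hWf : Flat (G.stabilizerToU ∣_ W) := restrict_sat_stab G V₀ hV₀
  have hWd : Dense (W : Set G.U) := hV₀d.mono (le_sat G V₀)
  let G' := restrict G W hinv
  let ι' := (G.s ⁻¹ᵁ W).ι
  haveI : Flat (pullback.fst G'.j G'.j) := by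
    obtain ⟨e, he⟩ := exists_iso_kernel G ι'
    have h1 : Flat (pullback.snd G.stabilizerToU W.ι) := by
      rw [← (isPullback_morphismRestrict G.stabilizerToU W).flip.isoPullback_inv_snd]
      exact (MorphismProperty.cancel_left_of_respectsIso @Flat _ _).2 hWf
    have h2 : Flat (pullback.snd G.stabilizerToU (ι' ≫ G.s)) := by
      rw [← morphismRestrict_ι, ← pullbackLeftPullbackSndIso_inv_snd_snd]
      exact (MorphismProperty.cancel_left_of_respectsIso @Flat _ _).2 (MorphismProperty.pullback_snd _ _ h1)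
    haveI : Flat (pullback.fst (ι' ≫ G.j) G.j) := by
      rw [← he]; exact (MorphismProperty.cancel_left_of_respectsIso @Flat _ _).2 h2
    let WW : pullback (W.ι ≫ G.pU) (W.ι ≫ G.pU) ⟶ pullback G.pU G.pU :=
      pullback.map _ _ _ _ W.ι W.ι (𝟙 S) (Category.comp_id _) (Category.comp_id _)
    haveI : Mono WW := by dsimp only [WW]; infer_instance
    have e' : G'.j ≫ WW = ι' ≫ G.j := by
      apply pullback.hom_ext
      · simp only [WW, Grpd.GroupoidScheme.j, Category.assoc, pullback.lift_fst, pullback.lift_fst_assoc]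
        exact (pullback.lift_fst_assoc _ _ _ _).trans (restrictT_ι G W hinv)
      · simp only [WW, Grpd.GroupoidScheme.j, Category.assoc, pullback.lift_snd, pullback.lift_snd_assoc]
        exact (pullback.lift_snd_assoc _ _ _ _).trans (morphismRestrict_ι G.s W)
    let M : pullback G'.j G'.j ⟶ pullback (ι' ≫ G.j) G.j :=
      pullback.map _ _ _ _ (𝟙 _) ι' WW (by rw [Category.id_comp]; exact e') e'
    haveI : IsOpenImmersion M := by dsimp only [M]; infer_instance
    have : pullback.fst G'.j G'.j = M ≫ pullback.fst (ι' ≫ G.j) G.j := by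
      rw [show M ≫ pullback.fst _ _ = pullback.fst _ _ ≫ 𝟙 _ from pullback.lift_fst _ _ _]
      exact (Category.comp_id _).symm
    rw [this]
    infer_instance
  haveI : IsLocallyNoetherian W.toScheme := LocallyOfFiniteType.isLocallyNoetherian W.ι
  haveI : CompactSpace W.toScheme := isCompact_iff_compactSpace.mp (NoetherianSpace.isCompact (W : Set G.U))
  haveI : IsNoetherian G'.U := ({ } : IsNoetherian W.toScheme)
  haveI : IsLocallyNoetherian (G.s ⁻¹ᵁ W).toScheme := LocallyOfFiniteType.isLocallyNoetherian ι'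
  haveI : CompactSpace (G.s ⁻¹ᵁ W).toScheme :=
    isCompact_iff_compactSpace.mp (NoetherianSpace.isCompact (G.s ⁻¹ᵁ W : Set G.R))
  haveI : IsNoetherian G'.R := ({ } : IsNoetherian (G.s ⁻¹ᵁ W).toScheme)
  haveI : Flat G'.s := inferInstanceAs (Flat (G.s ∣_ W))
  haveI : LocallyOfFiniteType G'.s := inferInstanceAs (LocallyOfFiniteType (G.s ∣_ W))
  haveI : QuasiCompact G'.s := inferInstanceAs (QuasiCompact (G.s ∣_ W))
  haveI : LocallyOfFiniteType G'.pU := inferInstanceAs (LocallyOfFiniteType (W.ι ≫ G.pU))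
  haveI : QuasiCompact G'.pU := inferInstanceAs (QuasiCompact (W.ι ≫ G.pU))
  obtain ⟨W₂, hW₂, hd, V, p, w, q, ⟨hcol⟩, hpq, hps, hpf, hpp, hql, hqc⟩ := exists_quotient_of_flat_kernel G'
  let U : G.U.Opens := W.ι ''ᵁ W₂
  have hmem : ∀ x, (W.ι x : G.U) ∈ U ↔ x ∈ W₂ := fun x => by
    constructor
    · rintro ⟨y, hy, hxy⟩
      exact W.ι.isOpenEmbedding.injective hxy ▸ hy
    · exact fun h => ⟨x, h, rfl⟩
  have hUW : U ≤ W := fun x hx => by obtain ⟨y, -, rfl⟩ := hx; exact y.2
  have hU : G.t ⁻¹ᵁ U = G.s ⁻¹ᵁ U := by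
    ext r
    have hiff : ∀ hr : G.s r ∈ W, (G.t r ∈ U ↔ G.s r ∈ U) := fun hr => by
      have ht' : W.ι (G'.t ⟨r, hr⟩) = G.t r :=
        congrArg (fun m : (G.s ⁻¹ᵁ W).toScheme ⟶ G.U => m ⟨r, hr⟩) (restrictT_ι G W hinv)
      have hs' : W.ι (G'.s ⟨r, hr⟩) = G.s r :=
        congrArg (fun m : (G.s ⁻¹ᵁ W).toScheme ⟶ G.U => m ⟨r, hr⟩) (morphismRestrict_ι G.s W)
      rw [← ht', ← hs', hmem, hmem]
      exact iff_of_eq (congrArg (fun O : G'.R.Opens => (⟨r, hr⟩ : G'.R) ∈ O) hW₂)
    exact ⟨fun h => (hiff (hinv.ge (hUW h))).1 h, fun h => (hiff (hUW h)).2 h⟩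
  have hUd : Dense (U : Set G.U) := by
    have h1 : DenseRange W.ι := by rw [DenseRange, Scheme.Opens.range_ι]; exact hWd
    exact h1.dense_image W.ι.continuous hd
  let eU : W₂.toScheme ≅ U.toScheme := W.ι.isoImage W₂
  have heU : eU.hom ≫ U.ι = W₂.ι ≫ W.ι := W.ι.isoImage_hom_ι W₂
  let R₂ := G'.s ⁻¹ᵁ W₂
  have hR : ∀ r : R₂.toScheme, (G.s ⁻¹ᵁ W).ι (R₂.ι r) ∈ G.s ⁻¹ᵁ U := fun r => by
    show G.s (ι' (R₂.ι r)) ∈ U
    have h : W.ι (G'.s (R₂.ι r)) = G.s (ι' (R₂.ι r)) :=
      congrArg (fun m : (G.s ⁻¹ᵁ W).toScheme ⟶ G.U => m (R₂.ι r)) (morphismRestrict_ι G.s W)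
    exact (congrArg (· ∈ U) h).mp ((hmem _).2 r.2)
  let eR : R₂.toScheme ⟶ (G.s ⁻¹ᵁ U).toScheme :=
    IsOpenImmersion.lift (G.s ⁻¹ᵁ U).ι (R₂.ι ≫ ι') (by
      rw [Scheme.Opens.range_ι]; rintro _ ⟨r, rfl⟩; exact hR r)
  have heR : eR ≫ (G.s ⁻¹ᵁ U).ι = R₂.ι ≫ ι' := IsOpenImmersion.lift_fac _ _ _
  haveI : IsOpenImmersion eR := by
    haveI : IsOpenImmersion (eR ≫ (G.s ⁻¹ᵁ U).ι) := by rw [heR]; infer_instance
    exact IsOpenImmersion.of_comp eR (G.s ⁻¹ᵁ U).ι
  haveI : Surjective eR := ⟨fun y => by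
    have hy : G.s y.1 ∈ W := hUW y.2
    refine ⟨⟨⟨y.1, hy⟩, show G'.s ⟨y.1, hy⟩ ∈ W₂ from (hmem _).1 ?_⟩, (G.s ⁻¹ᵁ U).ι.isOpenEmbedding.injective ?_⟩
    · have h : W.ι (G'.s ⟨y.1, hy⟩) = G.s y.1 :=
        congrArg (fun m : (G.s ⁻¹ᵁ W).toScheme ⟶ G.U => m ⟨y.1, hy⟩) (morphismRestrict_ι G.s W)
      exact (congrArg (· ∈ U) h).mpr y.2
    · rw [← Scheme.Hom.comp_apply, heR]; rfl⟩
  haveI : IsIso eR := isIso_of_surjective eR
  have e_s : eR ≫ (G.s ∣_ U) = (G'.s ∣_ W₂) ≫ eU.hom := by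
    rw [← cancel_mono U.ι, Category.assoc, Category.assoc, morphismRestrict_ι, reassoc_of% heR, heU,
      morphismRestrict_ι_assoc]
    exact congrArg (R₂.ι ≫ ·) (morphismRestrict_ι G.s W).symm
  have e_t : eR ≫ G.t.resLE U (G.s ⁻¹ᵁ U) hU.ge = G'.t.resLE W₂ R₂ hW₂.ge ≫ eU.hom := by
    rw [← cancel_mono U.ι, Category.assoc, Category.assoc, Scheme.Hom.resLE_comp_ι, reassoc_of% heR, heU,
      Scheme.Hom.resLE_comp_ι_assoc]
    exact congrArg (R₂.ι ≫ ·) (restrictT_ι G W hinv).symm
  haveI := hpf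
  haveI := hpp
  haveI := hps
  refine ⟨U, hU, hUd, V, eU.inv ≫ p, ?_, q, ⟨?_⟩, ?_, inferInstance, inferInstance, inferInstance, hql, hqc⟩
  · rw [← cancel_epi eR, reassoc_of% e_t, reassoc_of% e_s, eU.hom_inv_id_assoc]
    exact w
  · exact Cofork.IsColimit.mk' _ fun t => by
      have hh' : G'.t.resLE W₂ R₂ hW₂.ge ≫ eU.hom ≫ t.π = (G'.s ∣_ W₂) ≫ eU.hom ≫ t.π := by
        rw [← Category.assoc, ← e_t, ← Category.assoc, ← e_s, Category.assoc, Category.assoc, t.condition]
      refine ⟨hcol.desc (Cofork.ofπ (eU.hom ≫ t.π) hh'), ?_, fun {m} hm => Cofork.IsColimit.hom_ext hcol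
        (?_ : p ≫ m = p ≫ hcol.desc (Cofork.ofπ (eU.hom ≫ t.π) hh'))⟩
      · show (eU.inv ≫ p) ≫ _ = t.π
        rw [Category.assoc, show p ≫ hcol.desc (Cofork.ofπ (eU.hom ≫ t.π) hh') = eU.hom ≫ t.π from
          hcol.fac _ WalkingParallelPair.one, eU.inv_hom_id_assoc]
      · rw [show p ≫ hcol.desc (Cofork.ofπ (eU.hom ≫ t.π) hh') = eU.hom ≫ t.π from
          hcol.fac _ WalkingParallelPair.one, ← hm, show (Cofork.ofπ (eU.inv ≫ p) _).π = eU.inv ≫ p from rfl,
          Category.assoc, eU.hom_inv_id_assoc]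
  · rw [Category.assoc, hpq, ← cancel_epi eU.hom, eU.hom_inv_id_assoc, reassoc_of% heU]
    rfl

end Groth.Agent.GrpdLib.FlatStab
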