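import Groth.Agent.GrpdLib.QuasiSectionFT
import Groth.Agent.GrpdLib.InvariantAffine
import Groth.Agent.GrpdLib.Restrict
import Groth.Agent.Stk19b.QDMSlice.GrpdMain
import Groth.Agent.S1936
import Groth.Agent.RelVALib.CoprodImm
import Groth.Agent.EGA43.CMChart.Main
import Groth.Agent.CAlgSmall.FiniteGenericFibre
import Groth.Agent.Et18.Descent
import Groth.Agent.SGA3cLib.MultHomLocus
import Groth.Agent.FlatMorThick.Topological

/-!
# A groupoid with quasi-finite stabilizer has a quotient over a dense saturated open (SGA 3 V 8.1)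
-/

set_option autoImplicit false
set_option backward.isDefEq.respectTransparency false
set_option backward.isDefEq.respectTransparency.types false
set_option linter.style.haveILetI false

universe u

open CategoryTheory CategoryTheory.Limits AlgebraicGeometry TopologicalSpace

namespace Groth.Agent.GrpdLib.GenericQS

open Groth.Agent GrpdLib

/-- An immersion into the union of two disjoint opens from two immersions. -/
theorem isImmersion_coprod_desc {A B Z : Scheme.{u}} (a : A ⟶ Z) (b : B ⟶ Z) [IsImmersion a] [IsImmersion b]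
    (DA DB : Z.Opens) (hA : ∀ x, a x ∈ DA ∧ a x ∉ DB) (hB : ∀ y, b y ∈ DB ∧ b y ∉ DA) :
    IsImmersion (coprod.desc a b) := by
  let O : Z.Opens := (a.coborderRange ⊓ DA) ⊔ (b.coborderRange ⊓ DB)
  have ha : Set.range a ⊆ Set.range O.ι := by
    rw [Scheme.Opens.range_ι]
    rintro _ ⟨x, rfl⟩
    exact Or.inl ⟨subset_coborder ⟨x, rfl⟩, (hA x).1⟩
  have hb : Set.range b ⊆ Set.range O.ι := by
    rw [Scheme.Opens.range_ι]
    rintro _ ⟨y, rfl⟩
    exact Or.inr ⟨subset_coborder ⟨y, rfl⟩, (hB y).1⟩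
  let a₁ := IsOpenImmersion.lift O.ι a ha
  let b₁ := IsOpenImmersion.lift O.ι b hb
  have ha₁ : a₁ ≫ O.ι = a := IsOpenImmersion.lift_fac _ _ _
  have hb₁ : b₁ ≫ O.ι = b := IsOpenImmersion.lift_fac _ _ _
  have key : ∀ {C : Scheme.{u}} (c : C ⟶ Z) (c₁ : C ⟶ (O : Scheme.{u})) (_ : c₁ ≫ O.ι = c) [IsImmersion c],
      (∀ z ∈ O, z ∈ closure (Set.range c) → z ∈ c.coborderRange) → IsClosedImmersion c₁ := by
    intro C c c₁ hc _ hz
    have : IsImmersion (c₁ ≫ O.ι) := by rw [hc]; infer_instance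
    have : IsImmersion c₁ := IsImmersion.of_comp c₁ O.ι
    refine IsClosedImmersion.of_isPreimmersion c₁ ?_
    have : Set.range c₁ = O.ι ⁻¹' closure (Set.range c) := by
      refine Set.Subset.antisymm ?_ fun z hzc => ?_
      · rintro _ ⟨x, rfl⟩
        refine subset_closure ⟨x, ?_⟩
        rw [← Scheme.Hom.comp_apply, hc]
      · obtain ⟨x, hx⟩ : O.ι z ∈ Set.range c := by
          rw [← closure_inter_coborder (s := Set.range c)]
          exact ⟨hzc, hz _ z.2 hzc⟩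
        refine ⟨x, O.ι.isOpenEmbedding.injective ?_⟩
        rw [← Scheme.Hom.comp_apply, hc, hx]
    rw [this]
    exact isClosed_closure.preimage O.ι.continuous
  have h1 : IsClosedImmersion a₁ := key a a₁ ha₁ fun z hz hzc => by
    rcases hz with h | h
    · exact h.1
    · obtain ⟨-, h1, x, rfl⟩ := mem_closure_iff.1 hzc _ DB.isOpen h.2
      exact ((hA x).2 h1).elim
  have h2 : IsClosedImmersion b₁ := key b b₁ hb₁ fun z hz hzc => by
    rcases hz with h | h
    · obtain ⟨-, h1, x, rfl⟩ := mem_closure_iff.1 hzc _ DA.isOpen h.2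
      exact ((hB x).2 h1).elim
    · exact h.1
  have h3 : IsClosedImmersion (coprod.desc a₁ b₁) := by
    refine RelVALib.isClosedImmersion_coprod_desc a₁ b₁ (Set.disjoint_left.2 ?_)
    rintro _ ⟨x, rfl⟩ ⟨y, hy⟩
    have := congrArg O.ι hy
    rw [← Scheme.Hom.comp_apply, ← Scheme.Hom.comp_apply, ha₁, hb₁] at this
    exact (hB y).2 (this ▸ (hA x).1)
  have : coprod.desc a b = coprod.desc a₁ b₁ ≫ O.ι := by
    apply coprod.hom_ext <;> simp [ha₁, hb₁]
  rw [this]
  infer_instance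

theorem isCMAt_comp_openImmersion_iff {X Y Z : Scheme.{u}} (g : X ⟶ Y) (j : Y ⟶ Z) [IsOpenImmersion j] (x : X) :
    MoreMor.IsCMAt (g ≫ j) x ↔ MoreMor.IsCMAt g x := by
  obtain ⟨e₁⟩ := EGA43.CMChart.exists_fibre_stalk_equiv (g ≫ j) x
  obtain ⟨e₂⟩ := EGA43.CMChart.exists_fibre_stalk_equiv g x
  let h := (g.stalkMap x).hom
  let σ : ↥(Z.presheaf.stalk (j (g x))) ≃+* ↥(Y.presheaf.stalk (g x)) :=
    (asIso (j.stalkMap (g x))).commRingCatIsoToRingEquiv
  have hc : ((g ≫ j).stalkMap x).hom = h.comp σ.toRingHom := by rw [Scheme.Hom.stalkMap_comp]; rfl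
  have hflat : ((g ≫ j).stalkMap x).hom.Flat ↔ h.Flat := by
    rw [hc]
    refine ⟨fun hh => ?_, fun hh => RingHom.Flat.comp (RingHom.Flat.of_bijective σ.bijective) hh⟩
    have : h = (h.comp σ.toRingHom).comp σ.symm.toRingHom :=
      RingHom.ext fun a => (congrArg h (σ.apply_symm_apply a)).symm
    rw [this]
    exact RingHom.Flat.comp (RingHom.Flat.of_bijective σ.symm.bijective) hh
  let q := Ideal.quotEquivOfEq (R := ↥(X.presheaf.stalk x))
    (I := (IsLocalRing.maximalIdeal (Z.presheaf.stalk ((g ≫ j) x))).map ((g ≫ j).stalkMap x).hom)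
    (J := (IsLocalRing.maximalIdeal (Y.presheaf.stalk (g x))).map h) (by
      rw [hc, ← Ideal.map_map]
      congr 1
      exact IsLocalRing.map_maximalIdeal_of_surjective σ.toRingHom σ.surjective)
  refine and_congr hflat ⟨fun hh => ?_, fun hh => ?_⟩
  · haveI := hh
    exact CAlgH3.isCohenMacaulayLocalRing_of_ringEquiv ((e₁.symm.trans q).trans e₂)
  · haveI := hh
    exact CAlgH3.isCohenMacaulayLocalRing_of_ringEquiv ((e₂.symm.trans q.symm).trans e₁)

theorem isIso_of_surjective {X Y : Scheme.{u}} (f : X ⟶ Y) [IsOpenImmersion f] [Surjective f] : IsIso f := by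
  haveI : Epi f.base := (TopCat.epi_iff_surjective _).2 f.surjective
  exact IsOpenImmersion.isIso f

/-- A property over `W` passes along an open immersion into the source covering the preimage. -/
theorem restrict_of_openImmersion (P : MorphismProperty Scheme.{u}) [P.RespectsIso] {A B C : Scheme.{u}}
    (j : A ⟶ B) [IsOpenImmersion j] (f : B ⟶ C) (W : C.Opens) (hj : (f ⁻¹ᵁ W : Set B) ⊆ Set.range j)
    (h : P ((j ≫ f) ∣_ W)) : P (f ∣_ W) := by
  rw [morphismRestrict_comp] at h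
  haveI : Surjective (j ∣_ (f ⁻¹ᵁ W)) := ⟨fun b => by
    obtain ⟨a, ha⟩ := hj b.2
    refine ⟨⟨a, show j a ∈ f ⁻¹ᵁ W from ha ▸ b.2⟩, Subtype.ext ?_⟩
    rw [morphismRestrict_base_coe]
    exact ha⟩
  haveI : IsIso (j ∣_ (f ⁻¹ᵁ W)) := isIso_of_surjective _
  exact (MorphismProperty.cancel_left_of_respectsIso P _ _).1 h

theorem restrict_of_le (P : MorphismProperty Scheme.{u}) [IsZariskiLocalAtTarget P] {B C : Scheme.{u}}
    (f : B ⟶ C) {V W : C.Opens} (hVW : V ≤ W) (h : P (f ∣_ W)) : P (f ∣_ V) := by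
  have := (MorphismProperty.arrow_mk_iso_iff P (morphismRestrictRestrict f W (W.ι ⁻¹ᵁ V))).1
    (IsZariskiLocalAtTarget.restrict h _)
  rwa [Scheme.Hom.image_preimage_eq_opensRange_inf, Scheme.Opens.opensRange_ι, inf_eq_right.mpr hVW] at this

theorem restrict_sup (P : MorphismProperty Scheme.{u}) [IsZariskiLocalAtTarget P] {B C : Scheme.{u}}
    (f : B ⟶ C) (V W : C.Opens) (hV : P (f ∣_ V)) (hW : P (f ∣_ W)) : P (f ∣_ (V ⊔ W)) := by
  refine (IsZariskiLocalAtTarget.iff_of_iSup_eq_top (P := P)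
    (fun i : Bool => (V ⊔ W).ι ⁻¹ᵁ (if i then V else W))
    (by
      rw [← Scheme.Hom.preimage_iSup, iSup_bool_eq]
      simp only [if_true, Bool.false_eq_true, if_false]
      exact Scheme.Opens.ι_preimage_self _)).mpr fun i => ?_
  refine (MorphismProperty.arrow_mk_iso_iff P (morphismRestrictRestrict f _ _)).2 ?_
  rw [Scheme.Hom.image_preimage_eq_opensRange_inf, Scheme.Opens.opensRange_ι,
    inf_eq_right.mpr (by cases i <;> simp)]
  cases i
  · exact hW
  · exact hV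

variable {S : Scheme.{u}} (G : Grpd.GroupoidScheme S)

/-- Arrows to the image of `g`, projected to their sources. -/
noncomputable abbrev hh {U' : Scheme.{u}} (g : U' ⟶ G.U) : pullback G.t g ⟶ G.U :=
  pullback.fst G.t g ≫ G.s

theorem exists_iso_pullback {U' : Scheme.{u}} (g : U' ⟶ G.U) {T : Scheme.{u}} (r : T ⟶ G.R) :
    ∃ e : pullback (hh G g) (r ≫ G.s) ≅ pullback (hh G g) (r ≫ G.t),
      e.hom ≫ pullback.snd _ _ = pullback.snd _ _ := by
  have hf : (pullback.fst (hh G g) (r ≫ G.s) ≫ pullback.fst G.t g) ≫ G.s =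
      ((pullback.snd _ _ ≫ r) ≫ G.i) ≫ G.t := by
    rw [i_comp_t, Category.assoc, Category.assoc]; exact pullback.condition
  have hb : (pullback.fst (hh G g) (r ≫ G.t) ≫ pullback.fst G.t g) ≫ G.s =
      (pullback.snd _ _ ≫ r) ≫ G.t := by
    rw [Category.assoc, Category.assoc]; exact pullback.condition
  let f : pullback (hh G g) (r ≫ G.s) ⟶ pullback (hh G g) (r ≫ G.t) :=
    pullback.lift (pullback.lift (cmp G _ _ hf) (pullback.fst _ _ ≫ pullback.snd G.t g)
      (by rw [cmp_t, Category.assoc, pullback.condition, Category.assoc])) (pullback.snd _ _)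
      (by rw [pullback.lift_fst_assoc, cmp_s, i_comp_s, Category.assoc])
  let b : pullback (hh G g) (r ≫ G.t) ⟶ pullback (hh G g) (r ≫ G.s) :=
    pullback.lift (pullback.lift (cmp G _ _ hb) (pullback.fst _ _ ≫ pullback.snd G.t g)
      (by rw [cmp_t, Category.assoc, pullback.condition, Category.assoc])) (pullback.snd _ _)
      (by rw [pullback.lift_fst_assoc, cmp_s, Category.assoc])
  have hfb : f ≫ b = 𝟙 _ := by
    apply pullback.hom_ext
    · apply pullback.hom_ext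
      · simp only [b, Category.assoc, pullback.lift_fst, Category.id_comp]
        rw [comp_cmp]
        refine Eq.trans (cmp_congr G ?_ ?_ _ ?_) (cmp_cmp_inv_right G ((pullback.snd _ _ ≫ r) ≫ G.i) _ hf ?_)
        · simp [f]
        · simp [f, i_comp_i]
        · rw [cmp_s]; simp [i_comp_i, G.i_s, G.i_t, reassoc_of% (i_comp_i G)]
        · rw [cmp_s]; simp [i_comp_i, G.i_s, G.i_t, reassoc_of% (i_comp_i G)]
      · simp [f, b]
    · simp [f, b]
  have hbf : b ≫ f = 𝟙 _ := by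
    apply pullback.hom_ext
    · apply pullback.hom_ext
      · simp only [f, Category.assoc, pullback.lift_fst, Category.id_comp]
        rw [comp_cmp]
        refine Eq.trans (cmp_congr G ?_ ?_ _ ?_) (cmp_cmp_inv_right G (pullback.snd _ _ ≫ r) _ hb ?_)
        · simp [b]
        · simp [b]
        · rw [cmp_s, i_comp_t]
        · rw [cmp_s, i_comp_t]
      · simp [f, b]
    · simp [f, b]
  exact ⟨⟨f, b, hfb, hbf⟩, pullback.lift_snd _ _ _⟩

section

variable [Flat G.t] [LocallyOfFinitePresentation G.t]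

/-- The saturation of an open. -/
noncomputable def sat (V : G.U.Opens) : G.U.Opens :=
  ⟨⇑G.t '' (⇑G.s ⁻¹' (V : Set G.U)), G.t.isOpenMap _ (V.isOpen.preimage G.s.continuous)⟩

theorem sat_inv (V : G.U.Opens) : G.s ⁻¹ᵁ sat G V = G.t ⁻¹ᵁ sat G V :=
  TopologicalSpace.Opens.ext (saturation_invariant G (V : Set G.U))

theorem le_sat (V : G.U.Opens) : V ≤ sat G V := fun x hx =>
  ⟨G.e x, show G.s (G.e x) ∈ V by rwa [← Scheme.Hom.comp_apply, G.e_s],
    by rw [← Scheme.Hom.comp_apply, G.e_t]; rfl⟩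

theorem sat_le {V W : G.U.Opens} (h : V ≤ W) (hW : G.s ⁻¹ᵁ W = G.t ⁻¹ᵁ W) : sat G V ≤ W := by
  rintro _ ⟨r, hr, rfl⟩
  exact hW.le (show r ∈ G.s ⁻¹ᵁ W from h hr)

theorem restrict_sat (P : MorphismProperty Scheme.{u}) [P.IsStableUnderBaseChange]
    [P.DescendsAlong (@Surjective ⊓ @Flat ⊓ @QuasiCompact)] [IsLocallyNoetherian G.U] [NoetherianSpace G.R]
    {U' : Scheme.{u}} (g : U' ⟶ G.U) (V : G.U.Opens) (h : P (hh G g ∣_ V)) :
    P (hh G g ∣_ sat G V) := by
  let W := sat G V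
  let σ := G.t.resLE W (G.s ⁻¹ᵁ V) (fun r hr => ⟨r, hr, rfl⟩)
  haveI : Flat σ := by dsimp only [σ, Scheme.Hom.resLE]; infer_instance
  haveI : Surjective σ := ⟨fun w => by
    obtain ⟨r, hr, hw⟩ := w.2
    refine ⟨⟨r, hr⟩, W.ι.isOpenEmbedding.injective ?_⟩
    rw [← Scheme.Hom.comp_apply, Scheme.Hom.resLE_comp_ι, Scheme.Hom.comp_apply]
    exact hw⟩
  haveI : NoetherianSpace (G.s ⁻¹ᵁ V).toScheme :=
    (G.s ⁻¹ᵁ V).ι.isOpenEmbedding.isInducing.noetherianSpace
  have hσ : (@Surjective ⊓ @Flat ⊓ @QuasiCompact : MorphismProperty Scheme.{u}) σ :=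
    ⟨⟨inferInstance, inferInstance⟩, inferInstance⟩
  have h1 : P (pullback.snd (hh G g) V.ι) := by
    rw [← (isPullback_morphismRestrict (hh G g) V).flip.isoPullback_inv_snd]
    exact (MorphismProperty.cancel_left_of_respectsIso P _ _).2 h
  have h2 : P (pullback.snd (hh G g) ((G.s ⁻¹ᵁ V).ι ≫ G.s)) := by
    rw [← morphismRestrict_ι, ← pullbackLeftPullbackSndIso_inv_snd_snd]
    exact (MorphismProperty.cancel_left_of_respectsIso P _ _).2 (MorphismProperty.pullback_snd _ _ h1)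
  have h3 : P (pullback.snd (hh G g) ((G.s ⁻¹ᵁ V).ι ≫ G.t)) := by
    obtain ⟨e, he⟩ := exists_iso_pullback G g (G.s ⁻¹ᵁ V).ι
    rw [← he] at h2
    exact (MorphismProperty.cancel_left_of_respectsIso P _ _).1 h2
  have h4 : P (pullback.snd (pullback.snd (hh G g) W.ι) σ) := by
    rw [← (Scheme.Hom.resLE_comp_ι _ _ : σ ≫ W.ι = (G.s ⁻¹ᵁ V).ι ≫ G.t),
      ← pullbackLeftPullbackSndIso_inv_snd_snd] at h3
    exact (MorphismProperty.cancel_left_of_respectsIso P _ _).1 h3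
  have h5 : P (pullback.snd (hh G g) W.ι) := MorphismProperty.of_pullback_snd_of_descendsAlong hσ h4
  rw [← (isPullback_morphismRestrict (hh G g) W).flip.isoPullback_hom_snd]
  exact (MorphismProperty.cancel_left_of_respectsIso P _ _).2 h5

end

/-- A quasi-section of the groupoid over the open `W`. -/
def QS (W : G.U.Opens) : Prop :=
  ∃ (U' : Scheme.{u}) (g : U' ⟶ G.U), IsImmersion g ∧ (∀ a, g a ∈ W) ∧
    IsFinite (hh G g ∣_ W) ∧ Flat (hh G g ∣_ W) ∧ LocallyOfFinitePresentation (hh G g ∣_ W) ∧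
    (W : Set G.U) ⊆ Set.range (hh G g) ∧
    ∀ E : Set U', (∀ x ∈ E, ∀ y ∈ E, ∃ r : G.R, G.t r = g x ∧ G.s r = g y) →
      ∃ V : U'.Opens, IsAffineOpen V ∧ E ⊆ (V : Set U')

theorem qs_bot : QS G ⊥ := by
  haveI : IsEmpty (⊥ : G.U.Opens).toScheme := ⟨fun x => x.2.elim⟩
  haveI : IsIso (hh G (⊥ : G.U.Opens).ι ∣_ ⊥) := isIso_of_isEmpty _
  exact ⟨(⊥ : G.U.Opens).toScheme, (⊥ : G.U.Opens).ι, inferInstance, fun a => a.2, inferInstance,
    inferInstance, inferInstance, fun x hx => hx.elim, fun E _ => ⟨⊥, isAffineOpen_bot _, fun x _ => x.2.elim⟩⟩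

theorem qs_sup {W₁ W₂ : G.U.Opens} (i₁ : G.s ⁻¹ᵁ W₁ = G.t ⁻¹ᵁ W₁) (i₂ : G.s ⁻¹ᵁ W₂ = G.t ⁻¹ᵁ W₂)
    (hd : ∀ x ∈ W₁, x ∉ W₂) (h₁ : QS G W₁) (h₂ : QS G W₂) : QS G (W₁ ⊔ W₂) := by
  obtain ⟨A, a, hai, haW, haF, haFl, haP, has, haE⟩ := h₁
  obtain ⟨B, b, hbi, hbW, hbF, hbFl, hbP, hbs, hbE⟩ := h₂
  let g := coprod.desc a b
  have hl : ∀ x, g ((coprod.inl : A ⟶ A ⨿ B) x) = a x := fun x => by
    rw [← Scheme.Hom.comp_apply, coprod.inl_desc]
  have hr : ∀ y, g ((coprod.inr : B ⟶ A ⨿ B) y) = b y := fun y => by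
    rw [← Scheme.Hom.comp_apply, coprod.inr_desc]
  have hor : ∀ z : ↥(A ⨿ B), (∃ x, (coprod.inl : A ⟶ A ⨿ B) x = z) ∨ ∃ y, (coprod.inr : B ⟶ A ⨿ B) y = z := fun z => by
    obtain ⟨w, rfl⟩ := (coprodMk A B).surjective z
    rcases w with x | y
    · exact Or.inl ⟨x, (coprodMk_inl A B x).symm⟩
    · exact Or.inr ⟨y, (coprodMk_inr A B y).symm⟩
  have hmem₁ : ∀ z, g z ∈ W₁ → ∃ x, (coprod.inl : A ⟶ A ⨿ B) x = z := fun z hz => by
    rcases hor z with h | ⟨y, rfl⟩
    · exact h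
    · exact absurd (hr y ▸ hbW y) (hd _ hz)
  have hmem₂ : ∀ z, g z ∈ W₂ → ∃ y, (coprod.inr : B ⟶ A ⨿ B) y = z := fun z hz => by
    rcases hor z with ⟨x, rfl⟩ | h
    · exact absurd hz (hd _ (hl x ▸ haW x))
    · exact h
  let jA : pullback G.t a ⟶ pullback G.t g :=
    pullback.map _ _ _ _ (𝟙 G.R) coprod.inl (𝟙 G.U) (by simp) (by simp [g])
  let jB : pullback G.t b ⟶ pullback G.t g :=
    pullback.map _ _ _ _ (𝟙 G.R) coprod.inr (𝟙 G.U) (by simp) (by simp [g])
  haveI : IsOpenImmersion jA := by dsimp only [jA]; infer_instance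
  haveI : IsOpenImmersion jB := by dsimp only [jB]; infer_instance
  have eA : jA ≫ hh G g = hh G a := by simp [jA, hh]
  have eB : jB ≫ hh G g = hh G b := by simp [jB, hh]
  have hjA : (hh G g ⁻¹ᵁ W₁ : Set ↥(pullback G.t g)) ⊆ Set.range jA := fun p hp => by
    dsimp only [jA]
    rw [Scheme.Pullback.range_map]
    refine ⟨⟨_, rfl⟩, hmem₁ _ ?_⟩
    rw [← Scheme.Hom.comp_apply, ← pullback.condition, Scheme.Hom.comp_apply]
    exact i₁.le (show G.s _ ∈ W₁ by rw [← Scheme.Hom.comp_apply]; exact hp)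
  have hjB : (hh G g ⁻¹ᵁ W₂ : Set ↥(pullback G.t g)) ⊆ Set.range jB := fun p hp => by
    dsimp only [jB]
    rw [Scheme.Pullback.range_map]
    refine ⟨⟨_, rfl⟩, hmem₂ _ ?_⟩
    rw [← Scheme.Hom.comp_apply, ← pullback.condition, Scheme.Hom.comp_apply]
    exact i₂.le (show G.s _ ∈ W₂ by rw [← Scheme.Hom.comp_apply]; exact hp)
  rw [← eA] at haF haFl haP
  rw [← eB] at hbF hbFl hbP
  refine ⟨A ⨿ B, g, isImmersion_coprod_desc a b W₁ W₂ (fun x => ⟨haW x, hd _ (haW x)⟩)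
    (fun y => ⟨hbW y, fun h => hd _ h (hbW y)⟩), fun z => ?_,
    restrict_sup @IsFinite _ W₁ W₂ (restrict_of_openImmersion _ jA _ _ hjA haF)
      (restrict_of_openImmersion _ jB _ _ hjB hbF),
    restrict_sup @Flat _ W₁ W₂ (restrict_of_openImmersion _ jA _ _ hjA haFl)
      (restrict_of_openImmersion _ jB _ _ hjB hbFl),
    restrict_sup @LocallyOfFinitePresentation _ W₁ W₂ (restrict_of_openImmersion _ jA _ _ hjA haP)
      (restrict_of_openImmersion _ jB _ _ hjB hbP), fun w hw => ?_, fun E hE => ?_⟩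
  · rcases hor z with ⟨x, rfl⟩ | ⟨y, rfl⟩
    · exact Or.inl (hl x ▸ haW x)
    · exact Or.inr (hr y ▸ hbW y)
  · rcases hw with hw | hw
    · obtain ⟨p, hp⟩ := has hw
      exact ⟨jA p, by rw [← Scheme.Hom.comp_apply, eA, hp]⟩
    · obtain ⟨p, hp⟩ := hbs hw
      exact ⟨jB p, by rw [← Scheme.Hom.comp_apply, eB, hp]⟩
  · rcases E.eq_empty_or_nonempty with rfl | ⟨z₀, hz₀⟩
    · exact ⟨⊥, isAffineOpen_bot _, Set.empty_subset _⟩
    rcases hor z₀ with ⟨x₀, rfl⟩ | ⟨y₀, rfl⟩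
    · have hE₁ : ∀ z ∈ E, ∃ x, (coprod.inl : A ⟶ A ⨿ B) x = z := fun z hz => by
        obtain ⟨r, hrt, hrs⟩ := hE _ hz₀ z hz
        refine hmem₁ z (hrs ▸ i₁.ge (show G.t r ∈ W₁ from ?_))
        rw [hrt, hl]
        exact haW x₀
      obtain ⟨V, hV, hEV⟩ := haE ((coprod.inl : A ⟶ A ⨿ B) ⁻¹' E) fun x hx y hy => by
        simpa only [hl] using hE _ hx _ hy
      refine ⟨(coprod.inl : A ⟶ A ⨿ B) ''ᵁ V, hV.image_of_isOpenImmersion _, fun z hz => ?_⟩
      obtain ⟨x, rfl⟩ := hE₁ z hz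
      exact ⟨x, hEV hz, rfl⟩
    · have hE₂ : ∀ z ∈ E, ∃ y, (coprod.inr : B ⟶ A ⨿ B) y = z := fun z hz => by
        obtain ⟨r, hrt, hrs⟩ := hE _ hz₀ z hz
        refine hmem₂ z (hrs ▸ i₂.ge (show G.t r ∈ W₂ from ?_))
        rw [hrt, hr]
        exact hbW y₀
      obtain ⟨V, hV, hEV⟩ := hbE ((coprod.inr : B ⟶ A ⨿ B) ⁻¹' E) fun x hx y hy => by
        simpa only [hr] using hE _ hx _ hy
      refine ⟨(coprod.inr : B ⟶ A ⨿ B) ''ᵁ V, hV.image_of_isOpenImmersion _, fun z hz => ?_⟩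
      obtain ⟨y, rfl⟩ := hE₂ z hz
      exact ⟨y, hEV hz, rfl⟩

theorem locallyOfFiniteType_fromSpecResidueField_of_closed {X : Scheme.{u}} (O : X.Opens) (v : O.toScheme)
    (hv : IsClosed ({v} : Set O.toScheme)) :
    LocallyOfFiniteType (O.toScheme.fromSpecResidueField v) := by
  haveI := isClosed_singleton_iff_isClosedImmersion.mp hv
  infer_instance

theorem exists_qs [IsNoetherian G.U] [NoetherianSpace G.R] [Flat G.s] [LocallyOfFinitePresentation G.s]
    [Flat G.t] [LocallyOfFinitePresentation G.t] [QuasiCompact G.t] [LocallyQuasiFinite G.stabilizerToU]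
    (W₀ : G.U.Opens) (hW₀ : G.s ⁻¹ᵁ W₀ = G.t ⁻¹ᵁ W₀) (hne : (W₀ : Set G.U).Nonempty) :
    ∃ W : G.U.Opens, G.s ⁻¹ᵁ W = G.t ⁻¹ᵁ W ∧ W ≤ W₀ ∧ (W : Set G.U).Nonempty ∧ QS G W := by
  obtain ⟨U₁, hU₁s, hU₁t, hU₁, -⟩ := S1936.result S G
  have hne₁ : ((U₁ ⊓ W₀ : G.U.Opens) : Set G.U).Nonempty := by
    obtain ⟨x, hx⟩ := hne
    obtain ⟨r, hr, rfl⟩ := hU₁.ge (Set.mem_univ x)
    exact ⟨G.s r, hr, hW₀.ge hx⟩
  set O : G.U.Opens := U₁ ⊓ W₀ with hO
  haveI : Nonempty O.toScheme := hne₁.to_subtype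
  haveI : CompactSpace O.toScheme :=
    isCompact_iff_compactSpace.mp (NoetherianSpace.isCompact (O : Set G.U))
  obtain ⟨v, -, hv⟩ := IsClosed.exists_closed_singleton (isClosed_univ (X := O.toScheme)) Set.univ_nonempty
  let G₀ := pbGrpd G O.ι
  haveI hρ : IsOpenImmersion (pbρ G O.ι) := by dsimp only [pbρ]; infer_instance
  have hs₀ : G₀.s ≫ O.ι = pbρ G O.ι ≫ G.s := (pbρ_s G O.ι).symm
  have ht₀ : G₀.t ≫ O.ι = pbρ G O.ι ≫ G.t := (pbρ_t G O.ι).symm
  haveI : Flat G₀.s := FlatMorThick.of_comp_mono @Flat _ O.ι (by rw [hs₀]; infer_instance)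
  haveI : Flat G₀.t := FlatMorThick.of_comp_mono @Flat _ O.ι (by rw [ht₀]; infer_instance)
  haveI : LocallyOfFinitePresentation G₀.s :=
    FlatMorThick.of_comp_mono @LocallyOfFinitePresentation _ O.ι (by rw [hs₀]; infer_instance)
  haveI : LocallyOfFinitePresentation G₀.t :=
    FlatMorThick.of_comp_mono @LocallyOfFinitePresentation _ O.ι (by rw [ht₀]; infer_instance)
  have hcm : ∀ r : G₀.R, CMBC25.FibCM G₀.s r := fun r => by
    have h1 : Grpd.IsCMAt G.s (pbρ G O.ι r) := by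
      have : pbρ G O.ι r ∈ (G.t ⁻¹ᵁ U₁ : Set G.R) := by
        show G.t (pbρ G O.ι r) ∈ U₁
        rw [← Scheme.Hom.comp_apply, ← ht₀, Scheme.Hom.comp_apply]
        exact (G₀.t r).2.1
      rwa [hU₁s] at this
    have h2 : MoreMor.IsCMAt G.s (pbρ G O.ι r) := (CMBC25.moreMor_isCMAt_iff _ _).2 ⟨Flat.stalkMap _ _, h1.2⟩
    have h3 := (EGA43.CMChart.isCMAt_comp_iff (pbρ G O.ι) G.s r).2 h2
    rw [← hs₀, isCMAt_comp_openImmersion_iff] at h3
    exact ((CMBC25.moreMor_isCMAt_iff _ _).1 h3).2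
  haveI : LocallyQuasiFinite G₀.stabilizerToU := by
    let m : G₀.stabilizer ⟶ G.stabilizer :=
      pullback.map _ _ _ _ (pbρ G O.ι) O.ι
        (pullback.map _ _ _ _ O.ι O.ι (𝟙 S) (Category.comp_id _) (Category.comp_id _))
        (pullback.hom_ext
          (by simp only [Grpd.GroupoidScheme.j, Category.assoc, pullback.lift_fst, pullback.lift_fst_assoc]
              exact ht₀)
          (by simp only [Grpd.GroupoidScheme.j, Category.assoc, pullback.lift_snd, pullback.lift_snd_assoc]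
              exact hs₀))
        (pullback.hom_ext
          (by simp only [Grpd.GroupoidScheme.diag, Category.assoc, pullback.lift_fst, pullback.lift_fst_assoc,
                Category.comp_id]; exact Category.id_comp _)
          (by simp only [Grpd.GroupoidScheme.diag, Category.assoc, pullback.lift_snd, pullback.lift_snd_assoc,
                Category.comp_id]; exact Category.id_comp _))
    have hm : m ≫ pullback.fst G.j G.diag = pullback.fst G₀.j G₀.diag ≫ pbρ G O.ι := pullback.lift_fst _ _ _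
    haveI : IsImmersion G₀.diag := inferInstanceAs (IsImmersion (pullback.diagonal G₀.pU))
    haveI : LocallyQuasiFinite (m ≫ pullback.fst G.j G.diag) := by rw [hm]; infer_instance
    haveI : LocallyQuasiFinite m := LocallyQuasiFinite.of_comp m (pullback.fst G.j G.diag)
    have hm' : m ≫ G.stabilizerToU = G₀.stabilizerToU ≫ O.ι := pullback.lift_snd _ _ _
    haveI : LocallyQuasiFinite (G₀.stabilizerToU ≫ O.ι) := by rw [← hm']; infer_instance
    exact LocallyQuasiFinite.of_comp G₀.stabilizerToU O.ι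
  obtain ⟨Z, hZ, g₀, z, hgi, -, hgz, hfl, hfp, hqf⟩ :=
    Stk19b.QDMSlice.exists_grpd_slice (G := G₀) hcm v (locallyOfFiniteType_fromSpecResidueField_of_closed O v hv)
  let h₀ : pullback G₀.t g₀ ⟶ O.toScheme := pullback.fst G₀.t g₀ ≫ G₀.s
  haveI : Flat h₀ := hfl
  haveI : LocallyOfFinitePresentation h₀ := hfp
  haveI : LocallyQuasiFinite h₀ := hqf
  let g : Z ⟶ G.U := g₀ ≫ O.ι
  let j : pullback G₀.t g₀ ⟶ pullback G.t g :=
    pullback.map _ _ _ _ (pbρ G O.ι) (𝟙 Z) O.ι ht₀ (Category.id_comp _).symm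
  haveI : IsOpenImmersion j := by dsimp only [j]; infer_instance
  have ej : j ≫ hh G g = h₀ ≫ O.ι := by simp [j, hh, h₀, hs₀]
  haveI : QuasiCompact g := inferInstance
  haveI : LocallyOfFiniteType g := inferInstance
  haveI : IsNoetherian G.R :=
    haveI : IsLocallyNoetherian G.R := LocallyOfFiniteType.isLocallyNoetherian G.t
    haveI : CompactSpace G.R := QuasiCompact.compactSpace_of_compactSpace G.t
    { }
  haveI : IsLocallyNoetherian (pullback G.t g) := LocallyOfFiniteType.isLocallyNoetherian (pullback.fst G.t g)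
  haveI : CompactSpace ↥(pullback G.t g) := QuasiCompact.compactSpace_of_compactSpace (pullback.fst G.t g)
  haveI : IsNoetherian (pullback G.t g) := { }
  haveI : NoetherianSpace ↥(pullback G₀.t g₀) := j.isOpenEmbedding.isInducing.noetherianSpace
  haveI : IsLocallyNoetherian (pullback G₀.t g₀) := LocallyOfFiniteType.isLocallyNoetherian j
  haveI : QuasiCompact h₀ := inferInstance
  obtain ⟨p, -, hp⟩ := Scheme.Pullback.exists_preimage_pullback (f := G₀.t) (g := g₀) (G₀.e v) z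
    (by rw [← Scheme.Hom.comp_apply, G₀.e_t, hgz]; rfl)
  obtain ⟨p, hpR, -⟩ := Scheme.Pullback.exists_preimage_pullback (f := G₀.t) (g := g₀) (G₀.e v) z
    (by rw [← Scheme.Hom.comp_apply, G₀.e_t, hgz]; rfl)
  have hvr : v ∈ Set.range h₀ := ⟨p, by
    show (pullback.fst G₀.t g₀ ≫ G₀.s) p = v
    rw [Scheme.Hom.comp_apply, hpR, ← Scheme.Hom.comp_apply, G₀.e_s]; rfl⟩
  have hC := irreducibleComponent_mem_irreducibleComponents v
  obtain ⟨η, hη⟩ : ∃ η, IsGenericPoint η (irreducibleComponent v) :=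
    ⟨_, hC.1.isGenericPoint_genericPoint (isClosed_of_mem_irreducibleComponents _ hC)⟩
  obtain ⟨V₀, -, hηV, hfin⟩ := (CAlgSmall.finite_preimage_iff_exists_finite h₀ η
    (by rw [hη.def]; exact hC)).1 (h₀.finite_preimage_singleton η)
  let V' : O.toScheme.Opens := V₀ ⊓ ⟨Set.range h₀, h₀.isOpenMap.isOpen_range⟩
  have hηV' : η ∈ V' :=
    ⟨hηV, (hη.specializes mem_irreducibleComponent).mem_open h₀.isOpenMap.isOpen_range hvr⟩
  let V : G.U.Opens := O.ι ''ᵁ V'
  have hVO : V ≤ O := fun x hx => by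
    obtain ⟨y, -, rfl⟩ := hx
    exact y.2
  have hjV : (hh G g ⁻¹ᵁ V : Set ↥(pullback G.t g)) ⊆ Set.range j := fun q hq => by
    dsimp only [j]
    rw [Scheme.Pullback.range_map]
    have htO : G.t (pullback.fst G.t g q) ∈ O := by
      rw [← Scheme.Hom.comp_apply, pullback.condition, Scheme.Hom.comp_apply, Scheme.Hom.comp_apply]
      exact (g₀ _).2
    have hsO : G.s (pullback.fst G.t g q) ∈ O := hVO (by rw [← Scheme.Hom.comp_apply]; exact hq)
    refine ⟨?_, ⟨_, rfl⟩⟩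
    obtain ⟨a, ha, -⟩ := Scheme.Pullback.exists_preimage_pullback (f := G.t) (g := O.ι)
      (pullback.fst G.t g q) ⟨_, htO⟩ rfl
    obtain ⟨c, hc, -⟩ := Scheme.Pullback.exists_preimage_pullback (f := pullback.fst G.t O.ι ≫ G.s) (g := O.ι)
      a ⟨_, hsO⟩ (by rw [Scheme.Hom.comp_apply, ha]; rfl)
    refine ⟨c, ?_⟩
    show (pullback.fst (pullback.fst G.t O.ι ≫ G.s) O.ι ≫ pullback.fst G.t O.ι) c = _
    rw [Scheme.Hom.comp_apply, hc, ha]
  have key : ∀ (P : MorphismProperty Scheme.{u}) [IsZariskiLocalAtTarget P], P (h₀ ∣_ V') →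
      P (hh G g ∣_ V) := fun P _ hP => by
    refine restrict_of_openImmersion P j _ V hjV ?_
    rw [ej, morphismRestrict_comp]
    haveI : Surjective (O.ι ∣_ V) := ⟨fun x => by
      refine ⟨⟨⟨x.1, hVO x.2⟩, x.2⟩, Subtype.ext ?_⟩
      rw [morphismRestrict_base_coe]
      rfl⟩
    haveI : IsIso (O.ι ∣_ V) := isIso_of_surjective _
    rw [MorphismProperty.cancel_right_of_respectsIso P]
    have e : O.ι ⁻¹ᵁ V = V' := Scheme.Hom.preimage_image_eq _ _
    have cast' : ∀ V'' : O.toScheme.Opens, O.ι ⁻¹ᵁ V = V'' → P (h₀ ∣_ V'') → P (h₀ ∣_ (O.ι ⁻¹ᵁ V)) := by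
      rintro _ rfl h; exact h
    exact cast' V' e hP
  let W := sat G V
  have hVs : (V : Set G.U) ⊆ Set.range (hh G g) := by
    rintro _ ⟨y, ⟨-, q, rfl⟩, rfl⟩
    exact ⟨j q, by rw [← Scheme.Hom.comp_apply, ej, Scheme.Hom.comp_apply]; rfl⟩
  have hF : IsFinite (hh G g ∣_ W) :=
    haveI := Et18.descends_isFinite.{u}
    restrict_sat G @IsFinite g V (key @IsFinite (restrict_of_le @IsFinite h₀ inf_le_left hfin))
  have hFl : Flat (hh G g ∣_ W) := restrict_sat G @Flat g V (key @Flat inferInstance)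
  have hP : LocallyOfFinitePresentation (hh G g ∣_ W) :=
    restrict_sat G @LocallyOfFinitePresentation g V (key @LocallyOfFinitePresentation inferInstance)
  have hWW₀ : W ≤ W₀ := sat_le G (fun x hx => (hVO hx).2) hW₀
  -- points of `W` are sources of arrows into the image of `g`
  have hWs : (W : Set G.U) ⊆ Set.range (hh G g) := by
    rintro _ ⟨r, hr, rfl⟩
    obtain ⟨q, hq⟩ := hVs hr
    obtain ⟨m, hm₁, hm₂⟩ := exists_arrow_trans G (pullback.fst G.t g q) (G.i r)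
      (by rw [t_i_apply, ← Scheme.Hom.comp_apply]; exact hq)
    obtain ⟨q', hq', -⟩ := Scheme.Pullback.exists_preimage_pullback (f := G.t) (g := g) m (pullback.snd G.t g q)
      (by rw [hm₁, ← Scheme.Hom.comp_apply, pullback.condition, Scheme.Hom.comp_apply])
    exact ⟨q', by rw [Scheme.Hom.comp_apply, hq', hm₂, s_i_apply]⟩
  let U'' : Z.Opens := g ⁻¹ᵁ W
  let g' : U''.toScheme ⟶ G.U := U''.ι ≫ g
  let k : pullback G.t g' ⟶ pullback G.t g :=
    pullback.map _ _ _ _ (𝟙 G.R) U''.ι (𝟙 G.U) (by simp) (by simp [g'])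
  haveI : IsOpenImmersion k := by dsimp only [k]; infer_instance
  have ek : k ≫ hh G g = hh G g' := by simp [k, hh]
  have hkW : ∀ q, hh G g q ∈ W → q ∈ Set.range k := fun q hq => by
    dsimp only [k]
    rw [Scheme.Pullback.range_map]
    refine ⟨⟨_, rfl⟩, ?_⟩
    rw [Scheme.Opens.range_ι]
    show g (pullback.snd G.t g q) ∈ W
    rw [← Scheme.Hom.comp_apply, ← pullback.condition, Scheme.Hom.comp_apply]
    exact (sat_inv G V).le (show G.s _ ∈ W by rw [← Scheme.Hom.comp_apply]; exact hq)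
  have key' : ∀ (P : MorphismProperty Scheme.{u}) [P.IsStableUnderBaseChange] [P.IsStableUnderComposition],
      P (hh G g ∣_ W) → (∀ {X Y : Scheme.{u}} (f : X ⟶ Y) [IsIso f], P f) → P (hh G g' ∣_ W) := by
    intro P _ _ hP hiso
    rw [← ek, morphismRestrict_comp]
    haveI : Surjective (k ∣_ (hh G g ⁻¹ᵁ W)) := ⟨fun q => by
      obtain ⟨a, ha⟩ := hkW q.1 q.2
      refine ⟨⟨a, show k a ∈ hh G g ⁻¹ᵁ W from ha ▸ q.2⟩, Subtype.ext ?_⟩
      rw [morphismRestrict_base_coe]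
      exact ha⟩
    haveI : IsIso (k ∣_ (hh G g ⁻¹ᵁ W)) := isIso_of_surjective _
    exact MorphismProperty.comp_mem _ _ _ (hiso _) hP
  refine ⟨W, sat_inv G V, hWW₀, ⟨_, le_sat G V ⟨η, hηV', rfl⟩⟩, U''.toScheme, g', inferInstance,
    fun a => a.2, key' @IsFinite hF fun f _ => inferInstance, key' @Flat hFl fun f _ => inferInstance,
    key' @LocallyOfFinitePresentation hP fun f _ => inferInstance, fun w hw => ?_, fun E hE => ?_⟩
  · obtain ⟨q, rfl⟩ := hWs hw
    obtain ⟨a, rfl⟩ := hkW q hw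
    exact ⟨a, by rw [← ek, Scheme.Hom.comp_apply]⟩
  · rcases E.eq_empty_or_nonempty with rfl | ⟨x₀, hx₀⟩
    · exact ⟨⊥, isAffineOpen_bot _, Set.empty_subset _⟩
    haveI : IsFinite (hh G g' ∣_ W) := key' @IsFinite hF fun f _ => inferInstance
    have hfinE : E.Finite := by
      have h1 := (hh G g' ∣_ W).finite_preimage_singleton ⟨g' x₀, x₀.2⟩
      refine Set.Finite.subset (h1.image fun q => pullback.snd G.t g' ((hh G g' ⁻¹ᵁ W).ι q)) fun y hy => ?_
      obtain ⟨r, hrt, hrs⟩ := hE y hy x₀ hx₀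
      obtain ⟨q, hq1, hq2⟩ := Scheme.Pullback.exists_preimage_pullback (f := G.t) (g := g') r y hrt
      have hqW : hh G g' q = g' x₀ := by rw [Scheme.Hom.comp_apply, hq1, hrs]
      refine ⟨⟨q, show hh G g' q ∈ W by rw [hqW]; exact x₀.2⟩, Subtype.ext ?_, hq2⟩
      rw [morphismRestrict_base_coe]
      exact hqW
    obtain ⟨f, hEf, hfU⟩ := exists_basicOpen_of_finite (U''.ι '' E) (hfinE.image _) U''
      (by rintro _ ⟨x, -, rfl⟩; exact x.2)
    refine ⟨U''.ι ⁻¹ᵁ Z.basicOpen f, ((isAffineOpen_top Z).basicOpen f).preimage_of_isOpenImmersion U''.ι ?_,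
      fun x hx => hEf ⟨x, hx, rfl⟩⟩
    rw [Scheme.Opens.opensRange_ι]
    exact hfU

/-- The main theorem. -/
theorem exists_dense_quotient [IsNoetherian S] [Flat G.s] [LocallyOfFiniteType G.s] [QuasiCompact G.s]
    [LocallyOfFiniteType G.pU] [QuasiCompact G.pU] [LocallyQuasiFinite G.stabilizerToU] :
    ∃ (W : G.U.Opens) (hW : G.t ⁻¹ᵁ W = G.s ⁻¹ᵁ W), Dense (W : Set G.U) ∧
      ∃ (V : Scheme.{u}) (p : (W : Scheme.{u}) ⟶ V)
        (w : G.t.resLE W (G.s ⁻¹ᵁ W) hW.ge ≫ p = (G.s ∣_ W) ≫ p) (q : V ⟶ S),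
        Nonempty (IsColimit (Cofork.ofπ p w)) ∧ p ≫ q = W.ι ≫ G.pU ∧
        Surjective p ∧ IsOpenMap p.base ∧ LocallyOfFinitePresentation p ∧
        LocallyOfFinitePresentation q ∧ QuasiCompact q ∧ QuasiSeparated q ∧
        Function.Surjective (pullback.lift (G.t.resLE W (G.s ⁻¹ᵁ W) hW.ge) (G.s ∣_ W) w).base ∧
        (Mono G.j → IsPullback (G.t.resLE W (G.s ⁻¹ᵁ W) hW.ge) (G.s ∣_ W) p p ∧ Flat p) := by
  haveI : IsLocallyNoetherian G.U := LocallyOfFiniteType.isLocallyNoetherian G.pU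
  haveI : CompactSpace G.U := QuasiCompact.compactSpace_of_compactSpace G.pU
  haveI : IsNoetherian G.U := { }
  haveI : IsIso G.i := isIso_i G
  have hti : G.i ≫ G.s = G.t := G.i_s
  haveI : Flat G.t := by rw [← hti]; infer_instance
  haveI : LocallyOfFiniteType G.t := by rw [← hti]; infer_instance
  haveI : QuasiCompact G.t := by rw [← hti]; infer_instance
  haveI : LocallyOfFinitePresentation G.s := inferInstance
  haveI : LocallyOfFinitePresentation G.t := inferInstance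
  haveI : IsLocallyNoetherian G.R := LocallyOfFiniteType.isLocallyNoetherian G.t
  haveI : CompactSpace G.R := QuasiCompact.compactSpace_of_compactSpace G.t
  haveI : IsNoetherian G.R := { }
  haveI : NoetherianSpace G.U := inferInstance
  obtain ⟨W, ⟨hinv, hqs⟩, hmax⟩ := WellFounded.has_min (wellFounded_gt (α := G.U.Opens))
    {W : G.U.Opens | G.s ⁻¹ᵁ W = G.t ⁻¹ᵁ W ∧ QS G W} ⟨⊥, rfl, qs_bot G⟩
  have hdense : Dense (W : Set G.U) := by
    rw [dense_iff_closure_eq]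
    by_contra hne
    let W₀ : G.U.Opens := ⟨(closure (W : Set G.U))ᶜ, isClosed_closure.isOpen_compl⟩
    have hW₀ : G.s ⁻¹ᵁ W₀ = G.t ⁻¹ᵁ W₀ := by
      refine TopologicalSpace.Opens.ext ?_
      show (G.s ⁻¹' closure (W : Set G.U))ᶜ = (G.t ⁻¹' closure (W : Set G.U))ᶜ
      rw [G.s.isOpenMap.preimage_closure_eq_closure_preimage G.s.continuous,
        G.t.isOpenMap.preimage_closure_eq_closure_preimage G.t.continuous]
      exact congrArg (fun A : Set G.R => (closure A)ᶜ) (congrArg (fun A : G.R.Opens => (A : Set G.R)) hinv)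
    obtain ⟨W', hW', hle, ⟨x, hx⟩, hqs'⟩ := exists_qs G W₀ hW₀ (Set.nonempty_compl.2 hne)
    refine hmax (W ⊔ W') ⟨?_, qs_sup G hinv hW' (fun y hy hy' => hle hy' (subset_closure hy)) hqs hqs'⟩
      (lt_of_le_of_ne le_sup_left fun h => hle hx (subset_closure ?_))
    · rw [Scheme.Hom.preimage_sup, Scheme.Hom.preimage_sup, hinv, hW']
    · rw [h]; exact Or.inr hx
  refine ⟨W, hinv.symm, hdense, ?_⟩
  obtain ⟨U', g, hgi, hgW, hF, hFl, hP, hsurj, hE⟩ := hqs
  let G' := restrict G W hinv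
  let u : U' ⟶ W.toScheme := IsOpenImmersion.lift W.ι g (by
    rw [Scheme.Opens.range_ι]; rintro _ ⟨a, rfl⟩; exact hgW a)
  have hu : u ≫ W.ι = g := IsOpenImmersion.lift_fac _ _ _
  haveI : IsImmersion u := by
    haveI : IsImmersion (u ≫ W.ι) := by rw [hu]; exact hgi
    exact IsImmersion.of_comp u W.ι
  let t' : (G.s ⁻¹ᵁ W).toScheme ⟶ W.toScheme := restrictT G W hinv
  let k : pullback t' u ⟶ pullback G.t g :=
    pullback.map _ _ _ _ (G.s ⁻¹ᵁ W).ι (𝟙 U') W.ι (restrictT_ι G W hinv)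
      (by rw [Category.id_comp, hu])
  haveI : IsOpenImmersion k := by dsimp only [k]; infer_instance
  have ek : k ≫ hh G g = (pullback.fst t' u ≫ (G.s ∣_ W)) ≫ W.ι := by
    show k ≫ pullback.fst G.t g ≫ G.s = _
    rw [← Category.assoc, show k ≫ pullback.fst G.t g = _ from pullback.lift_fst _ _ _, Category.assoc,
      ← morphismRestrict_ι, Category.assoc]
  have hk : ∀ q, q ∈ Set.range k := fun q => by
    dsimp only [k]
    rw [Scheme.Pullback.range_map]
    refine ⟨?_, ⟨_, rfl⟩⟩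
    show pullback.fst G.t g q ∈ Set.range (G.s ⁻¹ᵁ W).ι
    rw [Scheme.Opens.range_ι]
    refine hinv.ge (show G.t (pullback.fst G.t g q) ∈ W from ?_)
    rw [← Scheme.Hom.comp_apply, pullback.condition, Scheme.Hom.comp_apply]
    exact hgW _
  haveI : Surjective k := ⟨hk⟩
  haveI : IsIso k := isIso_of_surjective _
  have hgW' : hh G g ⁻¹ᵁ W = ⊤ := top_unique fun q _ => by
    obtain ⟨a, rfl⟩ := hk q
    show hh G g (k a) ∈ W
    rw [← Scheme.Hom.comp_apply, ek, Scheme.Hom.comp_apply]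
    exact Subtype.coe_prop _
  have e1 : pullback.fst t' u ≫ (G.s ∣_ W) = k ≫ (Scheme.topIso _).inv ≫
      (Scheme.isoOfEq _ hgW').inv ≫ (hh G g ∣_ W) := by
    rw [← cancel_mono W.ι]
    simp only [Category.assoc, morphismRestrict_ι, Scheme.isoOfEq_inv_ι_assoc, Scheme.toIso_inv_ι_assoc]
    rw [ek, Category.assoc, morphismRestrict_ι]
  haveI := hF
  haveI := hFl
  haveI := hP
  have h1 : Mor2.IsFinLocFree (pullback.fst G'.t u ≫ G'.s) ∧ Surjective (pullback.fst G'.t u ≫ G'.s) := by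
    show Mor2.IsFinLocFree (pullback.fst t' u ≫ (G.s ∣_ W)) ∧ Surjective (pullback.fst t' u ≫ (G.s ∣_ W))
    refine ⟨?_, ⟨fun w => ?_⟩⟩
    · rw [e1]; exact ⟨inferInstance, inferInstance, inferInstance⟩
    · obtain ⟨q, hq⟩ := hsurj w.2
      obtain ⟨a, rfl⟩ := hk q
      refine ⟨a, W.ι.isOpenEmbedding.injective ?_⟩
      rw [← Scheme.Hom.comp_apply, ← ek, Scheme.Hom.comp_apply, hq]
      rfl
  have hgu : ∀ a, g a = W.ι (u a) := fun a => by rw [← Scheme.Hom.comp_apply, hu]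
  have h2 : ∀ E : Set U', (∀ x ∈ E, ∀ y ∈ E, ∃ r : G'.R, G'.t.base r = u.base x ∧ G'.s.base r = u.base y) →
      ∃ V : U'.Opens, IsAffineOpen V ∧ E ⊆ (V : Set U') := fun E hE' => hE E fun x hx y hy => by
    obtain ⟨r, hrt, hrs⟩ := hE' x hx y hy
    refine ⟨(G.s ⁻¹ᵁ W).ι r, ?_, ?_⟩
    · rw [hgu, ← hrt, ← Scheme.Hom.comp_apply, ← restrictT_ι G W hinv]; rfl
    · rw [hgu, ← hrs, ← Scheme.Hom.comp_apply, ← morphismRestrict_ι]; rfl
  obtain ⟨Y, p, w, ⟨hcol⟩, hps, hpo, -, hl, hmono, hft⟩ :=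
    coequalizer_of_quasiSection_finiteType G' u h1 h2
  have et : G'.t = G.t.resLE W (G.s ⁻¹ᵁ W) hinv.symm.ge := by
    rw [← cancel_mono W.ι, Scheme.Hom.resLE_comp_ι]; exact restrictT_ι G W hinv
  let q : Y ⟶ S := hcol.desc (Cofork.ofπ (W.ι ≫ G.pU) (G'.t_over.trans G'.s_over.symm))
  have hq : p ≫ q = W.ι ≫ G.pU := hcol.fac _ WalkingParallelPair.one
  haveI : LocallyOfFiniteType (u ≫ G'.pU) := inferInstanceAs (LocallyOfFiniteType (u ≫ W.ι ≫ G.pU))
  haveI : LocallyOfFiniteType q := hft q hq inferInstance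
  haveI : IsLocallyNoetherian Y := LocallyOfFiniteType.isLocallyNoetherian q
  haveI : CompactSpace W.toScheme := isCompact_iff_compactSpace.mp (NoetherianSpace.isCompact (W : Set G.U))
  haveI : CompactSpace G'.U := ‹CompactSpace W.toScheme›
  haveI : CompactSpace Y := hps.surj.compactSpace p.continuous
  haveI : IsNoetherian Y := { }
  haveI : LocallyOfFiniteType (p ≫ q) := by rw [hq]; infer_instance
  haveI : LocallyOfFiniteType p := locallyOfFiniteType_of_comp p q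
  have hts : G'.t = G.t.resLE W (G.s ⁻¹ᵁ W) hinv.symm.ge := et
  haveI : Flat G'.t := by rw [et, Scheme.Hom.resLE]; infer_instance
  haveI : LocallyOfFinitePresentation G'.t := by rw [et, Scheme.Hom.resLE]; infer_instance
  refine ⟨Y, p, (congrArg (· ≫ p) et.symm).trans w, q, ⟨?_⟩, hq, hps, hpo G'.t.isOpenMap, inferInstance, inferInstance,
    inferInstance, inferInstance, ?_, fun hj => ?_⟩
  · exact Cofork.IsColimit.mk' _ fun t => by
      have ht : G'.t ≫ t.π = G'.s ≫ t.π := (congrArg (· ≫ t.π) et).trans t.condition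
      exact ⟨hcol.desc (Cofork.ofπ t.π ht), hcol.fac _ WalkingParallelPair.one,
        fun {m} hm => Cofork.IsColimit.hom_ext hcol
          (hm.trans (hcol.fac (Cofork.ofπ t.π ht) WalkingParallelPair.one).symm)⟩
  · have : ∀ (t₁ : G'.R ⟶ G'.U) (_ : t₁ = G'.t) (w₁ : t₁ ≫ p = G'.s ≫ p),
        Function.Surjective (pullback.lift t₁ G'.s w₁).base := by
      rintro _ rfl w₁; exact hl
    exact this _ et.symm _
  · haveI : Mono G'.j := by
      refine ⟨fun {T} a b hab => ?_⟩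
      rw [← cancel_mono (G.s ⁻¹ᵁ W).ι, ← cancel_mono G.j]
      have e' : (G.s ⁻¹ᵁ W).ι ≫ G.j = G'.j ≫ pullback.map _ _ _ _ W.ι W.ι (𝟙 S) (Category.comp_id _) (Category.comp_id _) := by
        apply pullback.hom_ext
        · simp only [Grpd.GroupoidScheme.j, Category.assoc, pullback.lift_fst, pullback.lift_fst_assoc]
          exact (restrictT_ι G W hinv).symm
        · simp only [Grpd.GroupoidScheme.j, Category.assoc, pullback.lift_snd, pullback.lift_snd_assoc]
          exact (morphismRestrict_ι G.s W).symm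
      rw [Category.assoc, Category.assoc, e', reassoc_of% hab]
    obtain ⟨hpb, hpf⟩ := hmono inferInstance
    exact ⟨et ▸ hpb, hpf inferInstance⟩

end Groth.Agent.GrpdLib.GenericQS
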