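import Groth.Agent.GrpdLib.Quotient
import Mathlib.RingTheory.Spectrum.Prime.RingHom
import Mathlib.Algebra.MvPolynomial.CommRing

/-!
# Invariant functions of a base changed affine groupoid
-/

set_option autoImplicit false

universe u v

open TensorProduct Polynomial

namespace Groth.Agent.GrpdLib

set_option maxHeartbeats 800000

/-- The determinant of `1 + (X - 1) M`. -/
noncomputable def scalarDet {A : Type u} [CommRing A] {n : ℕ} (M : Matrix (Fin n) (Fin n) A) : A[X] :=
  (1 + ((X : A[X]) - 1) • M.map (C : A →+* A[X])).det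

theorem eval₂_scalarDet {A L : Type u} [CommRing A] [CommRing L] {n : ℕ} (f : A →+* L) (M : Matrix (Fin n) (Fin n) A)
    (x : L) : (scalarDet M).eval₂ f x = (1 + (x - 1) • M.map f).det := by
  rw [scalarDet, ← coe_eval₂RingHom, RingHom.map_det]
  congr 1
  refine Matrix.ext fun i j => ?_
  simp only [RingHom.mapMatrix_apply, Matrix.map_apply, Matrix.add_apply, Matrix.smul_apply, smul_eq_mul,
    Matrix.one_apply, coe_eval₂RingHom, eval₂_add, eval₂_mul, eval₂_sub, eval₂_X, eval₂_one, eval₂_C]
  split <;> simp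

namespace ProjPres

variable {A : Type u} {B : Type v} [CommRing A] [CommRing B] [Algebra A B] (p : ProjPres A B)

theorem mat_smul (a : A) (z : B) : p.mat (a • z) = a • p.mat z := by
  rw [mat, mat, ← map_smul]
  congr 1
  ext x
  simp [endo]

/-- The norm of a scalar, as a polynomial. -/
noncomputable def scalarPoly : A[X] := scalarDet (p.mat 1)

theorem norm_algebraMap (x : A) : p.norm (algebraMap A B x) = p.scalarPoly.eval x := by
  rw [scalarPoly, ← eval₂_id, eval₂_scalarDet, norm, ← map_one (algebraMap A B), ← map_sub,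
    Algebra.algebraMap_eq_smul_one, mat_smul, map_one]
  rfl

end ProjPres

namespace RingGrpd

variable {A B : Type u} [CommRing A] [CommRing B] (G : RingGrpd A B) (p : ProjPres A G.SB)
  (D : Type u) [CommRing D] [Algebra G.invariants D]

attribute [local instance] Algebra.TensorProduct.rightAlgebra

/-- The presentation of `B` pulled back to the base changed objects, before identification. -/
noncomputable def presBA : ProjPres (G.BA D) (G.BA D ⊗[A] G.SB) :=
  @ProjPres.baseChange A G.SB _ _ _ p (G.BA D) (G.BA D ⊗[A] G.SB) _ _ _ _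
    (Algebra.TensorProduct.rightAlgebra) _ _ _ _

/-- The presentation of the base changed arrows. -/
noncomputable def presBC : ProjPres (G.BA D) (G.baseChange D).SB where
  n := p.n
  proj := (G.srcEquiv D).toLinearMap ∘ₗ (G.presBA p D).proj
  sect := (G.presBA p D).sect ∘ₗ (G.srcEquiv D).symm.toLinearMap
  proj_sect b := by
    show G.srcEquiv D ((G.presBA p D).proj ((G.presBA p D).sect ((G.srcEquiv D).symm b))) = b
    rw [(G.presBA p D).proj_sect, LinearEquiv.apply_symm_apply]

theorem mat_presBC_inS (b : G.SB) :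
    (G.presBC p D).mat (G.inS D b) = (p.mat b).map (algebraMap A (G.BA D)) := by
  have h : (G.presBC p D).mat (G.srcEquiv D ((1 : G.BA D) ⊗ₜ[A] b)) = (G.presBA p D).mat ((1 : G.BA D) ⊗ₜ[A] b) := by
    rw [ProjPres.mat, ProjPres.mat]
    congr 1
    refine LinearMap.ext fun x => ?_
    show (G.presBA p D).sect ((G.srcEquiv D).symm (G.srcMap D ((1 : G.BA D) ⊗ₜ[A] b) * G.srcMap D ((G.presBA p D).proj x))) = _
    rw [← map_mul]
    exact congrArg _ ((G.srcEquiv D).symm_apply_apply _)
  have h1 : G.srcEquiv D ((1 : G.BA D) ⊗ₜ[A] b) = G.inS D b :=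
    (G.srcMap_tmul D 1 b).trans ((congrArg (fun t => t * _) (map_one (G.sS D))).trans (one_mul _))
  rw [h1] at h
  rw [h]
  exact @ProjPres.mat_baseChange A G.SB _ _ _ p (G.BA D) (G.BA D ⊗[A] G.SB) _ _ _ _
    (Algebra.TensorProduct.rightAlgebra) _ _ _ _ b

variable {D} {D' : Type u} [CommRing D'] [Algebra G.invariants D'] (g : D →ₐ[G.invariants] D')

/-- The map of base changed objects induced by a map of coefficients. -/
noncomputable def coefA : G.BA D →+* G.BA D' := (Algebra.TensorProduct.map g (AlgHom.id G.invariants A)).toRingHom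

/-- The map of base changed arrows induced by a map of coefficients. -/
noncomputable def coefB : (G.baseChange D).SB →+* (G.baseChange D').SB :=
  (Algebra.TensorProduct.map g (AlgHom.id G.invariants G.SB) : G.BB D →ₐ[G.invariants] G.BB D').toRingHom

theorem coefB_inS (b : G.SB) : G.coefB g (G.inS D b) = G.inS D' b :=
  congrArg (fun d : D' => d ⊗ₜ[G.invariants] b) (map_one g)

theorem coefB_sS (x : G.BA D) : G.coefB g (G.sS D x) = G.sS D' (G.coefA g x) := by
  refine RingHom.congr_fun (f := (G.coefB g).comp (G.sS D)) (g := (G.sS D').comp (G.coefA g))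
    (tensor_ringHom_ext (fun d => ?_) fun a => ?_) x
  · show g d ⊗ₜ[G.invariants] G.sAlg 1 = g d ⊗ₜ[G.invariants] G.sAlg 1; rfl
  · show g 1 ⊗ₜ[G.invariants] G.sAlg a = g 1 ⊗ₜ[G.invariants] G.sAlg a; rfl

theorem coefB_tSB (x : G.BA D) :
    G.coefB g ((G.baseChange D).tSB x) = (G.baseChange D').tSB (G.coefA g x) := by
  refine RingHom.congr_fun (f := (G.coefB g).comp (G.baseChange D).tSB) (g := (G.baseChange D').tSB.comp (G.coefA g))
    (tensor_ringHom_ext (fun d => ?_) fun a => ?_) x
  · show g d ⊗ₜ[G.invariants] G.tAlg 1 = g d ⊗ₜ[G.invariants] G.tAlg 1; rfl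
  · show g 1 ⊗ₜ[G.invariants] G.tAlg a = g 1 ⊗ₜ[G.invariants] G.tAlg a; rfl

theorem coefA_algebraMap (a : A) : G.coefA g (algebraMap A (G.BA D) a) = algebraMap A (G.BA D') a :=
  congrArg (fun d : D' => d ⊗ₜ[G.invariants] a) (map_one g)

theorem mat_coefB (z : (G.baseChange D).SB) :
    (G.presBC p D').mat (G.coefB g z) = ((G.presBC p D).mat z).map (G.coefA g) := by
  obtain ⟨w, rfl⟩ := (G.srcEquiv D).surjective z
  induction w using TensorProduct.induction_on with
  | zero => rw [map_zero, map_zero, ProjPres.mat_zero, ProjPres.mat_zero]; exact (Matrix.map_zero _ (map_zero _)).symm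
  | add x y hx hy =>
    rw [map_add, map_add, ProjPres.mat_add, ProjPres.mat_add, hx, hy]
    exact (Matrix.map_add _ (map_add _) _ _).symm
  | tmul x b =>
    have e : ∀ {E : Type u} [CommRing E] [Algebra G.invariants E] (x : G.BA E),
        G.sS E x * G.inS E b = x • G.inS E b := fun {E} _ _ x => (Algebra.smul_def (R := G.BA E) x _).symm
    have e0 : G.srcEquiv D (x ⊗ₜ[A] b) = G.sS D x * G.inS D b := G.srcMap_tmul D x b
    rw [e0, map_mul, coefB_sS, coefB_inS, e, e, ProjPres.mat_smul, ProjPres.mat_smul, mat_presBC_inS, mat_presBC_inS]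
    refine Matrix.ext fun (i j : Fin p.n) => ?_
    exact ((map_mul (G.coefA g) x (algebraMap A (G.BA D) (p.mat b i j))).trans
      (congrArg (fun t => G.coefA g x * t) (G.coefA_algebraMap g _))).symm

theorem norm_coefB (z : (G.baseChange D).SB) :
    (G.presBC p D').norm (G.coefB g z) = G.coefA g ((G.presBC p D).norm z) := by
  have hm := mat_coefB G p g (z - 1)
  rw [map_sub, map_one] at hm
  rw [ProjPres.norm, ProjPres.norm, RingHom.map_det, hm, RingHom.mapMatrix_apply, Matrix.map_add _ (map_add _),
    Matrix.map_one _ (map_zero _) (map_one _)]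
  rfl

variable (D)

theorem norm_presBC_algebraMap (x : G.BA D) :
    (G.presBC p D).norm (algebraMap (G.BA D) (G.baseChange D).SB x) =
      p.scalarPoly.eval₂ (algebraMap A (G.BA D)) x := by
  rw [ProjPres.norm_algebraMap, ProjPres.scalarPoly, ProjPres.scalarPoly, ← eval₂_id, eval₂_scalarDet,
    eval₂_scalarDet, ← map_one (G.inS D), mat_presBC_inS]
  exact congrArg (fun M : Matrix (Fin p.n) (Fin p.n) (G.BA D) => (1 + (x - 1) • M).det) (Matrix.ext fun i j => rfl)

theorem coeff_scalarPoly_mem (j : ℕ) : p.scalarPoly.coeff j ∈ G.invariants := by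
  refine G.coeff_mem_invariants_of_poly ?_ j
  have h1 := G.poly.norm_mem_invariants (G.polyPres p) X
  have h2 : G.poly.t X = G.poly.s X := by
    show mapRingHom G.t X = mapRingHom G.s X
    simp
  rw [h2] at h1
  rw [show p.scalarPoly = (G.polyPres p).norm (G.poly.s X) from ?_]
  · exact h1
  · let _ := Polynomial.algebra (R := A) (A := G.SB)
    refine Eq.trans ?_ (ProjPres.norm_algebraMap (G.polyPres p) X).symm
    have hone : (G.polyPres p).mat 1 = (p.mat 1).map C :=
      (congrArg (G.polyPres p).mat (map_one (C : G.SB →+* G.SB[X])).symm).trans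
        (p.mat_baseChange (L := A[X]) (P := G.SB[X]) 1)
    rw [ProjPres.scalarPoly, ProjPres.scalarPoly, ← eval₂_id, eval₂_scalarDet, hone]
    rw [scalarDet]
    exact congrArg (fun M : Matrix (Fin p.n) (Fin p.n) A[X] => (1 + ((X : A[X]) - 1) • M).det)
      (Matrix.ext fun i j => rfl)

variable {D}

theorem scalarPoly_mul {L : Type u} [CommRing L] (f : A →+* L) (x y : L) :
    p.scalarPoly.eval₂ f (x * y) = p.scalarPoly.eval₂ f x * p.scalarPoly.eval₂ f y := by
  rw [ProjPres.scalarPoly, eval₂_scalarDet, eval₂_scalarDet, eval₂_scalarDet, ← Matrix.det_mul]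
  congr 1
  have hE : (p.mat 1).map f * (p.mat 1).map f = (p.mat 1).map f := by
    rw [← Matrix.map_mul, ← p.mat_mul, one_mul]
  simp only [add_mul, mul_add, one_mul, mul_one, smul_mul_assoc, mul_smul_comm, hE, smul_smul, ← add_smul, add_assoc]
  match_scalars <;> ring

theorem C_coeff_mul_scalarPoly (j : ℕ) :
    Polynomial.C (p.scalarPoly.coeff j) * p.scalarPoly = Polynomial.C (p.scalarPoly.coeff j) * X ^ j := by
  have h := scalarPoly_mul G p ((Polynomial.C : A[X] →+* A[X][X]).comp Polynomial.C) (Polynomial.C X) X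
  have h1 : p.scalarPoly.eval₂ ((Polynomial.C : A[X] →+* A[X][X]).comp Polynomial.C) (Polynomial.C X) =
      Polynomial.C p.scalarPoly := by
    rw [← hom_eval₂, eval₂_C_X]
  have h2 : ∀ w : A[X][X], p.scalarPoly.eval₂ ((Polynomial.C : A[X] →+* A[X][X]).comp Polynomial.C) w =
      (p.scalarPoly.map Polynomial.C).comp w := fun w => by rw [Polynomial.comp, eval₂_map]
  rw [h1, h2, h2, comp_X] at h
  have h3 := congrArg (fun q => coeff q j) h
  simp only [comp_C_mul_X_coeff, coeff_C_mul, coeff_map] at h3
  rw [h3, mul_comm]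

theorem sum_coeff_scalarPoly :
    ∑ j ∈ Finset.range (p.scalarPoly.natDegree + 1), p.scalarPoly.coeff j = 1 := by
  have h := (p.norm_algebraMap 1).symm
  rw [map_one, ProjPres.norm_one, eval_eq_sum_range] at h
  simpa using h

theorem coeff_zero_scalarPoly : p.scalarPoly.coeff 0 = 0 := by
  rw [coeff_zero_eq_eval_zero, ← p.norm_algebraMap, map_zero]
  have h := p.dvd_norm G.epsilon 0
  rw [map_zero] at h
  exact zero_dvd_iff.1 h

theorem exists_pow_eq_map_of_flat (p : ProjPres A G.SB) (D1 D' : Type u) [CommRing D1] [CommRing D']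
    [Algebra G.invariants D1] [Algebra G.invariants D'] [Module.Flat G.invariants D1[X]] (π : D1 →ₐ[G.invariants] D')
    (f₁ : G.BA D1) (f : G.BA D') (hf₁ : G.coefA π f₁ = f) (hf : f ∈ (G.baseChange D').invariants) :
    ∃ (n : ℕ) (P : D'[X]), 0 < n ∧
      P.map (Algebra.TensorProduct.includeLeftRingHom : D' →+* G.BA D') = (X - Polynomial.C f) ^ n := by
  classical
  let g : D1[X] →ₐ[G.invariants] D'[X] := Polynomial.mapAlgHom π
  let ι : D1 →ₐ[G.invariants] D1[X] := IsScalarTower.toAlgHom G.invariants D1 D1[X]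
  let ι' : D' →ₐ[G.invariants] D'[X] := IsScalarTower.toAlgHom G.invariants D' D'[X]
  have hnat : G.coefA g (G.coefA ι f₁) = G.coefA ι' f := by
    rw [← hf₁]
    refine RingHom.congr_fun (f := (G.coefA g).comp (G.coefA ι)) (g := (G.coefA ι').comp (G.coefA π))
      (tensor_ringHom_ext (fun d => ?_) fun a => ?_) f₁
    · show g (ι d) ⊗ₜ[G.invariants] (1 : A) = ι' (π d) ⊗ₜ[G.invariants] (1 : A)
      congr 1
      exact Polynomial.map_C _
    · show g (ι 1) ⊗ₜ[G.invariants] a = ι' (π 1) ⊗ₜ[G.invariants] a
      simp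
  let z₁ : G.BA D1[X] := (X : D1[X]) ⊗ₜ[G.invariants] (1 : A) - G.coefA ι f₁
  let z : G.BA D'[X] := (X : D'[X]) ⊗ₜ[G.invariants] (1 : A) - G.coefA ι' f
  have hz : G.coefA g z₁ = z := by
    rw [map_sub, hnat]
    congr 1
    show g X ⊗ₜ[G.invariants] (1 : A) = _
    congr 1
    exact Polynomial.map_X _
  have hzinv : (G.baseChange D'[X]).tSB z = algebraMap (G.BA D'[X]) (G.baseChange D'[X]).SB z := by
    rw [map_sub, map_sub]
    congr 1
    · show (X : D'[X]) ⊗ₜ[G.invariants] G.tAlg 1 = (X : D'[X]) ⊗ₜ[G.invariants] G.sAlg 1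
      rw [map_one, map_one]
    · rw [← G.coefB_tSB, show (G.baseChange D').tSB f = G.sS D' f from hf.symm, G.coefB_sS]
      rfl
  obtain ⟨q₁, hq₁⟩ := (G.mem_invariants_baseChange_iff D1[X] _).1
    ((G.baseChange D1[X]).norm_mem_invariants (G.presBC p D1[X]) z₁)
  have hq : g q₁ ⊗ₜ[G.invariants] (1 : A) = p.scalarPoly.eval₂ (algebraMap A (G.BA D'[X])) z := by
    rw [← G.norm_presBC_algebraMap, ← hzinv, ← hz, ← G.coefB_tSB, G.norm_coefB]
    exact congrArg (G.coefA g) hq₁
  let μ : G.BA D'[X] →+* (G.BA D')[X] := liftRing (L := D'[X]) (M := A)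
    (mapRingHom (Algebra.TensorProduct.includeLeftRingHom : D' →+* G.BA D'))
    ((Polynomial.C : G.BA D' →+* (G.BA D')[X]).comp (algebraMap A (G.BA D'))) (by
      refine RingHom.ext fun c => ?_
      show Polynomial.C ((1 : D') ⊗ₜ[G.invariants] algebraMap G.invariants A c) =
        mapRingHom _ (algebraMap G.invariants D'[X] c)
      rw [IsScalarTower.algebraMap_apply G.invariants D' D'[X], Polynomial.algebraMap_eq, coe_mapRingHom, map_C]
      congr 1
      rw [Algebra.algebraMap_eq_smul_one, ← smul_tmul, ← Algebra.algebraMap_eq_smul_one]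
      rfl)
  have hμl : ∀ d : D'[X], μ (d ⊗ₜ[G.invariants] (1 : A)) =
      d.map (Algebra.TensorProduct.includeLeftRingHom : D' →+* G.BA D') := fun d =>
    (liftRing_tmul (L := D'[X]) (M := A) _ _ _ d 1).trans ((congrArg _ (map_one _)).trans (mul_one _))
  have hμr : ∀ a : A, μ (algebraMap A (G.BA D'[X]) a) = Polynomial.C (algebraMap A (G.BA D') a) := fun a =>
    (liftRing_tmul (L := D'[X]) (M := A) _ _ _ 1 a).trans ((congrArg (· * _) (map_one _)).trans (one_mul _))
  have hμι : ∀ x : G.BA D', μ (G.coefA ι' x) = Polynomial.C x := fun x => by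
    refine RingHom.congr_fun (f := μ.comp (G.coefA ι')) (g := Polynomial.C)
      (tensor_ringHom_ext (fun d => ?_) fun a => ?_) x
    · refine (hμl (ι' d)).trans ?_
      exact Polynomial.map_C _
    · show μ (ι' 1 ⊗ₜ[G.invariants] a) = _
      rw [map_one]
      exact hμr a
  have hμz : μ z = X - Polynomial.C f := by
    rw [map_sub, hμι, hμl, map_X]
  set deg := p.scalarPoly.natDegree
  set Y : (G.BA D')[X] := X - Polynomial.C f
  have hQ : (g q₁).map (Algebra.TensorProduct.includeLeftRingHom : D' →+* G.BA D') =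
      p.scalarPoly.eval₂ ((Polynomial.C : G.BA D' →+* (G.BA D')[X]).comp (algebraMap A (G.BA D'))) Y := by
    rw [← hμl, hq, hom_eval₂, hμz]
    exact congrArg (fun φ => p.scalarPoly.eval₂ φ Y) (RingHom.ext hμr)
  refine ⟨(deg + 1).factorial, ∑ j ∈ Finset.range (deg + 1),
    Polynomial.C (algebraMap G.invariants D' ⟨p.scalarPoly.coeff j, G.coeff_scalarPoly_mem p j⟩) *
      (g q₁) ^ ((deg + 1).factorial / j), Nat.factorial_pos _, ?_⟩
  rw [Polynomial.map_sum]
  set cf : A →+* (G.BA D')[X] := (Polynomial.C : G.BA D' →+* (G.BA D')[X]).comp (algebraMap A (G.BA D')) with hcf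
  have hterm : ∀ j, cf (p.scalarPoly.coeff j) * p.scalarPoly.eval₂ cf Y = cf (p.scalarPoly.coeff j) * Y ^ j := fun j => by
    have h := congrArg (eval₂ cf Y) (C_coeff_mul_scalarPoly G p j)
    rwa [eval₂_mul, eval₂_mul, eval₂_C, eval₂_X_pow] at h
  have hpow : ∀ j m, cf (p.scalarPoly.coeff j) * (p.scalarPoly.eval₂ cf Y) ^ m =
      cf (p.scalarPoly.coeff j) * Y ^ (j * m) := fun j m => by
    induction m with
    | zero => simp
    | succ m ih =>
      rw [pow_succ, ← mul_assoc, ih, mul_right_comm, hterm, mul_right_comm, mul_assoc, ← pow_add, Nat.mul_succ]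
  calc _ = ∑ j ∈ Finset.range (deg + 1), cf (p.scalarPoly.coeff j) * Y ^ (deg + 1).factorial :=
        Finset.sum_congr rfl fun j hj => by
          rw [Polynomial.map_mul, Polynomial.map_pow, hQ, map_C]
          have hc : Polynomial.C ((Algebra.TensorProduct.includeLeftRingHom : D' →+* G.BA D')
              (algebraMap G.invariants D' ⟨p.scalarPoly.coeff j, G.coeff_scalarPoly_mem p j⟩)) =
              cf (p.scalarPoly.coeff j) := by
            refine congrArg Polynomial.C ?_
            show _ ⊗ₜ[G.invariants] (1 : A) = (1 : D') ⊗ₜ[G.invariants] p.scalarPoly.coeff j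
            rw [Algebra.algebraMap_eq_smul_one, smul_tmul]
            exact congrArg _ (mul_one (p.scalarPoly.coeff j))
          rw [hc, hpow]
          rcases Nat.eq_zero_or_pos j with rfl | hj0
          · rw [coeff_zero_scalarPoly G p, map_zero, zero_mul, zero_mul]
          · rw [Nat.mul_div_cancel' (Nat.dvd_factorial hj0 (Finset.mem_range.1 hj).le)]
    _ = Y ^ (deg + 1).factorial := by
      rw [← Finset.sum_mul, ← map_sum, sum_coeff_scalarPoly G p, map_one, one_mul]

/-- Every invariant function after base change is integral over the new coefficients in the strong sense that a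
power of its linear polynomial has coefficients there. -/
theorem exists_pow_eq_map (p : ProjPres A G.SB) (D' : Type u) [CommRing D'] [Algebra G.invariants D']
    (f : G.BA D') (hf : f ∈ (G.baseChange D').invariants) :
    ∃ (n : ℕ) (P : D'[X]), 0 < n ∧
      P.map (Algebra.TensorProduct.includeLeftRingHom : D' →+* G.BA D') = (X - Polynomial.C f) ^ n := by
  classical
  let D1 := MvPolynomial D' G.invariants
  let π : D1 →ₐ[G.invariants] D' := MvPolynomial.aeval fun d : D' => d
  have hπ : Function.Surjective π := fun d => ⟨MvPolynomial.X d, MvPolynomial.aeval_X _ d⟩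
  obtain ⟨f₁, hf₁⟩ : ∃ f₁ : G.BA D1, G.coefA π f₁ = f := by
    have : Function.Surjective (LinearMap.rTensor A π.toLinearMap) := LinearMap.rTensor_surjective A hπ
    obtain ⟨f₁, hf₁⟩ := this f
    refine ⟨f₁, Eq.trans ?_ hf₁⟩
    clear hf₁
    induction f₁ using TensorProduct.induction_on with
    | zero => simp
    | add x y hx hy => simp only [map_add, hx, hy]
    | tmul x y => rfl
  have : Module.Free G.invariants D1[X] := Module.Free.trans (S := D1)
  exact G.exists_pow_eq_map_of_flat p D1 D' π f₁ f hf₁ hf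

/-- An element of the coefficients killed in the base changed objects is nilpotent. -/
theorem isNilpotent_of_tmul_one [Algebra.IsIntegral G.invariants A] (D' : Type u) [CommRing D']
    [Algebra G.invariants D'] (c : D') (hc : c ⊗ₜ[G.invariants] (1 : A) = 0) : IsNilpotent c := by
  rw [nilpotent_iff_mem_prime]
  intro P hP
  let q : PrimeSpectrum G.invariants := ⟨P.comap (algebraMap G.invariants D'), Ideal.IsPrime.comap _⟩
  have hq : q ∈ Set.range (PrimeSpectrum.comap (algebraMap G.invariants A)) := by
    have : FaithfulSMul G.invariants A :=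
      (faithfulSMul_iff_algebraMap_injective G.invariants A).2 Subtype.val_injective
    exact Algebra.IsIntegral.comap_surjective G.invariants A q
  obtain ⟨Q, hQ⟩ := hq
  let k := q.asIdeal.ResidueField
  let φ : k →+* P.ResidueField := Ideal.ResidueField.map q.asIdeal P (algebraMap G.invariants D') rfl
  let ψ : k →+* Q.asIdeal.ResidueField := Ideal.ResidueField.map q.asIdeal Q.asIdeal (algebraMap G.invariants A)
    (congrArg PrimeSpectrum.asIdeal hQ).symm
  let _ : Algebra k P.ResidueField := φ.toAlgebra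
  let _ : Algebra k Q.asIdeal.ResidueField := ψ.toAlgebra
  let T := P.ResidueField ⊗[k] Q.asIdeal.ResidueField
  let Φ : D' ⊗[G.invariants] A →+* T := liftRing (L := D') (M := A)
    ((Algebra.TensorProduct.includeLeftRingHom : P.ResidueField →+* T).comp (algebraMap D' P.ResidueField))
    ((Algebra.TensorProduct.includeRight.toRingHom : Q.asIdeal.ResidueField →+* T).comp
      (algebraMap A Q.asIdeal.ResidueField)) (RingHom.ext fun x => by
      have e1 : φ (algebraMap G.invariants k x) = algebraMap D' P.ResidueField (algebraMap G.invariants D' x) :=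
        Ideal.ResidueField.map_algebraMap ..
      have e2 : ψ (algebraMap G.invariants k x) =
          algebraMap A Q.asIdeal.ResidueField (algebraMap G.invariants A x) :=
        Ideal.ResidueField.map_algebraMap ..
      show (1 : P.ResidueField) ⊗ₜ[k] algebraMap A Q.asIdeal.ResidueField (algebraMap G.invariants A x) =
        algebraMap D' P.ResidueField (algebraMap G.invariants D' x) ⊗ₜ[k] (1 : Q.asIdeal.ResidueField)
      rw [← e1, ← e2]
      show (1 : P.ResidueField) ⊗ₜ[k] algebraMap k Q.asIdeal.ResidueField (algebraMap G.invariants k x) =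
        algebraMap k P.ResidueField (algebraMap G.invariants k x) ⊗ₜ[k] (1 : Q.asIdeal.ResidueField)
      rw [Algebra.algebraMap_eq_smul_one (A := Q.asIdeal.ResidueField), Algebra.algebraMap_eq_smul_one (A := P.ResidueField),
        smul_tmul])
  have h0 := congrArg Φ hc
  rw [map_zero, show Φ (c ⊗ₜ[G.invariants] (1 : A)) = _ from liftRing_tmul (L := D') (M := A) _ _ _ c 1,
    map_one, mul_one] at h0
  have hinj : Function.Injective (Algebra.TensorProduct.includeLeftRingHom : P.ResidueField →+* T) :=
    RingHom.injective _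
  exact Ideal.algebraMap_residueField_eq_zero.1 (hinj (h0.trans (map_zero _).symm))

/-- Invariants after base change, with the coefficients on the right. -/
theorem invariants_baseChange_right (p : ProjPres A G.SB) (D' : Type u) [CommRing D'] [Algebra G.invariants D']
    (sT tT : A ⊗[G.invariants] D' →ₐ[G.invariants] G.SB ⊗[G.invariants] D')
    (hs : ∀ (a : A) (d : D'), sT (a ⊗ₜ d) = algebraMap A G.SB a ⊗ₜ d)
    (ht : ∀ (a : A) (d : D'), tT (a ⊗ₜ d) = G.tSB a ⊗ₜ d) :
    (∀ f : A ⊗[G.invariants] D', sT f = tT f → ∃ (n : ℕ) (P : D'[X]), 0 < n ∧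
      P.map (Algebra.TensorProduct.includeRight : D' →ₐ[G.invariants] A ⊗[G.invariants] D').toRingHom =
        (X - Polynomial.C f) ^ n) ∧
    (∀ c : D', (Algebra.TensorProduct.includeRight : D' →ₐ[G.invariants] A ⊗[G.invariants] D') c = 0 →
      IsNilpotent c) ∧
    (Module.Flat G.invariants D' →
      Function.Injective (Algebra.TensorProduct.includeRight : D' →ₐ[G.invariants] A ⊗[G.invariants] D') ∧
      ∀ f : A ⊗[G.invariants] D', sT f = tT f →
        f ∈ Set.range (Algebra.TensorProduct.includeRight : D' →ₐ[G.invariants] A ⊗[G.invariants] D')) := by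
  have := G.algebraIsIntegral p
  let eA := Algebra.TensorProduct.comm G.invariants A D'
  let eB := Algebra.TensorProduct.comm G.invariants G.SB D'
  have hS : (G.bmap D' G.sAlg).comp eA.toAlgHom.toRingHom = eB.toAlgHom.toRingHom.comp sT.toRingHom := by
    refine tensor_ringHom_ext (fun a => ?_) fun d => ?_ <;>
      exact (congrArg eB (hs _ _)).symm
  have hT : (G.bmap D' G.tAlg).comp eA.toAlgHom.toRingHom = eB.toAlgHom.toRingHom.comp tT.toRingHom := by
    refine tensor_ringHom_ext (fun a => ?_) fun d => ?_ <;>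
      exact (congrArg eB (ht _ _)).symm
  have key : ∀ f, sT f = tT f → eA f ∈ (G.baseChange D').invariants := fun f hf =>
    (RingHom.congr_fun hS f).trans ((congrArg eB hf).trans (RingHom.congr_fun hT f).symm)
  have hincl : ∀ c : D', eA ((Algebra.TensorProduct.includeRight : D' →ₐ[G.invariants] A ⊗[G.invariants] D') c) =
      c ⊗ₜ[G.invariants] (1 : A) := fun c => rfl
  refine ⟨fun f hf => ?_, fun c hc => ?_, fun _ => ⟨fun c c' h => ?_, fun f hf => ?_⟩⟩
  · obtain ⟨n, P, hn, hP⟩ := G.exists_pow_eq_map p D' (eA f) (key f hf)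
    refine ⟨n, P, hn, Polynomial.map_injective eA.toAlgHom.toRingHom eA.injective ?_⟩
    rw [Polynomial.map_map, Polynomial.map_pow, Polynomial.map_sub, Polynomial.map_X, Polynomial.map_C]
    exact (congrArg (fun g => Polynomial.map g P) (RingHom.ext hincl)).trans hP
  · exact G.isNilpotent_of_tmul_one D' c ((hincl c).symm.trans ((congrArg eA hc).trans (map_zero eA)))
  · exact G.injective_tmul_one D' ((hincl c).symm.trans ((congrArg eA h).trans (hincl c')))
  · obtain ⟨d, hd⟩ := (G.mem_invariants_baseChange_iff D' _).1 (key f hf)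
    exact ⟨d, eA.injective ((hincl d).trans hd)⟩

end RingGrpd

end Groth.Agent.GrpdLib
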