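import Groth.Agent.GrpdLib.RingGrpd
import Groth.Prelude.Def_Grpd
import Mathlib.AlgebraicGeometry.Morphisms.FlatRank
import Mathlib.RingTheory.Finiteness.ModuleFinitePresentation
import Mathlib.RingTheory.Flat.EquationalCriterion
import Mathlib.RingTheory.Norm.Basic

/-!
# The ring-theoretic groupoid of an affine groupoid scheme
-/

set_option autoImplicit false

universe u

open CategoryTheory CategoryTheory.Limits AlgebraicGeometry

namespace Groth.Agent.GrpdLib

set_option maxHeartbeats 400000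

/-- The point of an affine scheme given by a ring map out of its global functions. -/
noncomputable def pt (X : Scheme.{u}) [IsAffine X] {T : Type u} [CommRing T] (α : Γ(X, ⊤) →+* T) :
    Spec (CommRingCat.of T) ⟶ X :=
  Spec.map (CommRingCat.ofHom α) ≫ X.isoSpec.inv

/-- The ring map of a point of an affine scheme. -/
noncomputable def ofPt {X : Scheme.{u}} [IsAffine X] {T : Type u} [CommRing T]
    (x : Spec (CommRingCat.of T) ⟶ X) : Γ(X, ⊤) →+* T :=
  (Spec.preimage (x ≫ X.isoSpec.hom)).hom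

theorem pt_ofPt {X : Scheme.{u}} [IsAffine X] {T : Type u} [CommRing T] (x : Spec (CommRingCat.of T) ⟶ X) :
    pt X (ofPt x) = x := by
  rw [pt, ofPt, CommRingCat.ofHom_hom, Spec.map_preimage, Category.assoc, Iso.hom_inv_id, Category.comp_id]

theorem pt_injective {X : Scheme.{u}} [IsAffine X] {T : Type u} [CommRing T] :
    Function.Injective (pt X (T := T)) := fun α β h => by
  have h' := Spec.map_injective ((cancel_mono X.isoSpec.inv).1 h)
  exact congrArg CommRingCat.Hom.hom h'

theorem ofPt_pt {X : Scheme.{u}} [IsAffine X] {T : Type u} [CommRing T] (α : Γ(X, ⊤) →+* T) :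
    ofPt (pt X α) = α :=
  pt_injective (pt_ofPt _)

theorem pt_map {X : Scheme.{u}} [IsAffine X] {T T' : Type u} [CommRing T] [CommRing T'] (g : T →+* T')
    (α : Γ(X, ⊤) →+* T) : pt X (g.comp α) = Spec.map (CommRingCat.ofHom g) ≫ pt X α := by
  rw [pt, pt, CommRingCat.ofHom_comp, Spec.map_comp, Category.assoc]

theorem pt_appTop {X Y : Scheme.{u}} [IsAffine X] [IsAffine Y] (f : X ⟶ Y) {T : Type u} [CommRing T]
    (α : Γ(X, ⊤) →+* T) : pt Y (α.comp f.appTop.hom) = pt X α ≫ f := by
  rw [pt, pt, Category.assoc, ← Scheme.isoSpec_inv_naturality, CommRingCat.ofHom_comp, CommRingCat.ofHom_hom,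
    Spec.map_comp, Category.assoc]

theorem comp_appTop_eq {W X Y : Scheme.{u}} [IsAffine W] [IsAffine X] [IsAffine Y] (f : X ⟶ Y) (g : W ⟶ Y)
    {T : Type u} [CommRing T] {α : Γ(X, ⊤) →+* T} {β : Γ(W, ⊤) →+* T} :
    α.comp f.appTop.hom = β.comp g.appTop.hom ↔ pt X α ≫ f = pt W β ≫ g := by
  rw [← pt_appTop, ← pt_appTop]
  exact pt_injective.eq_iff.symm

variable {S : Scheme.{u}} (G : Grpd.GroupoidScheme S) [IsAffine G.U] [IsAffine G.R]

theorem lift_congr {W : Scheme.{u}} {α α' β β' : W ⟶ G.R} (ha : α = α') (hb : β = β')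
    (h : α ≫ G.s = β ≫ G.t) (h' : α' ≫ G.s = β' ≫ G.t) :
    pullback.lift α β h ≫ G.c = pullback.lift α' β' h' ≫ G.c := by
  subst ha hb; rfl

/-- The groupoid of global functions. -/
noncomputable def ofScheme : RingGrpd Γ(G.U, ⊤) Γ(G.R, ⊤) where
  s := G.s.appTop.hom
  t := G.t.appTop.hom
  e := G.e.appTop.hom
  i := G.i.appTop.hom
  comp {T} _ α β h := ofPt (pullback.lift (pt G.R α) (pt G.R β) ((comp_appTop_eq G.s G.t).1 h) ≫ G.c)
  comp_map {T T'} _ _ g α β h h' := by
    apply pt_injective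
    rw [pt_map, pt_ofPt, pt_ofPt, ← Category.assoc]
    congr 1
    apply pullback.hom_ext
    · rw [Category.assoc, pullback.lift_fst, pullback.lift_fst, pt_map]
    · rw [Category.assoc, pullback.lift_snd, pullback.lift_snd, pt_map]
  comp_s {T} _ α β h := by
    apply pt_injective
    rw [pt_appTop, pt_ofPt, G.comp_s, pt_appTop]
  comp_t {T} _ α β h := by
    apply pt_injective
    rw [pt_appTop, pt_ofPt, G.comp_t, pt_appTop]
  assoc {T} _ α β γ h₁ h₂ h₃ h₄ := by
    apply pt_injective
    refine (pt_ofPt _).trans (Eq.trans ?_ (pt_ofPt _).symm)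
    refine (lift_congr G (pt_ofPt _) rfl _ ((G.comp_s _ _ _).trans ((comp_appTop_eq G.s G.t).1 h₂))).trans ?_
    refine (G.assoc _ _ _ ((comp_appTop_eq G.s G.t).1 h₁) ((comp_appTop_eq G.s G.t).1 h₂)).trans ?_
    exact lift_congr G rfl (pt_ofPt _).symm _ _
  e_s := by rw [← CommRingCat.hom_comp, ← Scheme.Hom.comp_appTop, G.e_s, Scheme.Hom.id_appTop]; rfl
  e_t := by rw [← CommRingCat.hom_comp, ← Scheme.Hom.comp_appTop, G.e_t, Scheme.Hom.id_appTop]; rfl
  comp_e {T} _ α h := by
    apply pt_injective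
    rw [pt_ofPt]
    refine (lift_congr G rfl ?_ _ ?_).trans (G.comp_e (pt G.R α))
    · rw [pt_appTop, pt_appTop, Category.assoc]
    · rw [Category.assoc, Category.assoc, G.e_t, Category.comp_id]
  e_comp {T} _ α h := by
    apply pt_injective
    rw [pt_ofPt]
    refine (lift_congr G ?_ rfl _ ?_).trans (G.e_comp (pt G.R α))
    · rw [pt_appTop, pt_appTop, Category.assoc]
    · rw [Category.assoc, Category.assoc, G.e_s, Category.comp_id]
  i_s := by rw [← CommRingCat.hom_comp, ← Scheme.Hom.comp_appTop, G.i_s]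
  i_t := by rw [← CommRingCat.hom_comp, ← Scheme.Hom.comp_appTop, G.i_t]
  comp_i {T} _ α h := by
    apply pt_injective
    refine (pt_ofPt _).trans (Eq.trans ?_ (((pt_appTop G.e _).trans
      (congrArg (· ≫ G.e) (pt_appTop G.t α))).trans (Category.assoc _ _ _)).symm)
    refine (lift_congr G rfl ?_ _ ?_).trans (G.comp_i (pt G.R α))
    · rw [pt_appTop]
    · rw [Category.assoc, G.i_t]
  i_comp {T} _ α h := by
    apply pt_injective
    refine (pt_ofPt _).trans (Eq.trans ?_ (((pt_appTop G.e _).trans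
      (congrArg (· ≫ G.e) (pt_appTop G.s α))).trans (Category.assoc _ _ _)).symm)
    refine (lift_congr G ?_ rfl _ ?_).trans (G.i_comp (pt G.R α))
    · rw [pt_appTop]
    · rw [Category.assoc, G.i_s]

theorem invariants_ofScheme : (ofScheme G).invariants = G.invariants := rfl

theorem nonempty_projPres [IsFinite G.s] [Flat G.s] [LocallyOfFinitePresentation G.s] :
    Nonempty (ProjPres Γ(G.U, ⊤) (ofScheme G).SB) := by
  have h1 : G.s.appTop.hom.Finite := G.s.finite_appTop
  have h2 : G.s.appTop.hom.Flat := HasRingHomProperty.appTop (P := @Flat) G.s inferInstance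
  have h3 : G.s.appTop.hom.FinitePresentation :=
    HasRingHomProperty.appTop (P := @LocallyOfFinitePresentation) G.s inferInstance
  have : Module.Finite Γ(G.U, ⊤) (ofScheme G).SB := h1
  have : Module.Flat Γ(G.U, ⊤) (ofScheme G).SB := h2
  have : Algebra.FinitePresentation Γ(G.U, ⊤) (ofScheme G).SB := h3
  have := Module.FinitePresentation.of_finite_of_finitePresentation (R := Γ(G.U, ⊤)) (S := (ofScheme G).SB)
  have : Module.Projective Γ(G.U, ⊤) (ofScheme G).SB := Module.Flat.projective_of_finitePresentation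
  exact ProjPres.nonempty

end Groth.Agent.GrpdLib

namespace Groth.Agent.GrpdLib

theorem norm_ofBasis {A B : Type u} [CommRing A] [CommRing B] [Algebra A B] {n : ℕ} (b : Module.Basis (Fin n) A B)
    (z : B) :
    (⟨n, b.equivFun.symm.toLinearMap, b.equivFun.toLinearMap, fun x => b.equivFun.symm_apply_apply x⟩ :
      ProjPres A B).norm z = Algebra.norm A z := by
  set p : ProjPres A B :=
    ⟨n, b.equivFun.symm.toLinearMap, b.equivFun.toLinearMap, fun x => b.equivFun.symm_apply_apply x⟩
  have h1 : p.mat 1 = 1 := by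
    rw [ProjPres.mat, ← LinearMap.toMatrix'_id]
    congr 1
    refine LinearMap.ext fun x => ?_
    show b.equivFun (1 * b.equivFun.symm x) = x
    rw [one_mul, LinearEquiv.apply_symm_apply]
  rw [ProjPres.norm, ← h1, ← ProjPres.mat_add, add_sub_cancel, Algebra.norm_eq_matrix_det b]
  congr 1

variable {S : Scheme.{u}} (G : Grpd.GroupoidScheme S) [IsAffine G.U] [IsAffine G.R]

theorem normST_mem_invariants (f : Γ(G.U, ⊤)) : G.normST f ∈ G.invariants := by
  show @Algebra.norm Γ(G.U, ⊤) (ofScheme G).SB _ _ _ (G.t.appTop.hom f) ∈ (ofScheme G).invariants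
  by_cases h : ∃ s : Finset (ofScheme G).SB,
      Nonempty (Module.Basis s Γ(G.U, ⊤) (ofScheme G).SB)
  · obtain ⟨s, ⟨b⟩⟩ := h
    let b' := b.reindex s.equivFin
    exact (congrArg (· ∈ (ofScheme G).invariants) (norm_ofBasis b' (G.t.appTop.hom f : (ofScheme G).SB))).mp
      ((ofScheme G).norm_mem_invariants _ f)
  · exact (congrArg (· ∈ (ofScheme G).invariants)
      (Algebra.norm_eq_one_of_not_exists_basis (R := Γ(G.U, ⊤)) h (G.t.appTop.hom f : (ofScheme G).SB))).mpr (one_mem _)

theorem isIntegral_invariants [IsFinite G.s] [Flat G.s] [LocallyOfFinitePresentation G.s] :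
    Algebra.IsIntegral G.invariants Γ(G.U, ⊤) := by
  obtain ⟨p⟩ := nonempty_projPres G
  exact ⟨fun f => (ofScheme G).isIntegralElem p f⟩

end Groth.Agent.GrpdLib
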