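import Mathlib.LinearAlgebra.Matrix.ToLin
import Mathlib.LinearAlgebra.Matrix.SchurComplement
import Mathlib.LinearAlgebra.Matrix.Charpoly.Coeff
import Mathlib.LinearAlgebra.Matrix.Adjugate
import Mathlib.RingTheory.IsTensorProduct
import Mathlib.Algebra.Module.Projective
import Mathlib.RingTheory.Finiteness.Projective

/-!
# Norm and characteristic polynomial for finite projective algebras

For a finite projective algebra `B` over `A` presented as a direct summand of `A ^ n`, the elements of `B` act by
matrices; this gives a norm (a determinant of `1 + σ (z - 1) π`) and a monic polynomial killing `z`, both compatible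
with base change and independent of choices in the way needed for groupoids.
-/

set_option autoImplicit false

universe u v w w'

open Matrix

namespace Groth.Agent.GrpdLib

/-- A presentation of `B` as a direct summand of `A ^ n`. -/
structure ProjPres (A : Type u) (B : Type v) [CommRing A] [CommRing B] [Algebra A B] where
  /-- the rank of the ambient free module -/
  n : ℕ
  /-- the projection -/
  proj : (Fin n → A) →ₗ[A] B
  /-- the section -/
  sect : B →ₗ[A] (Fin n → A)
  proj_sect : ∀ b, proj (sect b) = b

namespace ProjPres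

section Basic

variable {A : Type u} {B : Type v} [CommRing A] [CommRing B] [Algebra A B]

theorem nonempty [Module.Finite A B] [Module.Projective A B] : Nonempty (ProjPres A B) := by
  obtain ⟨n, f, g, -, -, h⟩ := Module.Finite.exists_comp_eq_id_of_projective A B
  exact ⟨⟨n, f, g, fun b => LinearMap.congr_fun h b⟩⟩

variable (p : ProjPres A B)

/-- The endomorphism of `A ^ n` induced by multiplication by `z`. -/
noncomputable def endo (z : B) : (Fin p.n → A) →ₗ[A] (Fin p.n → A) := p.sect ∘ₗ Algebra.lmul A B z ∘ₗ p.proj

/-- The matrix of multiplication by `z`. -/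
noncomputable def mat (z : B) : Matrix (Fin p.n) (Fin p.n) A := LinearMap.toMatrix' (p.endo z)

theorem mat_mul (a b : B) : p.mat (a * b) = p.mat a * p.mat b := by
  rw [mat, mat, mat, ← LinearMap.toMatrix'_comp]
  congr 1
  ext x
  simp [endo, p.proj_sect, mul_assoc]

theorem mat_add (a b : B) : p.mat (a + b) = p.mat a + p.mat b := by
  rw [mat, mat, mat, ← map_add]
  congr 1
  ext x
  simp [endo, add_mul]

theorem mat_zero : p.mat 0 = 0 := by
  rw [mat, show p.endo 0 = 0 by ext x; simp [endo], map_zero]

theorem mat_sub (a b : B) : p.mat (a - b) = p.mat a - p.mat b := by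
  rw [eq_sub_iff_add_eq, ← mat_add, sub_add_cancel]

/-- The norm. -/
noncomputable def norm (z : B) : A := (1 + p.mat (z - 1)).det

theorem norm_one : p.norm 1 = 1 := by simp [norm, mat_zero]

theorem norm_mul (a b : B) : p.norm (a * b) = p.norm a * p.norm b := by
  rw [norm, norm, norm, ← det_mul]
  congr 1
  rw [show a * b - 1 = (a - 1) + (b - 1) + (a - 1) * (b - 1) by ring, mat_add, mat_add, mat_mul]
  simp only [mul_add, add_mul, one_mul, mul_one]
  abel

theorem isUnit_norm {z : B} (hz : IsUnit z) : IsUnit (p.norm z) := by
  obtain ⟨u, rfl⟩ := hz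
  exact IsUnit.of_mul_eq_one (p.norm ↑u⁻¹) (by rw [← norm_mul, Units.mul_inv, norm_one])

/-- The norm of `z` is a multiple of the value of `z` at any section. -/
theorem dvd_norm (ε : B →ₐ[A] A) (z : B) : ε z ∣ p.norm z := by
  let v : Fin p.n → A := fun j => ε (p.proj (Pi.single j 1))
  have hv : ∀ x : Fin p.n → A, ε (p.proj x) = v ⬝ᵥ x := fun x => by
    conv_lhs => rw [pi_eq_sum_univ' x]
    simp only [map_sum, map_smul, dotProduct, v, smul_eq_mul]
    exact Finset.sum_congr rfl fun j _ => mul_comm _ _
  have h1 : v ᵥ* (1 + p.mat (z - 1)) = ε z • v := by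
    funext j
    rw [vecMul_add, vecMul_one, Pi.add_apply, Pi.smul_apply, smul_eq_mul]
    have : (v ᵥ* p.mat (z - 1)) j = ε (p.proj (p.endo (z - 1) (Pi.single j 1))) := by
      rw [hv]
      simp [vecMul, dotProduct, mat, LinearMap.toMatrix'_apply, Pi.single_apply]
    rw [this]
    simp only [endo, LinearMap.comp_apply, p.proj_sect, Algebra.coe_lmul_eq_mul, LinearMap.mul_apply']
    rw [map_mul, map_sub, map_one]
    simp only [v]
    ring
  have h2 := congrArg (fun w => (w ᵥ* (1 + p.mat (z - 1)).adjugate) ⬝ᵥ p.sect 1) h1
  simp only [vecMul_vecMul, mul_adjugate, vecMul_smul, vecMul_one, smul_vecMul, smul_dotProduct, smul_eq_mul,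
    ← hv, p.proj_sect, map_one, mul_one] at h2
  exact ⟨_, h2⟩

/-- The polynomial of `z`. -/
noncomputable def charpoly (z : B) : Polynomial A := (p.mat z).charpoly

theorem charpoly_monic (z : B) : (p.charpoly z).Monic := Matrix.charpoly_monic _

theorem proj_aeval (z : B) (q : Polynomial A) (x : Fin p.n → A) :
    p.proj (Polynomial.aeval (p.endo z) q x) = Polynomial.aeval z q * p.proj x := by
  induction q using Polynomial.induction_on generalizing x with
  | C a => rw [Polynomial.aeval_C, Polynomial.aeval_C, Module.algebraMap_end_apply, map_smul, Algebra.smul_def]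
  | add f g hf hg => simp [hf, hg, add_mul]
  | monomial m a ih =>
    rw [pow_succ, ← mul_assoc, map_mul, Module.End.mul_apply, ih, Polynomial.aeval_X]
    simp [endo, p.proj_sect, mul_assoc]

theorem aeval_charpoly (z : B) : Polynomial.aeval z (p.charpoly z) = 0 := by
  have h : Polynomial.aeval (p.endo z) (p.charpoly z) = 0 := by
    have e : p.endo z = Matrix.toLinAlgEquiv' (p.mat z) := (Matrix.toLin'_toMatrix' _).symm
    rw [e, Polynomial.aeval_algHom_apply, charpoly, Matrix.aeval_self_charpoly, map_zero]
  have := p.proj_aeval z (p.charpoly z) (p.sect 1)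
  rw [h, LinearMap.zero_apply, map_zero, p.proj_sect, mul_one] at this
  exact this.symm

end Basic

/-! ### Comparison of presentations -/

section Compare

variable {L : Type u} {P₁ : Type v} {P₂ : Type w} [CommRing L] [CommRing P₁] [Algebra L P₁] [CommRing P₂]
  [Algebra L P₂] (p₁ : ProjPres L P₁) (p₂ : ProjPres L P₂) (e : P₁ ≃ₐ[L] P₂)

/-- The transition matrix. -/
noncomputable def trans (w : P₁) : Matrix (Fin p₁.n) (Fin p₂.n) L :=
  LinearMap.toMatrix' (p₁.sect ∘ₗ Algebra.lmul L P₁ w ∘ₗ e.symm.toLinearMap ∘ₗ p₂.proj)

theorem trans_mul_trans (w : P₁) : trans p₁ p₂ e w * trans p₂ p₁ e.symm 1 = p₁.mat w := by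
  rw [trans, trans, mat, ← LinearMap.toMatrix'_comp]
  congr 1
  ext x
  simp [endo, p₂.proj_sect]

theorem trans_mul_trans' (w : P₁) : trans p₂ p₁ e.symm 1 * trans p₁ p₂ e w = p₂.mat (e w) := by
  rw [trans, trans, mat, ← LinearMap.toMatrix'_comp]
  congr 1
  ext x
  simp [endo, p₁.proj_sect]

theorem norm_algEquiv (z : P₁) : p₁.norm z = p₂.norm (e z) := by
  rw [norm, norm, ← trans_mul_trans p₁ p₂ e (z - 1), det_one_add_mul_comm, trans_mul_trans', map_sub, map_one]

theorem charpoly_algEquiv (h : p₁.n = p₂.n) (z : P₁) : p₁.charpoly z = p₂.charpoly (e z) := by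
  rw [charpoly, charpoly, ← trans_mul_trans p₁ p₂ e z, ← trans_mul_trans' p₁ p₂ e z]
  have hh := Matrix.charpoly_mul_comm' (trans p₁ p₂ e z) (trans p₂ p₁ e.symm 1)
  simp only [Fintype.card_fin, h] at hh
  exact (Polynomial.monic_X_pow _).isRegular.left hh

end Compare

/-! ### Change of base along an isomorphism -/

section Transport

variable {L : Type u} {L' : Type v} {P : Type w} [CommRing L] [CommRing L'] [CommRing P] [Algebra L P] [Algebra L' P]
  (p : ProjPres L P) (ρ : L' ≃+* L) (h : ∀ x, algebraMap L' P x = algebraMap L P (ρ x))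

/-- The same presentation over an isomorphic base. -/
noncomputable def transport : ProjPres L' P where
  n := p.n
  proj :=
    { toFun := fun x => p.proj fun i => ρ (x i)
      map_add' := fun x y => by
        rw [← map_add]; congr 1; funext i; simp
      map_smul' := fun c x => by
        rw [RingHom.id_apply, show ∀ y : P, c • y = ρ c • y from fun y => by rw [Algebra.smul_def, h, ← Algebra.smul_def],
          ← map_smul]
        congr 1; funext i; simp }
  sect :=
    { toFun := fun b i => ρ.symm (p.sect b i)
      map_add' := fun x y => by funext i; simp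
      map_smul' := fun c x => by
        funext i
        rw [RingHom.id_apply, show ∀ y : P, c • y = ρ c • y from fun y => by rw [Algebra.smul_def, h, ← Algebra.smul_def],
          map_smul]
        simp }
  proj_sect b := by
    simp only [LinearMap.coe_mk, AddHom.coe_mk, RingEquiv.apply_symm_apply]
    exact p.proj_sect b

theorem mat_transport (z : P) : (p.transport ρ h).mat z = (p.mat z).map ρ.symm := by
  refine Matrix.ext fun (i : Fin p.n) (j : Fin p.n) => ?_
  show ρ.symm (p.sect (z * p.proj fun l => ρ ((Pi.single j (1 : L') : Fin p.n → L') l)) i) = _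
  rw [Matrix.map_apply, mat, LinearMap.toMatrix'_apply]
  have : (fun l => ρ ((Pi.single j (1 : L') : Fin p.n → L') l)) = Pi.single j (1 : L) := by
    funext l
    simp only [Pi.single_apply, apply_ite ρ, map_one, map_zero]
  rw [this]
  simp [endo]

theorem norm_transport (z : P) : ρ ((p.transport ρ h).norm z) = p.norm z := by
  have e : (p.transport ρ h).norm z = ρ.symm (p.norm z) := by
    rw [norm, norm, mat_transport]
    rw [← RingEquiv.coe_toRingHom, RingHom.map_det]
    exact congrArg Matrix.det (by
      rw [RingHom.mapMatrix_apply, Matrix.map_add _ (map_add _), Matrix.map_one _ (map_zero _) (map_one _)]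
      rfl)
  rw [e, RingEquiv.apply_symm_apply]

theorem charpoly_transport (z : P) : ((p.transport ρ h).charpoly z).map (ρ : L' →+* L) = p.charpoly z := by
  rw [charpoly, charpoly, mat_transport]
  exact (Matrix.charpoly_map _ _).symm.trans
    (congrArg Matrix.charpoly (Matrix.ext fun _ _ => ρ.apply_symm_apply _))

end Transport

/-! ### Base change -/

section BaseChange

variable {A : Type u} {B : Type v} [CommRing A] [CommRing B] [Algebra A B] (p : ProjPres A B)
  {L : Type w} {P : Type w'} [CommRing L] [CommRing P] [Algebra A L] [Algebra L P] [Algebra B P] [Algebra A P]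
  [IsScalarTower A L P] [IsScalarTower A B P] [Algebra.IsPushout A L B P]

/-- The base change of the section. -/
noncomputable def baseSect : P →ₗ[L] (Fin p.n → L) :=
  (Algebra.IsPushout.out (R := A) (S := L) (R' := B) (S' := P)).lift
    (((Algebra.linearMap A L).compLeft (Fin p.n)) ∘ₗ p.sect)

theorem baseSect_algebraMap (b : B) :
    p.baseSect (L := L) (algebraMap B P b) = fun i => algebraMap A L (p.sect b i) :=
  (Algebra.IsPushout.out (R := A) (S := L) (R' := B) (S' := P)).lift_eq _ b

/-- The base change of the projection. -/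
noncomputable def baseProj : (Fin p.n → L) →ₗ[L] P :=
  Fintype.linearCombination L fun i => algebraMap B P (p.proj (Pi.single i 1))

theorem baseProj_algebraMap (x : Fin p.n → A) :
    p.baseProj (L := L) (P := P) (fun i => algebraMap A L (x i)) = algebraMap B P (p.proj x) := by
  conv_rhs => rw [pi_eq_sum_univ' x]
  simp only [baseProj, Fintype.linearCombination_apply, map_sum, map_smul]
  refine Finset.sum_congr rfl fun i _ => ?_
  rw [algebraMap_smul, ← IsScalarTower.toAlgHom_apply A B P, ← IsScalarTower.toAlgHom_apply A B P, map_smul]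

theorem baseProj_baseSect (y : P) : p.baseProj (L := L) (p.baseSect (L := L) y) = y := by
  refine LinearMap.congr_fun (?_ : p.baseProj (L := L) ∘ₗ p.baseSect (L := L) = LinearMap.id) y
  refine (Algebra.IsPushout.out (R := A) (S := L) (R' := B) (S' := P)).algHom_ext _ _ fun b => ?_
  simp only [LinearMap.comp_apply, LinearMap.id_apply]
  show p.baseProj (p.baseSect (L := L) (algebraMap B P b)) = algebraMap B P b
  rw [baseSect_algebraMap, baseProj_algebraMap, p.proj_sect]

/-- The presentation of the base change. -/
noncomputable abbrev baseChange (L : Type w) (P : Type w') [CommRing L] [CommRing P] [Algebra A L] [Algebra L P]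
    [Algebra B P] [Algebra A P] [IsScalarTower A L P] [IsScalarTower A B P] [Algebra.IsPushout A L B P] :
    ProjPres L P :=
  ⟨p.n, p.baseProj, p.baseSect, p.baseProj_baseSect⟩

theorem mat_baseChange (z : B) :
    (p.baseChange L P).mat (algebraMap B P z) = (p.mat z).map (algebraMap A L) := by
  refine Matrix.ext fun (i : Fin p.n) (j : Fin p.n) => ?_
  show (LinearMap.toMatrix' (p.baseSect (L := L) ∘ₗ Algebra.lmul L P (algebraMap B P z) ∘ₗ p.baseProj) : Matrix (Fin p.n) (Fin p.n) L) i j = _
  rw [Matrix.map_apply, mat, LinearMap.toMatrix'_apply, LinearMap.toMatrix'_apply]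
  have hsingle : (Pi.single j (1 : L) : Fin p.n → L) = fun l => algebraMap A L ((Pi.single j (1 : A) : Fin p.n → A) l) := by
    funext l
    simp only [Pi.single_apply, apply_ite (algebraMap A L), map_one, map_zero]
  simp only [LinearMap.comp_apply, endo]
  rw [hsingle, baseProj_algebraMap]
  simp only [Algebra.coe_lmul_eq_mul, LinearMap.mul_apply']
  rw [← map_mul, baseSect_algebraMap]

theorem norm_baseChange (z : B) :
    (p.baseChange L P).norm (algebraMap B P z) = algebraMap A L (p.norm z) := by
  rw [norm, norm, RingHom.map_det, ← map_one (algebraMap B P), ← map_sub, mat_baseChange]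
  exact congrArg Matrix.det (by
    rw [RingHom.mapMatrix_apply, Matrix.map_add _ (map_add _), Matrix.map_one _ (map_zero _) (map_one _)])

theorem charpoly_baseChange (z : B) :
    (p.baseChange L P).charpoly (algebraMap B P z) = (p.charpoly z).map (algebraMap A L) := by
  rw [charpoly, charpoly, mat_baseChange, Matrix.charpoly_map]

end BaseChange

end ProjPres

end Groth.Agent.GrpdLib
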