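import Groth.Agent.GrpdLib.PullbackGrpd
import Groth.Agent.GrpdLib.CoequalizerMono
import Groth.Agent.Desc19b.Source
import Mathlib.AlgebraicGeometry.Sites.Fpqc

/-!
# The coequalizer of a groupoid scheme with a quasi-section
-/

set_option autoImplicit false

universe u

open CategoryTheory CategoryTheory.Limits AlgebraicGeometry

namespace Groth.Agent.GrpdLib

set_option maxHeartbeats 1000000
set_option backward.isDefEq.respectTransparency.types false

theorem coequalizer_of_quasiSection {S : Scheme.{u}} (G : Grpd.GroupoidScheme S) {U' : Scheme.{u}} (u : U' ⟶ G.U)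
    (h1 : Mor2.IsFinLocFree (pullback.fst G.t u ≫ G.s) ∧ Surjective (pullback.fst G.t u ≫ G.s))
    (h2 : ∀ E : Set U', (∀ x ∈ E, ∀ y ∈ E, ∃ r : G.R, G.t.base r = u.base x ∧ G.s.base r = u.base y) →
      ∃ W : U'.Opens, IsAffineOpen W ∧ E ⊆ (W : Set U')) :
    ∃ (Y : Scheme.{u}) (p : G.U ⟶ Y) (w : G.t ≫ p = G.s ≫ p),
      Nonempty (IsColimit (Cofork.ofπ p w)) ∧ Surjective p ∧
      (IsOpenMap G.t.base → IsOpenMap p.base) ∧ (UniversallyClosed G.t → UniversallyClosed p) ∧
      Function.Surjective (pullback.lift G.t G.s w).base ∧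
      (Mono G.j → IsPullback G.t G.s p p ∧ (Flat G.t → Flat p)) := by
  obtain ⟨⟨hwF, hwFl, hwP⟩, hwS⟩ := h1
  let V := pullback G.t u
  let v1 : V ⟶ G.R := pullback.fst G.t u
  let v2 : V ⟶ U' := pullback.snd G.t u
  let w : V ⟶ G.U := v1 ≫ G.s
  have hv : v1 ≫ G.t = v2 ≫ u := pullback.condition
  have : IsFinite w := hwF
  have : Flat w := hwFl
  have : LocallyOfFinitePresentation w := hwP
  have : Surjective w := hwS
  let G' := pbGrpd G u
  have : IsFinite G'.s := MorphismProperty.pullback_snd (P := @IsFinite) _ _ hwF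
  have : Flat G'.s := MorphismProperty.pullback_snd (P := @Flat) _ _ hwFl
  have : LocallyOfFinitePresentation G'.s := MorphismProperty.pullback_snd (P := @LocallyOfFinitePresentation) _ _ hwP
  have hρt : ∀ r : G'.R, G.t (pbρ G u r) = u (G'.t r) := fun r =>
    congrArg (fun φ : pbR G u ⟶ G.U => φ r) (pbρ_t G u)
  have hρs : ∀ r : G'.R, G.s (pbρ G u r) = u (G'.s r) := fun r =>
    congrArg (fun φ : pbR G u ⟶ G.U => φ r) (pbρ_s G u)
  have hb : OrbitsInAffines G' := fun x => by
    refine h2 _ ?_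
    rintro _ ⟨r₁, hr₁, rfl⟩ _ ⟨r₂, hr₂, rfl⟩
    obtain ⟨m, hm₁, hm₂⟩ := exists_arrow_trans G (pbρ G u r₁) (G.i (pbρ G u r₂)) (by
      rw [t_i_apply, hρs, hρs]
      exact congrArg u (hr₁.trans hr₂.symm))
    exact ⟨m, hm₁.trans (hρt r₁), hm₂.trans (by rw [s_i_apply]; exact hρt r₂)⟩
  let q : U' ⟶ Quot G' := proj (G := G') hb
  have hqc : pbT G u ≫ q = pbS G u ≫ q := cond_proj (G := G') hb
  have hker : ∀ {T : Scheme.{u}} (a b : T ⟶ V), a ≫ w = b ≫ w → a ≫ v2 ≫ q = b ≫ v2 ≫ q := fun a b hab => by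
    have hc : (a ≫ v1) ≫ G.s = ((b ≫ v1) ≫ G.i) ≫ G.t := by
      rw [i_comp_t, Category.assoc, Category.assoc]; exact hab
    let r := pbMk G u (cmp G (a ≫ v1) ((b ≫ v1) ≫ G.i) hc) (a ≫ v2) (b ≫ v2)
      (by rw [cmp_t, Category.assoc, hv, Category.assoc])
      (by rw [cmp_s, i_comp_s, Category.assoc, hv, Category.assoc])
    have h3 : r ≫ pbT G u = a ≫ v2 := pbMk_t G u _ _ _ _ _
    have h4 : r ≫ pbS G u = b ≫ v2 := pbMk_s G u _ _ _ _ _
    rw [← Category.assoc, ← h3, Category.assoc, hqc, ← Category.assoc, h4, Category.assoc]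
  let p : G.U ⟶ Quot G' := EffectiveEpi.desc w (v2 ≫ q) hker
  have hwp : w ≫ p = v2 ≫ q := EffectiveEpi.fac w (v2 ≫ q) hker
  let σ : U' ⟶ V := pullback.lift (u ≫ G.e) (𝟙 U')
    (by rw [Category.assoc, G.e_t, Category.comp_id, Category.id_comp])
  have hσw : σ ≫ w = u := by
    show σ ≫ pullback.fst _ _ ≫ G.s = u
    rw [pullback.lift_fst_assoc, Category.assoc, G.e_s, Category.comp_id]
  have hσv : σ ≫ v2 = 𝟙 U' := pullback.lift_snd _ _ _
  have hup : u ≫ p = q := by
    rw [← hσw, Category.assoc, hwp, ← Category.assoc, hσv, Category.id_comp]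
  have hcond : G.t ≫ p = G.s ≫ p := by
    let P := pullback G.s w
    have hc : (pullback.snd G.s w ≫ v1) ≫ G.s = ((pullback.fst G.s w) ≫ G.i) ≫ G.t := by
      rw [i_comp_t, Category.assoc]; exact pullback.condition.symm
    let v' : P ⟶ V := pullback.lift (cmp G (pullback.snd G.s w ≫ v1) (pullback.fst G.s w ≫ G.i) hc)
      (pullback.snd G.s w ≫ v2) (by rw [cmp_t, Category.assoc, hv, Category.assoc])
    have hv'w : v' ≫ w = pullback.fst G.s w ≫ G.t := by
      show v' ≫ pullback.fst _ _ ≫ G.s = _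
      rw [pullback.lift_fst_assoc, cmp_s, i_comp_s]
    have hv'2 : v' ≫ v2 = pullback.snd G.s w ≫ v2 := pullback.lift_snd _ _ _
    rw [← cancel_epi (pullback.fst G.s w), ← Category.assoc, ← hv'w, Category.assoc, hwp, ← Category.assoc, hv'2,
      Category.assoc, ← hwp, pullback.condition_assoc]
  have hqS : Surjective q := surjective_proj (G := G') hb
  refine ⟨Quot G', p, hcond, ⟨Cofork.IsColimit.mk' _ fun t => ?_⟩, ⟨fun y => ?_⟩, fun ht => ?_, fun ht => ?_,
    ?_, fun hj => ⟨?_, fun ht => ?_⟩⟩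
  · let hY := (isColimit_proj (G := G') hb).some
    have hu : pbT G u ≫ u ≫ t.π = pbS G u ≫ u ≫ t.π := by
      rw [← Category.assoc, ← pbρ_t, Category.assoc, t.condition, ← Category.assoc (pbS G u), ← pbρ_s]
      simp only [Category.assoc]
    let h : Quot G' ⟶ t.pt := hY.desc (Cofork.ofπ (u ≫ t.π) hu)
    have hh : q ≫ h = u ≫ t.π := hY.fac (Cofork.ofπ (u ≫ t.π) hu) WalkingParallelPair.one
    refine ⟨h, ?_, fun {m} hm => Cofork.IsColimit.hom_ext hY ?_⟩
    · show p ≫ h = t.π
      rw [← cancel_epi w, ← Category.assoc, hwp, Category.assoc, hh, ← Category.assoc, ← hv]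
      simp only [w, Category.assoc, t.condition]
    · show q ≫ m = q ≫ h
      rw [hh, ← hup, Category.assoc]
      exact congrArg (u ≫ ·) hm
  · obtain ⟨x, hx⟩ := hqS.surj y
    exact ⟨u x, (congrArg (fun φ : U' ⟶ Quot G' => φ x) hup).trans hx⟩
  · intro O hO
    have : ⇑p '' O = ⇑q '' (⇑u ⁻¹' (⇑G.t '' (⇑G.s ⁻¹' O))) := by
      ext y
      constructor
      · rintro ⟨x, hx, rfl⟩
        obtain ⟨v, rfl⟩ := hwS.surj x
        exact ⟨v2 v, ⟨v1 v, hx, congrArg (fun φ : V ⟶ G.U => φ v) hv⟩,
          (congrArg (fun φ : V ⟶ Quot G' => φ v) hwp).symm⟩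
      · rintro ⟨x', ⟨r, hr, hrx⟩, rfl⟩
        refine ⟨G.s r, hr, ?_⟩
        rw [← Scheme.Hom.comp_apply, ← hcond, Scheme.Hom.comp_apply, hrx]
        exact congrArg (fun φ : U' ⟶ Quot G' => φ x') hup
    rw [show p.base '' O = ⇑p '' O from rfl, this]
    exact isOpenMap_proj (G := G') hb _ ((ht _ (hO.preimage G.s.continuous)).preimage u.continuous)
  · have : UniversallyClosed v2 := MorphismProperty.pullback_snd (P := @UniversallyClosed) _ _ ht
    have : IsIntegralHom q := isIntegralHom_proj (G := G') hb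
    have : UniversallyClosed (w ≫ p) := by rw [hwp]; infer_instance
    exact UniversallyClosed.of_comp_surjective w p
  · let L := pullback.lift G.t G.s hcond
    let L' : pbR G u ⟶ pullback q q := pullback.lift (pbT G u) (pbS G u) hqc
    have hL' : Surjective L' := ⟨surjective_lift_proj (G := G') hb⟩
    let VV := pullback (v2 ≫ q) (v2 ≫ q)
    let m : VV ⟶ pullback p p := pullback.map _ _ p p w w (𝟙 _) (by rw [Category.comp_id, hwp]) (by rw [Category.comp_id, hwp])
    have hm : Surjective m := MorphismProperty.pullbackMap (P := @Surjective) hwS hwS hwp.symm hwp.symm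
    let n : VV ⟶ pullback q q := pullback.map _ _ q q v2 v2 (𝟙 _) (Category.comp_id _) (Category.comp_id _)
    let M := pullback n L'
    have hM : Surjective (pullback.fst n L') := MorphismProperty.pullback_fst (P := @Surjective) _ _ hL'
    let va : M ⟶ V := pullback.fst n L' ≫ pullback.fst _ _
    let vb : M ⟶ V := pullback.fst n L' ≫ pullback.snd _ _
    let r' : M ⟶ pbR G u := pullback.snd n L'
    have hr't : r' ≫ pbT G u = va ≫ v2 := by
      have := congrArg (· ≫ pullback.fst q q) (pullback.condition (f := n) (g := L'))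
      simp only [Category.assoc] at this
      rw [show L' ≫ pullback.fst q q = pbT G u from pullback.lift_fst _ _ _,
        show n ≫ pullback.fst q q = pullback.fst _ _ ≫ v2 from pullback.lift_fst _ _ _] at this
      exact this.symm.trans (Category.assoc _ _ _).symm
    have hr's : r' ≫ pbS G u = vb ≫ v2 := by
      have := congrArg (· ≫ pullback.snd q q) (pullback.condition (f := n) (g := L'))
      simp only [Category.assoc] at this
      rw [show L' ≫ pullback.snd q q = pbS G u from pullback.lift_snd _ _ _,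
        show n ≫ pullback.snd q q = pullback.snd _ _ ≫ v2 from pullback.lift_snd _ _ _] at this
      exact this.symm.trans (Category.assoc _ _ _).symm
    have hc1 : (r' ≫ pbρ G u) ≫ G.s = (vb ≫ v1) ≫ G.t := by
      rw [pbρ_s', hr's, Category.assoc, ← hv]
      simp only [Category.assoc]
    have hc2 : ((va ≫ v1) ≫ G.i) ≫ G.s = cmp G (r' ≫ pbρ G u) (vb ≫ v1) hc1 ≫ G.t := by
      rw [i_comp_s, cmp_t, pbρ_t', hr't, Category.assoc, hv]
      simp only [Category.assoc]
    let φ : M ⟶ G.R := cmp G ((va ≫ v1) ≫ G.i) (cmp G (r' ≫ pbρ G u) (vb ≫ v1) hc1) hc2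
    have hφ : φ ≫ L = pullback.fst n L' ≫ m := by
      apply pullback.hom_ext
      · rw [Category.assoc, pullback.lift_fst, Category.assoc, pullback.lift_fst, cmp_t, i_comp_t]
        simp only [va, w, Category.assoc]
      · rw [Category.assoc, pullback.lift_snd, Category.assoc, pullback.lift_snd, cmp_s, cmp_s]
        simp only [vb, w, Category.assoc]
    have : Surjective (φ ≫ L) := by rw [hφ]; infer_instance
    exact (Surjective.of_comp φ L).surj
  · let L := pullback.lift G.t G.s hcond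
    have hLm : Mono L := ⟨fun a b h => arrows_ext a b
      (by rw [← pullback.lift_fst G.t G.s hcond, ← Category.assoc, h, Category.assoc])
      (by rw [← pullback.lift_snd G.t G.s hcond, ← Category.assoc, h, Category.assoc])⟩
    have : Mono G'.j := mono_pbGrpd_j G u
    let VV := pullback (v2 ≫ q) (v2 ≫ q)
    let m : VV ⟶ pullback p p := pullback.map _ _ p p w w (𝟙 _) (by rw [Category.comp_id, hwp]) (by rw [Category.comp_id, hwp])
    have : Surjective m := MorphismProperty.pullbackMap (P := @Surjective) hwS hwS hwp.symm hwp.symm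
    have : Flat m := MorphismProperty.pullbackMap (P := @Flat) hwFl hwFl hwp.symm hwp.symm
    have : QuasiCompact m := MorphismProperty.pullbackMap (P := @QuasiCompact) inferInstance inferInstance hwp.symm hwp.symm
    let va : VV ⟶ V := pullback.fst _ _
    let vb : VV ⟶ V := pullback.snd _ _
    have sq : IsPullback (pbT G u) (pbS G u) q q := isPullback_arrows (G := G') hb
    obtain ⟨r', hr't, hr's⟩ : ∃ r' : VV ⟶ pbR G u, r' ≫ pbT G u = va ≫ v2 ∧ r' ≫ pbS G u = vb ≫ v2 := by
      refine ⟨sq.lift (va ≫ v2) (vb ≫ v2) ?_, sq.lift_fst _ _ _, sq.lift_snd _ _ _⟩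
      rw [Category.assoc, Category.assoc]; exact pullback.condition
    have hc1 : (r' ≫ pbρ G u) ≫ G.s = (vb ≫ v1) ≫ G.t := by
      rw [pbρ_s', hr's, Category.assoc, ← hv, Category.assoc]
    have hc2 : ((va ≫ v1) ≫ G.i) ≫ G.s = cmp G (r' ≫ pbρ G u) (vb ≫ v1) hc1 ≫ G.t := by
      rw [i_comp_s, cmp_t, pbρ_t', hr't, Category.assoc, hv, Category.assoc]
    let φ : VV ⟶ G.R := cmp G ((va ≫ v1) ≫ G.i) (cmp G (r' ≫ pbρ G u) (vb ≫ v1) hc1) hc2
    have hφ : φ ≫ L = m := by
      apply pullback.hom_ext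
      · rw [Category.assoc, pullback.lift_fst, pullback.lift_fst, cmp_t, i_comp_t]
        simp only [va, w, Category.assoc]
      · rw [Category.assoc, pullback.lift_snd, pullback.lift_snd, cmp_s, cmp_s]
        simp only [vb, w, Category.assoc]
    let ψ : pullback p p ⟶ G.R := EffectiveEpi.desc m φ fun a b hab => by
      rw [← cancel_mono L, Category.assoc, hφ, hab, Category.assoc, hφ]
    have hψ : ψ ≫ L = 𝟙 _ := by
      rw [← cancel_epi m, ← Category.assoc, EffectiveEpi.fac, hφ, Category.comp_id]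
    have : IsSplitEpi L := IsSplitEpi.mk' ⟨ψ, hψ⟩
    have : IsIso L := isIso_of_mono_of_isSplitEpi L
    exact .of_iso_pullback ⟨hcond⟩ (asIso L) (pullback.lift_fst _ _ _) (pullback.lift_snd _ _ _)
  · have : Mono G'.j := mono_pbGrpd_j G u
    have : Flat q := (finLocFree_proj (G := G') hb).2.1
    have : Flat v2 := MorphismProperty.pullback_snd (P := @Flat) _ _ ht
    have hflat : Flat (w ≫ p) := by rw [hwp]; infer_instance
    refine (Flat.iff_flat_stalkMap p).2 fun x => ?_
    obtain ⟨v, rfl⟩ := hwS.surj x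
    exact (Desc19b.flat_stalkMap_comp_iff w p v ((Flat.iff_flat_stalkMap w).1 inferInstance v)).1
      ((Flat.iff_flat_stalkMap (w ≫ p)).1 hflat v)

end Groth.Agent.GrpdLib
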