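import Groth.Agent.GrpdLib.Coequalizer
import Mathlib.RingTheory.Adjoin.Tower
import Mathlib.AlgebraicGeometry.Morphisms.FiniteType

/-!
# Quotients by finite locally free groupoids are of finite type (Artin–Tate)
-/

set_option autoImplicit false
set_option backward.isDefEq.respectTransparency false
set_option linter.style.haveILetI false

universe u

open CategoryTheory CategoryTheory.Limits AlgebraicGeometry

namespace Groth.Agent.GrpdLib

theorem finiteType_of_integral_injective {A B C : Type u} [CommRing A] [IsNoetherianRing A] [CommRing B]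
    [CommRing C] (f : A →+* B) (φ : B →+* C) (hφ : Function.Injective φ) (hint : φ.IsIntegral)
    (hC : (φ.comp f).FiniteType) : f.FiniteType := by
  letI := f.toAlgebra
  letI := φ.toAlgebra
  letI := (φ.comp f).toAlgebra
  haveI : IsScalarTower A B C := IsScalarTower.of_algebraMap_eq' rfl
  haveI : Algebra.FiniteType A C := hC
  haveI : Algebra.FiniteType B C := Algebra.FiniteType.of_restrictScalars_finiteType A B C
  haveI : Algebra.IsIntegral B C := ⟨hint⟩
  haveI : Module.Finite B C := Algebra.IsIntegral.finite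
  exact ⟨fg_of_fg_of_fg A B C hC.out Module.Finite.fg_top hφ⟩

theorem lft_of_integral_injective {S : Scheme.{u}} [IsLocallyNoetherian S] {B C : CommRingCat.{u}}
    (φ : B ⟶ C) (hφ : Function.Injective φ.hom) (hint : φ.hom.IsIntegral) (π : Spec B ⟶ S)
    [LocallyOfFiniteType (Spec.map φ ≫ π)] : LocallyOfFiniteType π := by
  haveI : LocallyOfFiniteType (Spec.map φ) := locallyOfFiniteType_of_comp (Spec.map φ) π
  have hfin : φ.hom.Finite := RingHom.finite_iff_isIntegral_and_finiteType.2
    ⟨hint, (HasRingHomProperty.Spec_iff (P := @LocallyOfFiniteType)).1 inferInstance⟩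
  have key : ∀ b : Spec B, ∃ g : B, b ∈ PrimeSpectrum.basicOpen g ∧
      LocallyOfFiniteType (Spec.map (CommRingCat.ofHom (algebraMap B (Localization.Away g))) ≫ π) := by
    intro b
    obtain ⟨V, hV, hbV, -⟩ := exists_isAffineOpen_mem_and_subset (x := π b) (U := ⊤) (Set.mem_univ _)
    obtain ⟨_, ⟨g, rfl⟩, hbg, hgV⟩ := PrimeSpectrum.isTopologicalBasis_basic_opens.exists_subset_of_mem_open
      (show b ∈ (π ⁻¹ᵁ V : Set (Spec B)) from hbV) (π ⁻¹ᵁ V).isOpen
    refine ⟨g, hbg, ?_⟩
    let D := Localization.Away g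
    let C' := Localization.Away (φ.hom g)
    let j : Spec (CommRingCat.of D) ⟶ Spec B := Spec.map (CommRingCat.ofHom (algebraMap B D))
    let j' : Spec (CommRingCat.of C') ⟶ Spec C := Spec.map (CommRingCat.ofHom (algebraMap C C'))
    haveI : IsOpenImmersion j' := IsOpenImmersion.of_isLocalization (φ.hom g)
    let φg : D →+* C' := IsLocalization.Away.map D C' φ.hom g
    have hφg : φg.Finite := RingHom.finite_localizationPreserves.away φ.hom g D C' hfin
    haveI : IsLocalization ((Submonoid.powers g).map φ.hom) C' := by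
      rw [Submonoid.map_powers]; infer_instance
    have hinj : Function.Injective φg :=
      IsLocalization.map_injective_of_injective (Submonoid.powers g) D C' hφ
    have hr : Set.range (j ≫ π) ⊆ Set.range hV.fromSpec := by
      rw [hV.range_fromSpec]
      rintro _ ⟨y, rfl⟩
      refine hgV ?_
      show j y ∈ (PrimeSpectrum.basicOpen g : Set (PrimeSpectrum B))
      rw [← PrimeSpectrum.localization_away_comap_range D g]
      exact ⟨y, rfl⟩
    let ρ := IsOpenImmersion.lift hV.fromSpec (j ≫ π) hr
    have hρ : ρ ≫ hV.fromSpec = j ≫ π := IsOpenImmersion.lift_fac _ _ _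
    obtain ⟨f, hf⟩ : ∃ f : Γ(S, V) ⟶ CommRingCat.of D, Spec.map f = ρ := ⟨Spec.preimage ρ, Spec.map_preimage ρ⟩
    have hsq : Spec.map (CommRingCat.ofHom φg) ≫ j = j' ≫ Spec.map φ := by
      rw [← Spec.map_comp, ← Spec.map_comp]
      congr 1
      refine CommRingCat.hom_ext (RingHom.ext fun x => ?_)
      show φg (algebraMap B D x) = algebraMap C C' (φ.hom x)
      exact IsLocalization.map_eq (S := D) (Q := C') (M := Submonoid.powers g) _ x
    haveI : LocallyOfFiniteType (Spec.map (f ≫ CommRingCat.ofHom φg) ≫ hV.fromSpec) := by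
      rw [Spec.map_comp, hf, Category.assoc, hρ, ← Category.assoc, hsq, Category.assoc]
      infer_instance
    haveI : LocallyOfFiniteType (Spec.map (f ≫ CommRingCat.ofHom φg)) :=
      locallyOfFiniteType_of_comp _ hV.fromSpec
    haveI : IsNoetherianRing Γ(S, V) := IsLocallyNoetherian.component_noetherian ⟨V, hV⟩
    have h1 : (φg.comp f.hom).FiniteType :=
      (HasRingHomProperty.Spec_iff (P := @LocallyOfFiniteType)).1
        (locallyOfFiniteType_of_comp (Spec.map (f ≫ CommRingCat.ofHom φg)) hV.fromSpec)
    have h2 := finiteType_of_integral_injective f.hom φg hinj hφg.to_isIntegral h1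
    haveI : LocallyOfFiniteType ρ := hf ▸ (HasRingHomProperty.Spec_iff (P := @LocallyOfFiniteType)).2 h2
    show LocallyOfFiniteType (j ≫ π)
    rw [← hρ]
    infer_instance
  choose g hbg hg using key
  haveI : ∀ b, IsOpenImmersion (Spec.map (CommRingCat.ofHom (algebraMap B (Localization.Away (g b))))) :=
    fun b => IsOpenImmersion.of_isLocalization (g b)
  let 𝒰 : (Spec B).OpenCover := Scheme.openCoverOfIsOpenCover _ (fun b => PrimeSpectrum.basicOpen (g b))
    (TopologicalSpace.Opens.ext (Set.eq_univ_of_forall fun b => TopologicalSpace.Opens.mem_iSup.2 ⟨b, hbg b⟩))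
  refine IsZariskiLocalAtSource.of_openCover (P := @LocallyOfFiniteType) 𝒰 fun b => ?_
  let j := Spec.map (CommRingCat.ofHom (algebraMap B (Localization.Away (g b))))
  have hj : Set.range (Scheme.Opens.ι (PrimeSpectrum.basicOpen (g b) : (Spec B).Opens)) = Set.range j := by
    rw [Scheme.Opens.range_ι]
    exact (PrimeSpectrum.localization_away_comap_range (Localization.Away (g b)) (g b)).symm
  show LocallyOfFiniteType (Scheme.Opens.ι (PrimeSpectrum.basicOpen (g b) : (Spec B).Opens) ≫ π)
  haveI : LocallyOfFiniteType (j ≫ π) := hg b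
  rw [← IsOpenImmersion.isoOfRangeEq_hom_fac _ j hj, Category.assoc]
  infer_instance

variable {S : Scheme.{u}} {G : Grpd.GroupoidScheme S} [IsFinite G.s] [Flat G.s]
  [LocallyOfFinitePresentation G.s] (hb : OrbitsInAffines G)

theorem lft_of_proj {T : Scheme.{u}} [IsLocallyNoetherian T] (π : Quot G ⟶ T)
    [LocallyOfFiniteType (proj hb ≫ π)] : LocallyOfFiniteType π := by
  refine IsZariskiLocalAtSource.of_openCover (P := @LocallyOfFiniteType)
    (Scheme.IsLocallyDirected.openCover (quotDiagram G)) fun (i : InvOpen G) => ?_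
  show LocallyOfFiniteType (i.toY ≫ π)
  haveI : IsAffine i.grpd.U := i.aff
  haveI : IsIntegralHom (Spec.map (CommRingCat.ofHom i.grpd.invariants.subtype)) := by
    have h : IsIntegralHom i.q := isIntegralHom_toQuot i.grpd
    have e : Spec.map (CommRingCat.ofHom i.grpd.invariants.subtype) = inv i.grpd.U.toSpecΓ ≫ i.q := by
      rw [InvOpen.q, Grpd.GroupoidScheme.toQuot, IsIso.inv_hom_id_assoc]
    rw [e]
    infer_instance
  haveI : LocallyOfFiniteType
      (Spec.map (CommRingCat.ofHom i.grpd.invariants.subtype) ≫ i.toY ≫ π) := by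
    have e : Spec.map (CommRingCat.ofHom i.grpd.invariants.subtype) ≫ i.toY ≫ π =
        inv i.grpd.U.toSpecΓ ≫ i.W.ι ≫ proj hb ≫ π := by
      rw [← Category.assoc i.W.ι, ι_proj hb i, InvOpen.q, Grpd.GroupoidScheme.toQuot, Category.assoc,
        Category.assoc, IsIso.inv_hom_id_assoc]
    rw [e]
    infer_instance
  exact lft_of_integral_injective (CommRingCat.ofHom i.grpd.invariants.subtype) Subtype.val_injective
    (IsIntegralHom.SpecMap_iff.1 inferInstance) (i.toY ≫ π)

end Groth.Agent.GrpdLib
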