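import Groth.Agent.GrpdLib.Rank
import Groth.Agent.GrpdLib.BaseChange
import Mathlib.RingTheory.Flat.LocallyFree
import Mathlib.RingTheory.Flat.Localization
import Mathlib.RingTheory.Localization.AtPrime.Basic
import Mathlib.RingTheory.Polynomial.Quotient
import Mathlib.RingTheory.Nakayama
import Mathlib.LinearAlgebra.Dimension.StrongRankCondition
import Mathlib.LinearAlgebra.TensorProduct.Quotient
import Mathlib.RingTheory.Finiteness.Descent
import Mathlib.RingTheory.Finiteness.ModuleFinitePresentation
import Mathlib.RingTheory.Flat.FaithfullyFlat.Algebra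

/-!
# Quotient of an affine finite locally free equivalence relation

For an affine groupoid whose source is finite locally free and whose targets generate the arrows over the source,
the objects are finite locally free over the invariants and `A ⊗ A ≅ B`.
-/

set_option autoImplicit false

universe u v

open TensorProduct

namespace Groth.Agent.GrpdLib

set_option maxHeartbeats 400000

/-- Polynomials with coefficients in `C` detect the generic point of a prime of `A`, for `A` integral over `C`. -/
theorem poly_prime_eq {C A : Type u} {σ : Type v} [CommRing C] [CommRing A] [Algebra C A] [Algebra.IsIntegral C A]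
    (q : Ideal A) [q.IsPrime] (Q : Ideal (MvPolynomial σ A)) [Q.IsPrime]
    (hle : RingHom.ker (MvPolynomial.map (Ideal.Quotient.mk q)) ≤ Q)
    (hcomap : ∀ f : MvPolynomial σ C, MvPolynomial.map (algebraMap C A) f ∈ Q →
      MvPolynomial.map (algebraMap C A) f ∈ RingHom.ker (MvPolynomial.map (Ideal.Quotient.mk q))) :
    Q = RingHom.ker (MvPolynomial.map (Ideal.Quotient.mk q)) := by
  let _ : Algebra (MvPolynomial σ C) (MvPolynomial σ A) := (MvPolynomial.map (algebraMap C A)).toAlgebra
  refine le_antisymm (fun x hx => by_contra fun hx' => ?_) hle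
  have hint : IsIntegral (MvPolynomial σ C) x := by
    clear hx hx'
    induction x using MvPolynomial.induction_on with
    | C a =>
      refine (Algebra.IsIntegral.isIntegral (R := C) a).map_of_comp_eq (MvPolynomial.C (σ := σ)) (MvPolynomial.C (σ := σ)) ?_
      exact RingHom.ext fun c => MvPolynomial.map_C (algebraMap C A) c
    | add a b ha hb => exact ha.add hb
    | mul_X a n ha =>
      refine ha.mul ?_
      rw [← MvPolynomial.map_X (algebraMap C A) n]
      exact isIntegral_algebraMap
  have := RingHom.ker_isPrime (MvPolynomial.map (σ := σ) (Ideal.Quotient.mk q))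
  refine (Ideal.comap_lt_comap_of_integral_mem_sdiff hle ⟨hx, hx'⟩ hint).ne ?_
  refine le_antisymm (Ideal.comap_mono hle) hcomap

namespace RingGrpd

variable {A B : Type u} [CommRing A] [CommRing B] (G : RingGrpd A B) (D : Type u) [CommRing D]
  [Algebra G.invariants D]

attribute [local instance] Algebra.TensorProduct.rightAlgebra

/-- The inclusion of arrows in their base change, seen over the source. -/
noncomputable def inS : G.SB →+* (G.baseChange D).SB := G.inB D

/-- The source of the base change, seen over the source. -/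
noncomputable def sS : G.BA D →+* (G.baseChange D).SB := algebraMap (G.BA D) (G.baseChange D).SB

/-- `B` pulled back to the base changed objects. -/
noncomputable def srcMap : G.BA D ⊗[A] G.SB →+* (G.baseChange D).SB :=
  liftRing (L := G.BA D) (M := G.SB) (G.sS D) (G.inS D) (RingHom.ext fun _ => rfl)

/-- The inverse of `srcMap`. -/
noncomputable def srcInv : (G.baseChange D).SB →+* G.BA D ⊗[A] G.SB :=
  liftRing (L := D) (M := G.SB)
    ((Algebra.TensorProduct.includeLeftRingHom (R := A) (A := G.BA D) (B := G.SB)).comp
      (Algebra.TensorProduct.includeLeftRingHom (R := G.invariants) (A := D) (B := A)))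
    (Algebra.TensorProduct.includeRight : G.SB →ₐ[A] G.BA D ⊗[A] G.SB).toRingHom
    (RingHom.ext fun c => by
      show (1 : G.BA D) ⊗ₜ[A] algebraMap A G.SB (c : A) = (algebraMap G.invariants D c ⊗ₜ[G.invariants] (1 : A)) ⊗ₜ[A] (1 : G.SB)
      rw [Algebra.algebraMap_eq_smul_one, ← smul_tmul, ← Algebra.algebraMap_eq_smul_one]
      congr 1
      show (1 : D) ⊗ₜ[G.invariants] (c : A) = _
      rw [Algebra.algebraMap_eq_smul_one, smul_tmul]
      exact congrArg _ (mul_one (c : A)).symm)

theorem srcMap_tmul (x : G.BA D) (b : G.SB) :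
    G.srcMap D (x ⊗ₜ[A] b) = G.sS D x * G.inS D b :=
  liftRing_tmul (L := G.BA D) (M := G.SB) _ _ _ x b

theorem srcInv_tmul (d : D) (b : G.SB) :
    G.srcInv D ((d ⊗ₜ[G.invariants] b : G.BB D)) = ((d ⊗ₜ[G.invariants] (1 : A)) ⊗ₜ[A] b) :=
  (liftRing_tmul (L := D) (M := G.SB) _ _ _ d b).trans (by simp)

/-- The base changed arrows are the pullback of the arrows along the source. -/
noncomputable def srcEquiv : G.BA D ⊗[A] G.SB ≃ₗ[G.BA D] (G.baseChange D).SB :=
  { G.srcMap D with
    invFun := G.srcInv D
    map_smul' := fun r z => by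
      show G.srcMap D (r • z) = r • G.srcMap D z
      induction z using TensorProduct.induction_on with
      | zero => simp
      | add x y hx hy => simp only [smul_add, map_add, hx, hy]
      | tmul x b =>
        rw [TensorProduct.smul_tmul', srcMap_tmul, srcMap_tmul, smul_eq_mul, map_mul, Algebra.smul_def, mul_assoc]
        rfl
    left_inv := fun z => by
      show G.srcInv D (G.srcMap D z) = z
      refine RingHom.congr_fun (f := (G.srcInv D).comp (G.srcMap D)) (g := RingHom.id _)
        (tensor_ringHom_ext (fun x => ?_) fun b => ?_) z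
      · refine RingHom.congr_fun (f := ((G.srcInv D).comp (G.srcMap D)).comp
          (Algebra.TensorProduct.includeLeftRingHom (R := A) (A := G.BA D) (B := G.SB)))
          (g := Algebra.TensorProduct.includeLeftRingHom) (tensor_ringHom_ext (fun d => ?_) fun a => ?_) x
        · show G.srcInv D (G.srcMap D ((d ⊗ₜ[G.invariants] (1 : A)) ⊗ₜ[A] (1 : G.SB))) = _
          rw [srcMap_tmul, map_one, mul_one]
          refine (G.srcInv_tmul D d (G.sAlg 1)).trans ?_
          rw [map_one]
          rfl
        · show G.srcInv D (G.srcMap D (((1 : D) ⊗ₜ[G.invariants] a) ⊗ₜ[A] (1 : G.SB))) = _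
          rw [srcMap_tmul, map_one, mul_one]
          refine (G.srcInv_tmul D 1 (algebraMap A G.SB a)).trans ?_
          rw [Algebra.algebraMap_eq_smul_one, ← smul_tmul, ← Algebra.TensorProduct.one_def, ← Algebra.algebraMap_eq_smul_one]
          rfl
      · show G.srcInv D (G.srcMap D ((1 : G.BA D) ⊗ₜ[A] b)) = _
        rw [srcMap_tmul, map_one, one_mul]
        exact G.srcInv_tmul D 1 b
    right_inv := fun z => by
      show G.srcMap D (G.srcInv D z) = z
      refine RingHom.congr_fun (f := (G.srcMap D).comp (G.srcInv D)) (g := RingHom.id _)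
        (tensor_ringHom_ext (L := D) (M := G.SB) (fun d => ?_) fun b => ?_) z
      · show G.srcMap D (G.srcInv D ((d ⊗ₜ[G.invariants] (1 : G.SB) : G.BB D))) = _
        rw [srcInv_tmul, srcMap_tmul]
        refine (congrArg _ (map_one (G.inS D))).trans ((mul_one _).trans ?_)
        exact congrArg (fun t => d ⊗ₜ[G.invariants] t) (map_one G.sAlg)
      · show G.srcMap D (G.srcInv D (((1 : D) ⊗ₜ[G.invariants] b : G.BB D))) = _
        rw [srcInv_tmul, srcMap_tmul]
        exact (congrArg (fun t => t * _) (map_one (G.sS D))).trans (one_mul _) }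

theorem inS_smul (a : A) (b : G.SB) :
    G.inS D (a • b) = ((1 : D) ⊗ₜ[G.invariants] a : G.BA D) • (G.inS D b) := by
  rw [Algebra.smul_def, Algebra.smul_def]
  exact map_mul (G.inS D) (algebraMap A G.SB a) b

/-- The image of a target among the base changed arrows. -/
noncomputable def T0 (a : A) : (G.baseChange D).SB := (G.baseChange D).tSB ((1 : D) ⊗ₜ[G.invariants] a)

theorem inS_tSB (a : A) : G.inS D (G.tSB a) = G.T0 D a := rfl

theorem tSB_tmul (d : D) (a : A) :
    (G.baseChange D).tSB (d ⊗ₜ[G.invariants] a) = (d ⊗ₜ[G.invariants] (1 : A) : G.BA D) • G.T0 D a := by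
  refine Eq.trans ?_ (Algebra.smul_def (R := G.BA D) (A := (G.baseChange D).SB) _ (G.T0 D a)).symm
  show G.bmap D G.tAlg (d ⊗ₜ a) = G.bmap D G.sAlg (d ⊗ₜ 1) * G.bmap D G.tAlg (1 ⊗ₜ a)
  rw [bmap_tmul, bmap_tmul, bmap_tmul, Algebra.TensorProduct.tmul_mul_tmul, mul_one, map_one, one_mul]

theorem span_T0_eq_top {N : ℕ} (a : Fin N → A) (ha : Submodule.span A (Set.range fun j => G.tSB (a j)) = ⊤) :
    Submodule.span (G.BA D) (Set.range fun j => G.T0 D (a j)) = ⊤ := by
  set S := Submodule.span (G.BA D) (Set.range fun j => G.T0 D (a j))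
  have h1 : ∀ b : G.SB, (G.inS D b) ∈ S := fun b => by
    have hb : b ∈ Submodule.span A (Set.range fun j => G.tSB (a j)) := ha ▸ Submodule.mem_top
    induction hb using Submodule.span_induction with
    | mem x hx => obtain ⟨j, rfl⟩ := hx; exact Submodule.subset_span ⟨j, rfl⟩
    | zero => simp
    | add x y _ _ hx hy => rw [map_add]; exact S.add_mem hx hy
    | smul r x _ hx => rw [inS_smul]; exact S.smul_mem _ hx
  refine _root_.eq_top_iff.2 fun z _ => ?_
  obtain ⟨w, rfl⟩ := (G.srcEquiv D).surjective z
  induction w using TensorProduct.induction_on with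
  | zero => simp
  | add x y hx hy => rw [map_add]; exact S.add_mem (hx Submodule.mem_top) (hy Submodule.mem_top)
  | tmul x b =>
    refine (congrArg (· ∈ S) (G.srcMap_tmul D x b)).mpr ?_
    exact (congrArg (· ∈ S) (Algebra.smul_def (R := G.BA D) (A := (G.baseChange D).SB) x (G.inS D b))).mp (S.smul_mem x (h1 b))

theorem finite_baseChange [Module.Finite A G.SB] : Module.Finite (G.BA D) (G.baseChange D).SB :=
  Module.Finite.equiv (G.srcEquiv D)

theorem flat_baseChange [Module.Flat A G.SB] : Module.Flat (G.BA D) (G.baseChange D).SB :=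
  Module.Flat.of_linearEquiv (G.srcEquiv D).symm

theorem rankAtStalk_baseChange_eq [Module.Finite A G.SB] [Module.Flat A G.SB] (Q : PrimeSpectrum (G.BA D)) :
    Module.rankAtStalk (R := G.BA D) (G.baseChange D).SB Q =
      Module.rankAtStalk (R := A) G.SB (Q.comap (algebraMap A (G.BA D))) := by
  rw [← Module.rankAtStalk_eq_of_equiv (G.srcEquiv D), Module.rankAtStalk_baseChange]

end RingGrpd

end Groth.Agent.GrpdLib
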