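import Groth.Agent.GrpdLib.QuotientLocal

/-!
# The finite flat quotient of an affine equivalence relation, globally
-/

set_option autoImplicit false

universe u

open TensorProduct

namespace Groth.Agent.GrpdLib

set_option maxHeartbeats 800000

/-- A module killed by enough flat base changes is zero. -/
theorem subsingleton_of_forall_flat {C M : Type u} [CommRing C] [AddCommGroup M] [Module C M]
    (h : ∀ p : Ideal C, p.IsMaximal → ∃ (D : Type u) (_ : CommRing D) (_ : Algebra C D),
      Module.Flat C D ∧ p.map (algebraMap C D) ≠ ⊤ ∧ Subsingleton (D ⊗[C] M)) : Subsingleton M := by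
  by_contra hM
  obtain ⟨m, hm⟩ : ∃ m : M, m ≠ 0 := by
    by_contra hall
    push Not at hall
    exact hM ⟨fun a b => by rw [hall a, hall b]⟩
  set J : Ideal C := LinearMap.ker (LinearMap.toSpanSingleton C M m)
  obtain ⟨p, hp, hle⟩ := J.exists_le_maximal fun hJ => hm (by
    have h1 : (1 : C) ∈ J := hJ.symm ▸ Submodule.mem_top
    simpa [J] using h1)
  obtain ⟨D, _, _, hflat, hne, hsub⟩ := h p hp
  let f : C ⧸ J →ₗ[C] M := Submodule.liftQ J (LinearMap.toSpanSingleton C M m) le_rfl
  have hf : Function.Injective f := LinearMap.ker_eq_bot.1 (Submodule.ker_liftQ_eq_bot _ _ _ le_rfl)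
  have hsub' : Subsingleton (D ⊗[C] (C ⧸ J)) :=
    (Module.Flat.lTensor_preserves_injective_linearMap (M := D) f hf).subsingleton
  let g : D ⊗[C] (C ⧸ J) →+* D ⧸ p.map (algebraMap C D) :=
    liftRing (L := D) (M := C ⧸ J) (Ideal.Quotient.mk _)
      (Ideal.Quotient.lift J ((Ideal.Quotient.mk _).comp (algebraMap C D)) fun c hc =>
        Ideal.Quotient.eq_zero_iff_mem.2 (Ideal.mem_map_of_mem _ (hle hc)))
      (RingHom.ext fun c => rfl)
  have : Nontrivial (D ⧸ p.map (algebraMap C D)) := Ideal.Quotient.nontrivial_iff.2 hne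
  have := RingHom.domain_nontrivial g
  exact not_subsingleton _ hsub'

/-- A linear map which becomes bijective after enough flat base changes is bijective. -/
theorem bijective_of_forall_flat {C M N : Type u} [CommRing C] [AddCommGroup M] [Module C M] [AddCommGroup N]
    [Module C N] (f : M →ₗ[C] N)
    (h : ∀ p : Ideal C, p.IsMaximal → ∃ (D : Type u) (_ : CommRing D) (_ : Algebra C D),
      Module.Flat C D ∧ p.map (algebraMap C D) ≠ ⊤ ∧ Function.Bijective (f.lTensor D)) : Function.Bijective f := by
  constructor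
  · rw [← LinearMap.ker_eq_bot, ← Submodule.subsingleton_iff_eq_bot]
    refine subsingleton_of_forall_flat (C := C) (M := LinearMap.ker f) fun p hp => ?_
    obtain ⟨D, _, _, hflat, hne, hbij⟩ := h p hp
    refine ⟨D, _, _, hflat, hne, ⟨fun x y => ?_⟩⟩
    refine Module.Flat.lTensor_preserves_injective_linearMap (M := D) (LinearMap.ker f).subtype Subtype.val_injective (hbij.1 ?_)
    rw [← LinearMap.comp_apply, ← LinearMap.comp_apply, ← LinearMap.lTensor_comp, LinearMap.comp_ker_subtype,
      LinearMap.lTensor_zero]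
    rfl
  · rw [← LinearMap.range_eq_top, ← Submodule.Quotient.subsingleton_iff]
    refine subsingleton_of_forall_flat (C := C) (M := N ⧸ LinearMap.range f) fun p hp => ?_
    obtain ⟨D, _, _, hflat, hne, hbij⟩ := h p hp
    refine ⟨D, _, _, hflat, hne, ⟨fun x y => ?_⟩⟩
    have key : ∀ z : D ⊗[C] (N ⧸ LinearMap.range f), z = 0 := fun z => by
      obtain ⟨w, rfl⟩ := LinearMap.lTensor_surjective D (Submodule.mkQ_surjective (LinearMap.range f)) z
      obtain ⟨v, rfl⟩ := hbij.2 w
      rw [← LinearMap.comp_apply, ← LinearMap.lTensor_comp, LinearMap.range_mkQ_comp, LinearMap.lTensor_zero]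
      rfl
    rw [key x, key y]

namespace RingGrpd

variable {A B : Type u} [CommRing A] [CommRing B] (G : RingGrpd A B)

/-- The comparison `A ⊗ A → B`, `a ⊗ a' ↦ t a * s a'`. -/
noncomputable def pairMap : A ⊗[G.invariants] A →ₐ[G.invariants] G.SB :=
  Algebra.TensorProduct.lift G.tAlg G.sAlg fun _ _ => .all ..

theorem pairMap_tmul (a a' : A) : G.pairMap (a ⊗ₜ[G.invariants] a') = G.tSB a * algebraMap A G.SB a' :=
  Algebra.TensorProduct.lift_tmul _ _ _ a a'

variable {D : Type u} [CommRing D] [Algebra G.invariants D]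

/-- A base change in which generic targets form a basis. -/
theorem good_of_basis [Module.Flat G.invariants D] {r : ℕ} (y : Fin r → G.BA D)
    (b : Module.Basis (Fin r) (G.BA D) (G.baseChange D).SB) (hb : ∀ i, b i = (G.baseChange D).tSB (y i)) :
    (∃ b' : Module.Basis (Fin r) D (G.BA D), ∀ i, b' i = y i) ∧
      Function.Bijective (G.pairMap.toLinearMap.lTensor D) := by
  obtain ⟨b₀, hb₀⟩ := (G.baseChange D).exists_basis_invariants y b hb
  let e : D ≃+* (G.baseChange D).invariants := RingEquiv.ofBijective
    ((Algebra.TensorProduct.includeLeftRingHom : D →+* G.BA D).codRestrict (G.baseChange D).invariants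
      fun d => (G.mem_invariants_baseChange_iff D _).2 ⟨d, rfl⟩)
    ⟨fun d d' h => G.injective_tmul_one D (congrArg Subtype.val h),
      fun z => by
        obtain ⟨d, hd⟩ := (G.mem_invariants_baseChange_iff D z.1).1 z.2
        exact ⟨d, Subtype.ext hd⟩⟩
  have he : ∀ (c : (G.baseChange D).invariants) (x : G.BA D), e.symm c • x = c • x := fun c x => by
    conv_rhs => rw [← e.apply_symm_apply c]
    rw [Algebra.smul_def]
    rfl
  let b' : Module.Basis (Fin r) D (G.BA D) := b₀.mapCoeffs e.symm he
  have hb' : ∀ i, b' i = y i := fun i => (Module.Basis.mapCoeffs_apply ..).trans (hb₀ i)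
  refine ⟨⟨b', hb'⟩, ?_⟩
  let θ := Algebra.TensorProduct.map (AlgHom.id D D) G.pairMap
  let L : G.BA D →+* D ⊗[G.invariants] (A ⊗[G.invariants] A) :=
    G.bmap D (Algebra.TensorProduct.includeLeft : A →ₐ[G.invariants] A ⊗[G.invariants] A)
  let J : G.BA D →+* D ⊗[G.invariants] (A ⊗[G.invariants] A) :=
    G.bmap D (Algebra.TensorProduct.includeRight : A →ₐ[G.invariants] A ⊗[G.invariants] A)
  let ρ : (Fin r → G.BA D) → D ⊗[G.invariants] (A ⊗[G.invariants] A) := fun α => ∑ i, L (y i) * J (α i)
  have hρ : Function.Surjective ρ := by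
    intro z
    induction z using TensorProduct.induction_on with
    | zero => exact ⟨0, by simp [ρ]⟩
    | add x x' hx hx' =>
      obtain ⟨α, rfl⟩ := hx
      obtain ⟨α', rfl⟩ := hx'
      exact ⟨α + α', by simp [ρ, mul_add, Finset.sum_add_distrib]⟩
    | tmul d w =>
      induction w using TensorProduct.induction_on with
      | zero => exact ⟨0, by simp [ρ]⟩
      | add w w' hw hw' =>
        obtain ⟨α, hα⟩ := hw
        obtain ⟨α', hα'⟩ := hw'
        exact ⟨α + α', by rw [TensorProduct.tmul_add, ← hα, ← hα']; simp [ρ, mul_add, Finset.sum_add_distrib]⟩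
      | tmul a a' =>
        refine ⟨fun i => ((b'.repr (d ⊗ₜ[G.invariants] a) i) ⊗ₜ[G.invariants] (1 : A)) *
          ((1 : D) ⊗ₜ[G.invariants] a'), ?_⟩
        have hL : L (d ⊗ₜ[G.invariants] a) = ∑ i, L (y i) * J ((b'.repr (d ⊗ₜ[G.invariants] a) i) ⊗ₜ (1 : A)) := by
          conv_lhs => rw [← b'.sum_repr (d ⊗ₜ[G.invariants] a), map_sum]
          refine Finset.sum_congr rfl fun i _ => ?_
          rw [hb', Algebra.smul_def, map_mul, mul_comm]
          rfl
        simp only [ρ, map_mul, ← mul_assoc, ← Finset.sum_mul, ← hL]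
        show G.bmap D _ (d ⊗ₜ a) * G.bmap D _ (1 ⊗ₜ a') = _
        rw [bmap_tmul, bmap_tmul, Algebra.TensorProduct.tmul_mul_tmul, mul_one]
        simp
  have hθρ : ∀ α, θ (ρ α) = (b.equivFun.symm α : (G.baseChange D).SB) := fun α => by
    have hL' : ∀ x, θ (L x) = (G.baseChange D).tSB x := fun x => by
      refine RingHom.congr_fun (f := (θ : _ →+* G.BB D).comp L) (g := ((G.baseChange D).tSB : G.BA D →+* G.BB D))
        (tensor_ringHom_ext (fun d => ?_) fun a => ?_) x
      · show d ⊗ₜ[G.invariants] G.pairMap ((1 : A) ⊗ₜ (1 : A)) = d ⊗ₜ[G.invariants] G.tAlg 1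
        rw [map_one, ← Algebra.TensorProduct.one_def, map_one]
      · show (1 : D) ⊗ₜ[G.invariants] G.pairMap (a ⊗ₜ (1 : A)) = (1 : D) ⊗ₜ[G.invariants] G.tAlg a
        rw [pairMap_tmul, map_one, mul_one]
        rfl
    have hJ' : ∀ x, θ (J x) = algebraMap (G.BA D) (G.baseChange D).SB x := fun x => by
      refine RingHom.congr_fun (f := (θ : _ →+* G.BB D).comp J)
        (g := ((algebraMap (G.BA D) (G.baseChange D).SB) : G.BA D →+* G.BB D))
        (tensor_ringHom_ext (fun d => ?_) fun a => ?_) x
      · show d ⊗ₜ[G.invariants] G.pairMap ((1 : A) ⊗ₜ (1 : A)) = d ⊗ₜ[G.invariants] G.sAlg 1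
        rw [map_one, ← Algebra.TensorProduct.one_def, map_one]
      · show (1 : D) ⊗ₜ[G.invariants] G.pairMap ((1 : A) ⊗ₜ a) = (1 : D) ⊗ₜ[G.invariants] G.sAlg a
        rw [pairMap_tmul, map_one, one_mul]
        rfl
    rw [b.equivFun_symm_apply, map_sum]
    refine Finset.sum_congr rfl fun i _ => ?_
    refine (map_mul θ _ _).trans ((congrArg₂ (fun p q : G.BB D => p * q) (hL' (y i)) (hJ' (α i))).trans ?_)
    rw [hb, Algebra.smul_def]
    exact mul_comm _ _
  have hθ : Function.Bijective θ := by
    have hb2 : Function.Bijective fun α => θ (ρ α) := by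
      rw [show (fun α => θ (ρ α)) = fun α => (b.equivFun.symm α : G.BB D) from funext hθρ]
      exact b.equivFun.symm.bijective
    refine ⟨fun x x' hxx => ?_, Function.Surjective.of_comp hb2.2⟩
    obtain ⟨α, rfl⟩ := hρ x
    obtain ⟨α', rfl⟩ := hρ x'
    exact congrArg ρ (hb2.1 hxx)
  exact (congrArg Function.Bijective (funext fun z => by
    induction z using TensorProduct.induction_on with
    | zero => simp
    | add x x' hx hx' => simp only [map_add, hx, hx']
    | tmul d w => rfl : (G.pairMap.toLinearMap.lTensor D : _ → _) = θ)).mpr hθ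

/-- **Finite flat quotient of an affine equivalence relation, on rings.** -/
theorem finite_flat_quotient [Module.Finite A G.SB] [Module.Projective A G.SB] {N : ℕ} (a : Fin N → A)
    (ha : Submodule.span A (Set.range fun j => G.tSB (a j)) = ⊤) :
    Module.Finite G.invariants A ∧ Module.Flat G.invariants A ∧ Algebra.FinitePresentation G.invariants A ∧
      Function.Bijective G.pairMap := by
  classical
  obtain ⟨P⟩ := ProjPres.nonempty (A := A) (B := G.SB)
  have hint : Algebra.IsIntegral G.invariants A := G.algebraIsIntegral P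
  have key : ∀ p : Ideal G.invariants, p.IsMaximal → ∃ (D : Type u) (_ : CommRing D) (_ : Algebra G.invariants D),
      Module.Flat G.invariants D ∧ p.map (algebraMap G.invariants D) ≠ ⊤ ∧
      Module.Free D (G.BA D) ∧ Submodule.span D (Set.range fun j => (1 : D) ⊗ₜ[G.invariants] a j) = ⊤ ∧
      Function.Bijective (G.pairMap.toLinearMap.lTensor D) := by
    intro p hp
    obtain ⟨q₀, hq₀, hq₀p⟩ := Ideal.exists_ideal_over_maximal_of_isIntegral (S := A) p
      (by rw [(RingHom.injective_iff_ker_eq_bot _).1 (Subtype.val_injective :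
        Function.Injective (algebraMap G.invariants A))]; exact bot_le)
    obtain ⟨r, hr⟩ : ∃ r, ∀ (q : Ideal A) (hq : q.IsPrime), q.comap G.invariants.subtype = p →
        Module.rankAtStalk (R := A) G.SB ⟨q, hq⟩ = r :=
      ⟨Module.rankAtStalk (R := A) G.SB ⟨q₀, hq₀.isPrime⟩, fun q hq hqp =>
        G.rankAtStalk_eq_of_comap_eq P ⟨q, hq⟩ ⟨q₀, hq₀.isPrime⟩
          (PrimeSpectrum.ext (hqp.trans hq₀p.symm))⟩
    have hflat := G.flat_genRing p r N
    obtain ⟨b, hb⟩ := G.exists_generic_basis p a ha hr
    obtain ⟨⟨b', hb'⟩, hbij⟩ := G.good_of_basis (G.genElem p a) b hb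
    refine ⟨G.GenRing p r N, _, _, hflat, G.map_genRing_ne_top p r N, Module.Free.of_basis b', ?_, hbij⟩
    rw [_root_.eq_top_iff, ← b'.span_eq, Submodule.span_le]
    rintro _ ⟨i, rfl⟩
    rw [hb', SetLike.mem_coe, genElem]
    refine Submodule.sum_mem _ fun j _ => ?_
    rw [← mul_one (G.xi p (i, j)), ← smul_eq_mul, ← TensorProduct.smul_tmul']
    exact Submodule.smul_mem _ _ (Submodule.subset_span ⟨j, rfl⟩)
  have hfin : Module.Finite G.invariants A := by
    refine ⟨⟨Finset.univ.image a, ?_⟩⟩
    rw [Finset.coe_image, Finset.coe_univ, Set.image_univ, ← Submodule.Quotient.subsingleton_iff]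
    refine subsingleton_of_forall_flat (C := G.invariants)
      (M := A ⧸ Submodule.span G.invariants (Set.range a)) fun p hp => ?_
    obtain ⟨D, _, _, hflat, hne, -, hspan, -⟩ := key p hp
    refine ⟨D, _, _, hflat, hne, ⟨fun x y => ?_⟩⟩
    let π := (Submodule.span G.invariants (Set.range a)).mkQ
    have hz : ∀ z : D ⊗[G.invariants] A, π.lTensor D z = 0 := fun z => by
      have hz : z ∈ Submodule.span D (Set.range fun j => (1 : D) ⊗ₜ[G.invariants] a j) := hspan ▸ Submodule.mem_top
      have : π.baseChange D z = 0 := by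
        induction hz using Submodule.span_induction with
        | mem x hx =>
          obtain ⟨j, rfl⟩ := hx
          rw [LinearMap.baseChange_tmul, show π (a j) = 0 from
            (Submodule.Quotient.mk_eq_zero _).2 (Submodule.subset_span ⟨j, rfl⟩), TensorProduct.tmul_zero]
        | zero => exact map_zero _
        | add x y _ _ hx hy => rw [map_add, hx, hy, add_zero]
        | smul d x _ hx => rw [map_smul, hx, smul_zero]
      rwa [LinearMap.baseChange_eq_ltensor] at this
    obtain ⟨x', rfl⟩ := LinearMap.lTensor_surjective D (Submodule.mkQ_surjective _) x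
    obtain ⟨y', rfl⟩ := LinearMap.lTensor_surjective D (Submodule.mkQ_surjective _) y
    exact (hz x').trans (hz y').symm
  have hflatA : Module.Flat G.invariants A := by
    rw [Module.Flat.iff_lTensor_preserves_injective_linearMap]
    intro M M' _ _ _ _ f hf
    rw [← LinearMap.ker_eq_bot, ← Submodule.subsingleton_iff_eq_bot]
    refine subsingleton_of_forall_flat (C := G.invariants) (M := LinearMap.ker (f.lTensor A)) fun p hp => ?_
    obtain ⟨D, _, _, hflat, hne, hfree, -, -⟩ := key p hp
    refine ⟨D, _, _, hflat, hne, ?_⟩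
    have : Module.Flat G.invariants (G.BA D) := Module.Flat.trans G.invariants D (G.BA D)
    have h1 : Function.Injective (LinearMap.lTensor D (f.lTensor A)) := by
      have h2 := Module.Flat.lTensor_preserves_injective_linearMap (M := D ⊗[G.invariants] A) f hf
      intro x y hxy
      obtain ⟨x, rfl⟩ := (TensorProduct.assoc G.invariants D A M).surjective x
      obtain ⟨y, rfl⟩ := (TensorProduct.assoc G.invariants D A M).surjective y
      refine congrArg _ (h2 ?_)
      rw [LinearMap.lTensor_tensor]
      simp only [LinearMap.comp_apply, LinearEquiv.coe_coe]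
      rw [hxy]
    refine ⟨fun x y => ?_⟩
    refine Module.Flat.lTensor_preserves_injective_linearMap (M := D) (LinearMap.ker (f.lTensor A)).subtype
      Subtype.val_injective (h1 ?_)
    rw [← LinearMap.comp_apply, ← LinearMap.comp_apply, ← LinearMap.lTensor_comp, LinearMap.comp_ker_subtype,
      LinearMap.lTensor_zero]
    rfl
  have hbij : Function.Bijective G.pairMap :=
    bijective_of_forall_flat G.pairMap.toLinearMap fun p hp => by
      obtain ⟨D, _, _, hflat, hne, -, -, hb⟩ := key p hp
      exact ⟨D, _, _, hflat, hne, hb⟩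
  refine ⟨hfin, hflatA, ?_, hbij⟩
  have : Module.FaithfullyFlat G.invariants A := Module.FaithfullyFlat.of_comap_surjective fun P => by
    obtain ⟨Q, -, hQ, hQP⟩ := Ideal.exists_ideal_over_prime_of_isIntegral (S := A) P.asIdeal ⊥ (by
      rw [← RingHom.ker_eq_comap_bot, (RingHom.injective_iff_ker_eq_bot _).1 (Subtype.val_injective :
        Function.Injective (algebraMap G.invariants A))]; exact bot_le)
    exact ⟨⟨Q, hQ⟩, PrimeSpectrum.ext hQP⟩
  let φ : A ⊗[G.invariants] A →ₐ[A] G.SB :=
    Algebra.TensorProduct.lift (Algebra.ofId A G.SB) G.tAlg fun _ _ => .all ..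
  have hφ : Function.Bijective φ := by
    have : (φ : A ⊗[G.invariants] A → G.SB) = fun z => G.pairMap (Algebra.TensorProduct.comm G.invariants A A z) :=
      funext fun z => by
        induction z using TensorProduct.induction_on with
        | zero => simp
        | add x y hx hy => simp only [map_add, hx, hy]
        | tmul x y =>
          rw [Algebra.TensorProduct.comm_tmul, pairMap_tmul, mul_comm]
          rfl
    rw [this]
    exact hbij.comp (Algebra.TensorProduct.comm G.invariants A A).bijective
  have : Module.FinitePresentation A G.SB := Module.finitePresentation_of_projective A G.SB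
  have : Algebra.FinitePresentation A (A ⊗[G.invariants] A) :=
    Algebra.FinitePresentation.equiv (AlgEquiv.ofBijective φ hφ).symm
  exact Algebra.FinitePresentation.of_finitePresentation_tensorProduct_of_faithfullyFlat A

end RingGrpd

end Groth.Agent.GrpdLib
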