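import Groth.Agent.GrpdLib.Quotient

/-!
# A basis of objects over the invariants after a generic base change at a maximal ideal
-/

set_option autoImplicit false

universe u

open TensorProduct

namespace Groth.Agent.GrpdLib.RingGrpd

set_option maxHeartbeats 1600000

variable {A B : Type u} [CommRing A] [CommRing B] (G : RingGrpd A B)

attribute [local instance] Algebra.TensorProduct.rightAlgebra

/-- The variables of the generic base change. -/
abbrev GenVar (r N : ℕ) : Type := Fin r × Fin N

/-- The prime of polynomials whose coefficients lie in `p`. -/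
noncomputable def genPrime (p : Ideal G.invariants) (r N : ℕ) : Ideal (MvPolynomial (GenVar r N) G.invariants) :=
  RingHom.ker (MvPolynomial.map (Ideal.Quotient.mk p))

instance genPrime_isPrime (p : Ideal G.invariants) [p.IsPrime] (r N : ℕ) : (G.genPrime p r N).IsPrime :=
  RingHom.ker_isPrime _

/-- The generic coefficients at `p`. -/
abbrev GenRing (p : Ideal G.invariants) [p.IsPrime] (r N : ℕ) : Type u := Localization.AtPrime (G.genPrime p r N)

theorem flat_genRing (p : Ideal G.invariants) [p.IsPrime] (r N : ℕ) :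
    Module.Flat G.invariants (G.GenRing p r N) := by
  have : Module.Flat (MvPolynomial (GenVar r N) G.invariants) (G.GenRing p r N) :=
    IsLocalization.flat _ (G.genPrime p r N).primeCompl
  exact Module.Flat.trans G.invariants (MvPolynomial (GenVar r N) G.invariants) _

theorem map_genRing_ne_top (p : Ideal G.invariants) [p.IsPrime] (r N : ℕ) :
    p.map (algebraMap G.invariants (G.GenRing p r N)) ≠ ⊤ := by
  refine ne_top_of_le_ne_top (IsLocalRing.maximalIdeal.isMaximal (G.GenRing p r N)).ne_top ?_
  rw [Ideal.map_le_iff_le_comap]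
  intro c hc
  show algebraMap G.invariants (G.GenRing p r N) c ∈ IsLocalRing.maximalIdeal _
  rw [IsScalarTower.algebraMap_apply G.invariants (MvPolynomial (GenVar r N) G.invariants) (G.GenRing p r N),
    IsLocalization.AtPrime.to_map_mem_maximal_iff (G.GenRing p r N) (G.genPrime p r N)]
  show MvPolynomial.map (Ideal.Quotient.mk p) (MvPolynomial.C c) = 0
  rw [MvPolynomial.map_C, Ideal.Quotient.eq_zero_iff_mem.2 hc, map_zero]

variable (p : Ideal G.invariants) [p.IsPrime] {r N : ℕ}

/-- A generic variable in the coefficients. -/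
noncomputable def xi (v : GenVar r N) : G.GenRing p r N :=
  algebraMap (MvPolynomial (GenVar r N) G.invariants) _ (MvPolynomial.X v)

/-- The generic combinations of the generators. -/
noncomputable def genElem (a : Fin N → A) (i : Fin r) : G.BA (G.GenRing p r N) :=
  ∑ j, G.xi p (i, j) ⊗ₜ[G.invariants] a j

/-- Evaluation of polynomials over the objects at the generic variables. -/
noncomputable def genEval : MvPolynomial (GenVar r N) A →+* G.BA (G.GenRing p r N) :=
  MvPolynomial.eval₂Hom (algebraMap A _) fun v => G.xi p v ⊗ₜ[G.invariants] (1 : A)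

theorem genEval_map (f : MvPolynomial (GenVar r N) G.invariants) :
    G.genEval p (MvPolynomial.map (algebraMap G.invariants A) f) =
      (algebraMap (MvPolynomial (GenVar r N) G.invariants) (G.GenRing p r N) f) ⊗ₜ[G.invariants] (1 : A) := by
  refine RingHom.congr_fun (f := (G.genEval p).comp (MvPolynomial.map (algebraMap G.invariants A)))
    (g := Algebra.TensorProduct.includeLeftRingHom.comp (algebraMap _ (G.GenRing p r N)))
    (MvPolynomial.ringHom_ext (fun c => ?_) fun v => ?_) f
  · rw [RingHom.comp_apply, RingHom.comp_apply, MvPolynomial.map_C, genEval, MvPolynomial.eval₂Hom_C]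
    show (1 : G.GenRing p r N) ⊗ₜ[G.invariants] algebraMap G.invariants A c = algebraMap _ _ (MvPolynomial.C c) ⊗ₜ (1 : A)
    rw [← MvPolynomial.algebraMap_eq, ← IsScalarTower.algebraMap_apply, Algebra.algebraMap_eq_smul_one,
      Algebra.algebraMap_eq_smul_one, smul_tmul]
  · rw [RingHom.comp_apply, RingHom.comp_apply, MvPolynomial.map_X, genEval, MvPolynomial.eval₂Hom_X']
    rfl

theorem sum_combination {R M : Type u} [CommRing R] [AddCommGroup M] [Module R M] {r N : ℕ} (x : Fin N → R)
    (c : Fin N → Fin r → R) (T : Fin N → M) (σ : Fin r → Fin N) :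
    ∑ k, (∑ j, x j * c j k) • T (σ k) = ∑ j, x j • T j - ∑ j, x j • (T j - ∑ k, c j k • T (σ k)) := by
  simp only [smul_sub, Finset.sum_sub_distrib, sub_sub_cancel, Finset.smul_sum, smul_smul, Finset.sum_smul]
  exact Finset.sum_comm

omit [p.IsPrime] in
/-- A subfamily of the generators is a basis modulo a maximal ideal of objects. -/
theorem exists_residue_basis [Module.Finite A G.SB] [Module.Flat A G.SB] (q : Ideal A) [hq : q.IsMaximal]
    (a : Fin N → A) (ha : Submodule.span A (Set.range fun j => G.tSB (a j)) = ⊤)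
    (hr : Module.rankAtStalk (R := A) G.SB ⟨q, hq.isPrime⟩ = r) :
    ∃ (σ : Fin r → Fin N) (c : Fin N → Fin r → A),
      (∀ i k, c (σ i) k - (if i = k then 1 else 0) ∈ q) ∧
      ∀ j, G.tSB (a j) - ∑ k, c j k • G.tSB (a (σ k)) ∈ q • (⊤ : Submodule A G.SB) := by
  classical
  let _ := Ideal.Quotient.field q
  let W := G.SB ⧸ q • (⊤ : Submodule A G.SB)
  let v : Fin N → W := fun j => Submodule.Quotient.mk (G.tSB (a j))
  have hspan : Submodule.span (A ⧸ q) (Set.range v) = ⊤ := by
    refine _root_.eq_top_iff.2 fun w _ => ?_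
    obtain ⟨b, rfl⟩ := Submodule.Quotient.mk_surjective _ w
    have hb : b ∈ Submodule.span A (Set.range fun j => G.tSB (a j)) := ha ▸ Submodule.mem_top
    have := Submodule.mem_map_of_mem (f := (q • (⊤ : Submodule A G.SB)).mkQ) hb
    rw [Submodule.map_span, ← Set.range_comp] at this
    exact Submodule.span_le_restrictScalars A (A ⧸ q) _ this
  have hfr : Module.finrank (A ⧸ q) W = r := by
    have e : ((A ⧸ q) ⊗[A] G.SB) ≃ₗ[A ⧸ q] W :=
      (TensorProduct.quotTensorEquivQuotSMul G.SB q).extendScalarsOfSurjective Ideal.Quotient.mk_surjective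
    have h1 := Module.rankAtStalk_baseChange (R := A) (M := G.SB) (S := A ⧸ q) ⟨⊥, Ideal.isPrime_bot⟩
    rw [Module.rankAtStalk_eq_finrank_of_free] at h1
    rw [← e.finrank_eq, show Module.finrank (A ⧸ q) ((A ⧸ q) ⊗[A] G.SB) = _ from h1, ← hr]
    congr 1
    exact PrimeSpectrum.ext (by simp [Ideal.Quotient.algebraMap_eq, ← RingHom.ker_eq_comap_bot])
  obtain ⟨f, hf, hfs, hfi⟩ := Submodule.exists_fun_fin_finrank_span_eq (A ⧸ q) (Set.range v)
  have hn : Module.finrank (A ⧸ q) (Submodule.span (A ⧸ q) (Set.range v)) = r := by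
    rw [hspan, finrank_top, hfr]
  let f' : Fin r → W := f ∘ Fin.cast hn.symm
  choose σ hσ using fun i => hf (Fin.cast hn.symm i)
  have hrange : Set.range f' = Set.range f :=
    (finCongr hn.symm).surjective.range_comp f
  let bs : Module.Basis (Fin r) (A ⧸ q) W := Module.Basis.mk
    (hfi.comp _ (Fin.cast_injective hn.symm) : LinearIndependent (A ⧸ q) f')
    (by rw [hrange, hfs, hspan])
  have hbs : ∀ i, bs i = v (σ i) := fun i => (Module.Basis.mk_apply _ _ i).trans (hσ i).symm
  choose c hc using fun j k => Ideal.Quotient.mk_surjective (bs.repr (v j) k)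
  refine ⟨σ, c, fun i k => ?_, fun j => ?_⟩
  · rw [← Ideal.Quotient.eq_zero_iff_mem, map_sub, hc, ← hbs, bs.repr_self, Finsupp.single_apply]
    split <;> simp
  · rw [← Submodule.Quotient.mk_eq_zero, Submodule.Quotient.mk_sub, sub_eq_zero]
    conv_lhs => rw [show Submodule.Quotient.mk (G.tSB (a j)) = v j from rfl, ← bs.sum_repr (v j)]
    rw [← Submodule.mkQ_apply, map_sum]
    refine Finset.sum_congr rfl fun k _ => ?_
    rw [map_smul, hbs, ← hc]
    rfl

/-- The generic combinations give a basis of the base changed arrows. -/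
theorem exists_generic_basis [Algebra.IsIntegral G.invariants A] [Module.Finite A G.SB] [Module.Flat A G.SB]
    [hp : p.IsMaximal] (a : Fin N → A) (ha : Submodule.span A (Set.range fun j => G.tSB (a j)) = ⊤)
    (hr : ∀ (q : Ideal A) (hq : q.IsPrime), q.comap G.invariants.subtype = p →
      Module.rankAtStalk (R := A) G.SB ⟨q, hq⟩ = r) :
    ∃ b : Module.Basis (Fin r) (G.BA (G.GenRing p r N)) (G.baseChange (G.GenRing p r N)).SB,
      ∀ i, b i = (G.baseChange (G.GenRing p r N)).tSB (G.genElem p a i) := by
  classical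
  set D := G.GenRing p r N
  let Φ := Fintype.linearCombination (G.BA D) fun i => (G.baseChange D).tSB (G.genElem p a i)
  have hfin : Module.Finite (G.BA D) (G.baseChange D).SB := G.finite_baseChange D
  have hflat : Module.Flat (G.BA D) (G.baseChange D).SB := G.flat_baseChange D
  set T : Fin N → (G.baseChange D).SB := fun j => G.T0 D (a j)
  have hT : Submodule.span (G.BA D) (Set.range T) = ⊤ := G.span_T0_eq_top D a ha
  have key : ∀ (Q : Ideal (G.BA D)) [Q.IsMaximal], ∃ hq : (Q.comap (algebraMap A (G.BA D))).IsPrime,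
      Module.rankAtStalk (R := A) G.SB ⟨Q.comap (algebraMap A (G.BA D)), hq⟩ = r ∧
      LinearMap.range Φ ⊔ Q • ⊤ = ⊤ := by
    intro Q hQ
    set q := Q.comap (algebraMap A (G.BA D))
    have hqprime : q.IsPrime := Ideal.IsPrime.comap _
    have hQD : Q.comap (algebraMap D (G.BA D)) = IsLocalRing.maximalIdeal D :=
      IsLocalRing.eq_maximalIdeal (Ideal.isMaximal_comap_of_isIntegral_of_isMaximal (R := D) (S := G.BA D) Q)
    have hmem : ∀ f : MvPolynomial (GenVar r N) G.invariants,
        G.genEval p (MvPolynomial.map (algebraMap G.invariants A) f) ∈ Q ↔ f ∈ G.genPrime p r N := fun f => by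
      rw [genEval_map, ← IsLocalization.AtPrime.to_map_mem_maximal_iff D (G.genPrime p r N), ← hQD]
      rfl
    have hqp : q.comap G.invariants.subtype = p := by
      ext c
      have h := hmem (MvPolynomial.C c)
      rw [MvPolynomial.map_C, genEval, MvPolynomial.eval₂Hom_C] at h
      refine Iff.trans h ?_
      show MvPolynomial.map (Ideal.Quotient.mk p) (MvPolynomial.C c) = 0 ↔ c ∈ p
      rw [MvPolynomial.map_C, MvPolynomial.C_eq_zero, Ideal.Quotient.eq_zero_iff_mem]
    have hqmax : q.IsMaximal :=
      Ideal.isMaximal_of_isIntegral_of_isMaximal_comap (R := G.invariants) q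
        (show (q.comap G.invariants.subtype).IsMaximal from hqp.symm ▸ hp)
    have hev : Q.comap (G.genEval p) = RingHom.ker (MvPolynomial.map (Ideal.Quotient.mk q)) := by
      refine poly_prime_eq (C := G.invariants) q _ (fun f hf => ?_) fun f hf => ?_
      · rw [RingHom.mem_ker] at hf
        rw [Ideal.mem_comap, genEval, MvPolynomial.coe_eval₂Hom, MvPolynomial.eval₂_eq]
        refine Q.sum_mem fun d _ => Q.mul_mem_right _ ?_
        have := congrArg (MvPolynomial.coeff d) hf
        rw [MvPolynomial.coeff_map, MvPolynomial.coeff_zero, Ideal.Quotient.eq_zero_iff_mem] at this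
        exact this
      · have hf' : MvPolynomial.map (Ideal.Quotient.mk p) f = 0 := (hmem f).1 hf
        rw [RingHom.mem_ker, MvPolynomial.map_map]
        ext d
        have := congrArg (MvPolynomial.coeff d) hf'
        rw [MvPolynomial.coeff_map, MvPolynomial.coeff_zero, Ideal.Quotient.eq_zero_iff_mem] at this
        rw [MvPolynomial.coeff_map, MvPolynomial.coeff_zero, RingHom.comp_apply, Ideal.Quotient.eq_zero_iff_mem]
        exact (hqp.symm ▸ this : _)
    refine ⟨hqprime, hr q hqprime hqp, ?_⟩
    obtain ⟨σ, c, hcδ, hcE⟩ := G.exists_residue_basis q (r := r) a ha (hr q hqprime hqp)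
    set Mt : Matrix (Fin r) (Fin r) (MvPolynomial (GenVar r N) A) :=
      Matrix.of fun i k => ∑ j, MvPolynomial.X (i, j) * MvPolynomial.C (c j k) with hMt
    set Mh := (G.genEval p).mapMatrix Mt with hMh
    have hdet : Mh.det ∉ Q := by
      rw [hMh, ← RingHom.map_det]
      intro h
      have h' : Mt.det ∈ RingHom.ker (MvPolynomial.map (Ideal.Quotient.mk q)) := hev ▸ Ideal.mem_comap.2 h
      have h2 := congrArg (MvPolynomial.eval fun v : GenVar r N => (if v.2 = σ v.1 then 1 else 0 : A ⧸ q))
        (RingHom.mem_ker.1 h')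
      rw [map_zero, RingHom.map_det, RingHom.map_det] at h2
      refine (Ideal.Quotient.nontrivial_iff.2 hqmax.ne_top).exists_pair_ne.elim fun x ⟨y, hxy⟩ => hxy ?_
      have h10 : (1 : A ⧸ q) = 0 := by
        refine ((congrArg Matrix.det ?_).trans (Matrix.det_one (n := Fin r))).symm.trans h2
        refine Matrix.ext fun i k => ?_
        simp only [hMt, RingHom.mapMatrix_apply, Matrix.map_apply, Matrix.of_apply, map_sum, map_mul,
          MvPolynomial.map_X, MvPolynomial.map_C, MvPolynomial.eval_X, MvPolynomial.eval_C]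
        rw [Finset.sum_eq_single (σ i) (fun j _ hj => by simp [hj]) (fun h => absurd (Finset.mem_univ _) h)]
        have := Ideal.Quotient.eq_zero_iff_mem.2 (hcδ i k)
        rw [map_sub, sub_eq_zero] at this
        rw [if_pos rfl, one_mul, this, Matrix.one_apply]
        split <;> simp
      rw [← one_mul x, ← one_mul y, h10, zero_mul, zero_mul]
    set N' := LinearMap.range Φ ⊔ Q • (⊤ : Submodule (G.BA D) (G.baseChange D).SB)
    have hEq : ∀ j, T j - ∑ k, algebraMap A (G.BA D) (c j k) • T (σ k) ∈ Q • (⊤ : Submodule (G.BA D) _) := by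
      intro j
      have hmap : ∀ z ∈ q • (⊤ : Submodule A G.SB), G.inS D z ∈ Q • (⊤ : Submodule (G.BA D) _) := fun z hz =>
        Submodule.smul_induction_on hz
          (fun x hx m _ => by rw [inS_smul]; exact Submodule.smul_mem_smul hx Submodule.mem_top)
          (fun x y hx hy => by rw [map_add]; exact add_mem hx hy)
      have := hmap _ (hcE j)
      rw [map_sub, map_sum] at this
      simp only [inS_smul, inS_tSB] at this
      exact this
    have hM : ∀ i, ∑ k, Mh i k • T (σ k) ∈ N' := by
      intro i
      have hw : (G.baseChange D).tSB (G.genElem p a i) = ∑ j, (G.xi p (i, j) ⊗ₜ[G.invariants] (1 : A)) • T j := by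
        rw [genElem, map_sum]
        exact Finset.sum_congr rfl fun j _ => G.tSB_tmul D _ _
      have hMik : ∀ k, Mh i k = ∑ j, (G.xi p (i, j) ⊗ₜ[G.invariants] (1 : A)) * algebraMap A (G.BA D) (c j k) := by
        intro k
        simp only [hMh, hMt, RingHom.mapMatrix_apply, Matrix.map_apply, Matrix.of_apply, map_sum, map_mul, genEval,
          MvPolynomial.eval₂Hom_X', MvPolynomial.eval₂Hom_C]
        rfl
      have : ∑ k, Mh i k • T (σ k) = (G.baseChange D).tSB (G.genElem p a i) -
          ∑ j, (G.xi p (i, j) ⊗ₜ[G.invariants] (1 : A)) • (T j - ∑ k, algebraMap A (G.BA D) (c j k) • T (σ k)) := by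
        rw [hw, Finset.sum_congr rfl fun k _ => congrArg (· • T (σ k)) (hMik k)]
        exact sum_combination (R := G.BA D) (M := (G.baseChange D).SB) (fun j => G.xi p (i, j) ⊗ₜ[G.invariants] (1 : A))
          (fun j k => algebraMap A (G.BA D) (c j k)) T σ
      rw [this]
      refine sub_mem (Submodule.mem_sup_left ?_)
        (Submodule.mem_sup_right (Submodule.sum_mem _ fun j _ => Submodule.smul_mem _ _ (hEq j)))
      exact ⟨Pi.single i 1, by simp [Φ]⟩
    have hσT : ∀ l, T (σ l) ∈ N' := by
      intro l
      have h1 : Mh.det • T (σ l) ∈ N' := by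
        have : Mh.det • T (σ l) = ∑ i, Mh.adjugate l i • ∑ k, Mh i k • T (σ k) := by
          simp only [Finset.smul_sum, smul_smul]
          rw [Finset.sum_comm]
          simp only [← Finset.sum_smul, ← Matrix.mul_apply, Matrix.adjugate_mul]
          simp [Matrix.one_apply, ite_smul]
        rw [this]
        exact Submodule.sum_mem _ fun i _ => Submodule.smul_mem _ _ (hM i)
      obtain ⟨u, q0, hq0, hu⟩ := hQ.exists_inv hdet
      rw [← one_smul (G.BA D) (T (σ l)), ← hu, add_smul, mul_smul]
      exact add_mem (Submodule.smul_mem _ _ h1)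
        (Submodule.mem_sup_right (Submodule.smul_mem_smul hq0 Submodule.mem_top))
    refine _root_.eq_top_iff.2 ?_
    rw [← hT, Submodule.span_le]
    rintro _ ⟨j, rfl⟩
    have := add_mem (Submodule.mem_sup_right (S := LinearMap.range Φ) (hEq j))
      (Submodule.sum_mem N' (t := Finset.univ) (f := fun k => algebraMap A (G.BA D) (c j k) • T (σ k))
        fun k _ => Submodule.smul_mem _ _ (hσT k))
    rwa [sub_add_cancel] at this
  have hsurj : Function.Surjective Φ := by
    rw [← LinearMap.range_eq_top]
    by_contra hne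
    have hM : ∀ (Q : Ideal (G.BA D)) [Q.IsMaximal],
        ¬ Module.annihilator (G.BA D) ((G.baseChange D).SB ⧸ LinearMap.range Φ) ≤ Q := by
      intro Q _
      obtain ⟨-, -, hN⟩ := key Q
      have htop : (⊤ : Submodule (G.BA D) ((G.baseChange D).SB ⧸ LinearMap.range Φ)) ≤ Q • ⊤ := by
        intro x _
        obtain ⟨z, rfl⟩ := Submodule.Quotient.mk_surjective _ x
        have hz : z ∈ LinearMap.range Φ ⊔ Q • ⊤ := hN.symm ▸ Submodule.mem_top
        obtain ⟨u, hu, w, hw, rfl⟩ := Submodule.mem_sup.1 hz
        rw [Submodule.Quotient.mk_add, (Submodule.Quotient.mk_eq_zero _).2 hu, zero_add]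
        have := Submodule.mem_map_of_mem (f := (LinearMap.range Φ).mkQ) hw
        rw [Submodule.map_smul''] at this
        exact Submodule.smul_mono le_rfl le_top this
      obtain ⟨t, ht1, ht2⟩ := Submodule.exists_sub_one_mem_and_smul_eq_zero_of_fg_of_le_smul Q ⊤
        Module.Finite.fg_top htop
      intro hle
      have htQ : t ∈ Q := hle (Module.mem_annihilator.2 fun m => ht2 m Submodule.mem_top)
      exact Ideal.IsPrime.ne_top inferInstance ((Q.eq_top_iff_one).2 (by simpa using sub_mem htQ ht1))
    have hann : Module.annihilator (G.BA D) ((G.baseChange D).SB ⧸ LinearMap.range Φ) ≠ ⊤ := fun h =>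
      hne (Submodule.Quotient.subsingleton_iff.1 (Module.annihilator_eq_top_iff.1 h))
    obtain ⟨Q, hQ, hle⟩ := Ideal.exists_le_maximal _ hann
    exact @hM Q hQ hle
  have hbij : Function.Bijective Φ := by
    refine Module.bijective_of_surjective_of_rankAtStalk_eq hsurj fun Q hQ => ?_
    obtain ⟨hq, hrank, -⟩ := key Q
    have : Nontrivial (G.BA D) := ⟨⟨1, 0, fun h => hQ.ne_top (Q.eq_top_iff_one.2 (h ▸ Q.zero_mem))⟩⟩
    rw [G.rankAtStalk_baseChange_eq D, Module.rankAtStalk_eq_finrank_of_free]
    simp only [Pi.natCast_apply, Module.finrank_pi, Fintype.card_fin]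
    exact hrank.symm
  refine ⟨(Pi.basisFun (G.BA D) (Fin r)).map (LinearEquiv.ofBijective Φ hbij), fun i => ?_⟩
  simp [Φ]
  rfl

end Groth.Agent.GrpdLib.RingGrpd
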