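import Groth.Agent.GrpdLib.Basis
import Groth.Agent.GrpdLib.Orbit
import Mathlib.RingTheory.Spectrum.Prime.FreeLocus
import Mathlib.Algebra.Algebra.Epi
import Mathlib.RingTheory.Adjoin.Basic

/-!
# The rank of the source map is constant on orbits; generators of arrows for a monomorphic groupoid
-/

set_option autoImplicit false

universe u

open TensorProduct

namespace Groth.Agent.GrpdLib.RingGrpd

set_option maxHeartbeats 400000

variable {A B : Type u} [CommRing A] [CommRing B] (G : RingGrpd A B)

/-- The ranks of the source at the two ends of a point of arrows agree. -/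
theorem rankAtStalk_comap_eq [Module.Finite A G.SB] [Module.Flat A G.SB] (P : PrimeSpectrum B) :
    Module.rankAtStalk (R := A) G.SB (P.comap G.s) = Module.rankAtStalk (R := A) G.SB (P.comap G.t) := by
  let PS : PrimeSpectrum G.SB := P
  let PT : PrimeSpectrum G.TB := P
  have h1 := Module.rankAtStalk_baseChange (R := A) (M := G.SB) (S := G.TB) PT
  have h2 := Module.rankAtStalk_baseChange (R := A) (M := G.SB) (S := G.SB) PS
  let _ : Module B (G.TB ⊗[A] G.SB) := (inferInstance : Module G.TB (G.TB ⊗[A] G.SB))
  let _ : Module B (G.SB ⊗[A] G.SB) := (inferInstance : Module G.SB (G.SB ⊗[A] G.SB))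
  let e : (G.TB ⊗[A] G.SB) ≃ₗ[B] (G.SB ⊗[A] G.SB) :=
    { G.phiEquiv.toAddEquiv with
      map_smul' := fun r z => by
        show G.phi (r • z) = r • G.phi z
        induction z using TensorProduct.induction_on with
        | zero => simp
        | add x y hx hy => simp only [smul_add, map_add, hx, hy]
        | tmul x y =>
          have e1 : (r : G.TB) • (x ⊗ₜ[A] y) = G.leftT r * x ⊗ₜ[A] y :=
            Algebra.smul_def (R := G.TB) (A := G.TB ⊗[A] G.SB) r (x ⊗ₜ[A] y)
          refine (congrArg G.phi e1).trans ?_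
          rw [map_mul, G.phi_left]
          exact (Algebra.smul_def (R := G.SB) (A := G.SB ⊗[A] G.SB) r (G.phi (x ⊗ₜ[A] y))).symm }
  have he := congrFun (Module.rankAtStalk_eq_of_equiv e) P
  exact (h2.symm.trans (he.symm.trans h1))

/-- The rank of the source is constant on the fibres of `Spec A → Spec (invariants)`. -/
theorem rankAtStalk_eq_of_comap_eq (p : ProjPres A G.SB) [Module.Finite A G.SB] [Module.Flat A G.SB]
    (q q' : PrimeSpectrum A) (h : q.comap G.invariants.subtype = q'.comap G.invariants.subtype) :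
    Module.rankAtStalk (R := A) G.SB q = Module.rankAtStalk (R := A) G.SB q' := by
  obtain ⟨P, hP, h1, h2⟩ := G.exists_prime_of_comap_eq p q.asIdeal q'.asIdeal (congrArg PrimeSpectrum.asIdeal h)
  have := G.rankAtStalk_comap_eq ⟨P, hP⟩
  rwa [show (PrimeSpectrum.comap G.s ⟨P, hP⟩) = q from PrimeSpectrum.ext h1,
    show (PrimeSpectrum.comap G.t ⟨P, hP⟩) = q' from PrimeSpectrum.ext h2] at this

/-- For a monomorphic groupoid finitely many targets generate the arrows over the source. -/
theorem exists_span_eq_top [Module.Finite A G.SB]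
    (hepi : ∀ {T : Type u} [CommRing T] (α β : B →+* T), α.comp G.s = β.comp G.s →
      α.comp G.t = β.comp G.t → α = β) :
    ∃ (N : ℕ) (a : Fin N → A), Submodule.span A (Set.range fun j => G.tSB (a j)) = ⊤ := by
  classical
  let Q : Subalgebra A G.SB := Algebra.adjoin A (Set.range G.tSB)
  have : Module.Finite Q G.SB := Module.Finite.of_restrictScalars_finite A Q G.SB
  have : Algebra.IsEpi Q G.SB := by
    rw [Algebra.isEpi_iff_forall_one_tmul_eq]
    intro b
    let l : B →+* G.SB ⊗[Q] G.SB := (Algebra.TensorProduct.includeLeft (R := Q) (S := Q) (A := G.SB) (B := G.SB)).toRingHom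
    let r : B →+* G.SB ⊗[Q] G.SB := (Algebra.TensorProduct.includeRight (R := Q) (A := G.SB) (B := G.SB)).toRingHom
    have hq : ∀ x : G.SB, x ∈ Q → l x = r x := fun x hx =>
      ((Algebra.TensorProduct.includeLeft (R := Q) (S := Q) (A := G.SB) (B := G.SB)).commutes ⟨x, hx⟩).trans
        ((Algebra.TensorProduct.includeRight (R := Q) (A := G.SB) (B := G.SB)).commutes ⟨x, hx⟩).symm
    exact (RingHom.congr_fun (hepi r l
      (RingHom.ext fun x => (hq _ (Q.algebraMap_mem x)).symm)
      (RingHom.ext fun x => (hq _ (Algebra.subset_adjoin ⟨x, rfl⟩)).symm)) b)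
  have hsurj := Algebra.isEpi_iff_surjective_algebraMap_of_finite.1 this
  have htop : Submodule.span A (Set.range G.tSB) = ⊤ := by
    have hQ : Q = ⊤ := _root_.eq_top_iff.2 fun x _ => by
      obtain ⟨y, rfl⟩ := hsurj x
      exact y.2
    have hcl : (Submonoid.closure (Set.range G.tSB) : Set G.SB) = Set.range G.tSB :=
      congrArg SetLike.coe (Submonoid.closure_eq (MonoidHom.mrange (G.tSB : A →* G.SB)))
    rw [← hcl, ← Algebra.adjoin_eq_span, show Algebra.adjoin A (Set.range G.tSB) = ⊤ from hQ, Algebra.top_toSubmodule]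
  obtain ⟨s, hs, hs'⟩ := (Submodule.fg_span_iff_fg_span_finset_subset (R := A) (Set.range G.tSB)).1
    (htop ▸ Module.Finite.fg_top)
  choose f hf using fun x : s => hs x.2
  refine ⟨s.card, fun j => f (s.equivFin.symm j), _root_.eq_top_iff.2 ?_⟩
  rw [← htop, hs', Submodule.span_le]
  intro x hx
  exact Submodule.subset_span ⟨s.equivFin ⟨x, hx⟩, by simp [hf]⟩

end Groth.Agent.GrpdLib.RingGrpd
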