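import Groth.Agent.GrpdLib.EpiQuot
import Mathlib.AlgebraicGeometry.Sites.Fpqc
import Mathlib.CategoryTheory.Sites.Canonical
import Mathlib.CategoryTheory.Sites.SubcanonicalOver

/-!
# Morphisms out of representable fppf sheaves
-/

set_option autoImplicit false
set_option backward.isDefEq.respectTransparency.types false

universe u

open CategoryTheory CategoryTheory.Limits AlgebraicGeometry

namespace Groth.Agent.GrpdLib.RepHom

variable {S : Scheme.{u}}

/-- `h_V` as the functor used in `EpiQuot`. -/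
noncomputable abbrev rp (S : Scheme.{u}) : Over S ⥤ QuotSh.Sh Scheme.fppfPrecoverage S :=
  EpiQuot.repFunctor Scheme.fppfPrecoverage S

theorem map_comp_repIso {V W : Over S} (g : V ⟶ W) :
    QuotSh.repMap Scheme.fppfPrecoverage g ≫ (QuotSh.repIsoUliftYoneda Scheme.fppfPrecoverage W).hom =
      (QuotSh.repIsoUliftYoneda Scheme.fppfPrecoverage V).hom ≫
        (QuotSh.J Scheme.fppfPrecoverage S).uliftYoneda.{u + 1}.map g := by
  rw [← Iso.eq_comp_inv, Category.assoc, ← Iso.inv_comp_eq]
  exact ((sheafificationNatIso (QuotSh.J Scheme.fppfPrecoverage S) (Type (u + 1))).hom.naturality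
    ((QuotSh.J Scheme.fppfPrecoverage S).uliftYoneda.{u + 1}.map g)).symm

theorem repMap_injective {V W : Over S} {g g' : V ⟶ W}
    (h : QuotSh.repMap Scheme.fppfPrecoverage g = QuotSh.repMap Scheme.fppfPrecoverage g') : g = g' := by
  apply (QuotSh.J Scheme.fppfPrecoverage S).uliftYoneda.{u + 1}.map_injective
  rw [← cancel_epi (QuotSh.repIsoUliftYoneda Scheme.fppfPrecoverage V).hom, ← map_comp_repIso, h, map_comp_repIso]

theorem exists_repMap_eq {V W : Over S}
    (h : QuotSh.rep Scheme.fppfPrecoverage V ⟶ QuotSh.rep Scheme.fppfPrecoverage W) :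
    ∃ g : V ⟶ W, QuotSh.repMap Scheme.fppfPrecoverage g = h := by
  obtain ⟨g, hg⟩ := (QuotSh.J Scheme.fppfPrecoverage S).uliftYoneda.{u + 1}.map_surjective
    ((QuotSh.repIsoUliftYoneda Scheme.fppfPrecoverage V).inv ≫ h ≫
      (QuotSh.repIsoUliftYoneda Scheme.fppfPrecoverage W).hom)
  refine ⟨g, ?_⟩
  rw [← cancel_mono (QuotSh.repIsoUliftYoneda Scheme.fppfPrecoverage W).hom, map_comp_repIso, hg,
    Iso.hom_inv_id_assoc]

variable {K : Precoverage Scheme.{u}}

/-- A map of sheaves which is bijective on maps out of all `h_V` is an isomorphism. -/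
theorem isIso_of_bijective {F G : QuotSh.Sh K S} (ψ : F ⟶ G)
    (hψ : ∀ V : Over S, Function.Bijective (fun x : QuotSh.rep K V ⟶ F => x ≫ ψ)) : IsIso ψ := by
  haveI : IsIso ((sheafToPresheaf (QuotSh.J K S) (Type (u + 1))).map ψ) := by
    rw [NatTrans.isIso_iff_isIso_app]
    intro V
    rw [isIso_iff_bijective]
    let A := sheafificationAdjunction (QuotSh.J K S) (Type (u + 1))
    let e : ∀ H : QuotSh.Sh K S, (QuotSh.rep K V.unop ⟶ H) ≃ H.obj.obj V := fun H =>
      (A.homEquiv _ H).trans uliftYonedaEquiv.{u + 1}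
    have he : ∀ x, ((sheafToPresheaf (QuotSh.J K S) (Type (u + 1))).map ψ).app V (e F x) = e G (x ≫ ψ) := by
      intro x
      show _ = uliftYonedaEquiv (A.homEquiv _ G (x ≫ ψ))
      rw [A.homEquiv_naturality_right]
      rfl
    have : ⇑(((sheafToPresheaf (QuotSh.J K S) (Type (u + 1))).map ψ).app V) =
        (fun x : QuotSh.rep K V.unop ⟶ F => e G (x ≫ ψ)) ∘ (e F).symm := by
      funext y
      conv_lhs => rw [← (e F).apply_symm_apply y]
      exact he _
    rw [this]
    exact ((e G).bijective.comp (hψ V.unop)).comp (e F).symm.bijective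
  exact isIso_of_fully_faithful (sheafToPresheaf (QuotSh.J K S) (Type (u + 1))) ψ

/-- A flat lfp surjection gives a presentation of `h_T`. -/
theorem exists_desc {Z T : Over S} (q : Z ⟶ T) [Flat q.left] [Surjective q.left] [LocallyOfFinitePresentation q.left] :
    Epi (QuotSh.repMap Scheme.fppfPrecoverage q) ∧
    ∀ (F : QuotSh.Sh Scheme.fppfPrecoverage S) (f : QuotSh.rep Scheme.fppfPrecoverage Z ⟶ F),
      (∀ (W : Over S) (a b : W ⟶ Z), a ≫ q = b ≫ q →
        QuotSh.repMap Scheme.fppfPrecoverage a ≫ f = QuotSh.repMap Scheme.fppfPrecoverage b ≫ f) →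
      ∃ g, QuotSh.repMap Scheme.fppfPrecoverage q ≫ g = f := by
  haveI : Epi (QuotSh.repMap Scheme.fppfPrecoverage q) :=
    EpiQuot.epi_repMap_of_cover q q.left.singleton_mem_fppfPrecoverage
  refine ⟨‹_›, fun F f hf => ?_⟩
  let P : Over S := Over.mk (pullback.fst q.left q.left ≫ Z.hom)
  let a : P ⟶ Z := Over.homMk (pullback.fst q.left q.left) rfl
  let b : P ⟶ Z := Over.homMk (pullback.snd q.left q.left) (by
    show pullback.snd q.left q.left ≫ Z.hom = pullback.fst q.left q.left ≫ Z.hom
    rw [← Over.w q, ← Category.assoc, ← pullback.condition, Category.assoc])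
  have sq : IsPullback a b q q :=
    IsPullback.of_map (Over.forget S) (Over.OverMorphism.ext pullback.condition)
      (IsPullback.of_hasPullback q.left q.left)
  have sq' : IsPullback (QuotSh.repMap Scheme.fppfPrecoverage a) (QuotSh.repMap Scheme.fppfPrecoverage b)
      (QuotSh.repMap Scheme.fppfPrecoverage q) (QuotSh.repMap Scheme.fppfPrecoverage q) := sq.map (rp S)
  haveI : IsRegularEpi (QuotSh.repMap Scheme.fppfPrecoverage q) :=
    IsRegularEpiCategory.regularEpiOfEpi (QuotSh.repMap Scheme.fppfPrecoverage q)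
  haveI : EffectiveEpi (QuotSh.repMap Scheme.fppfPrecoverage q) := (isRegularEpi_iff_effectiveEpi _).1 inferInstance
  let hc := isColimitCoforkOfEffectiveEpi (QuotSh.repMap Scheme.fppfPrecoverage q) (PullbackCone.mk _ _ sq'.w) sq'.isLimit
  exact ⟨hc.desc (Cofork.ofπ f (hf P a b sq.w)), hc.fac _ WalkingParallelPair.one⟩

end Groth.Agent.GrpdLib.RepHom
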