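import Groth.Agent.GrpdLib.ProjNorm
import Mathlib.RingTheory.TensorProduct.Basic
import Mathlib.RingTheory.LocalRing.ResidueField.Ideal
import Mathlib.RingTheory.Ideal.GoingUp
import Mathlib.RingTheory.Artinian.Module
import Mathlib.RingTheory.TensorProduct.Finite

/-!
# Affine finite locally free groupoids, on rings

A groupoid `(U, R, s, t, c)` with affine `U = Spec A`, `R = Spec B` is encoded by ring maps and a natural
composition of `T`-points for every ring `T`.
-/

set_option autoImplicit false

universe u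

open TensorProduct

namespace Groth.Agent.GrpdLib

/-- An affine groupoid, encoded on rings. -/
structure RingGrpd (A B : Type u) [CommRing A] [CommRing B] where
  /-- source -/
  s : A →+* B
  /-- target -/
  t : A →+* B
  /-- identity -/
  e : B →+* A
  /-- inverse -/
  i : B →+* B
  /-- composition of points `(α, β) ↦ α ∘ β` for `s α = t β` -/
  comp : ∀ {T : Type u} [CommRing T] (α β : B →+* T), α.comp s = β.comp t → (B →+* T)
  comp_map : ∀ {T T' : Type u} [CommRing T] [CommRing T'] (g : T →+* T') (α β : B →+* T)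
    (h : α.comp s = β.comp t) (h' : (g.comp α).comp s = (g.comp β).comp t),
    g.comp (comp α β h) = comp (g.comp α) (g.comp β) h'
  comp_s : ∀ {T : Type u} [CommRing T] (α β : B →+* T) (h : α.comp s = β.comp t),
    (comp α β h).comp s = β.comp s
  comp_t : ∀ {T : Type u} [CommRing T] (α β : B →+* T) (h : α.comp s = β.comp t),
    (comp α β h).comp t = α.comp t
  assoc : ∀ {T : Type u} [CommRing T] (α β γ : B →+* T) (h₁ : α.comp s = β.comp t) (h₂ : β.comp s = γ.comp t)
    (h₃ : (comp α β h₁).comp s = γ.comp t) (h₄ : α.comp s = (comp β γ h₂).comp t),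
    comp (comp α β h₁) γ h₃ = comp α (comp β γ h₂) h₄
  e_s : e.comp s = RingHom.id A
  e_t : e.comp t = RingHom.id A
  comp_e : ∀ {T : Type u} [CommRing T] (α : B →+* T) (h : α.comp s = ((α.comp s).comp e).comp t),
    comp α ((α.comp s).comp e) h = α
  e_comp : ∀ {T : Type u} [CommRing T] (α : B →+* T) (h : ((α.comp t).comp e).comp s = α.comp t),
    comp ((α.comp t).comp e) α h = α
  i_s : i.comp s = t
  i_t : i.comp t = s
  comp_i : ∀ {T : Type u} [CommRing T] (α : B →+* T) (h : α.comp s = (α.comp i).comp t),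
    comp α (α.comp i) h = (α.comp t).comp e
  i_comp : ∀ {T : Type u} [CommRing T] (α : B →+* T) (h : (α.comp i).comp s = α.comp t),
    comp (α.comp i) α h = (α.comp s).comp e

/-- The map out of a tensor product of commutative algebras defined by two compatible ring maps. -/
noncomputable def liftRing {A L M T : Type u} [CommRing A] [CommRing L] [CommRing M] [CommRing T] [Algebra A L]
    [Algebra A M] (g : L →+* T) (h : M →+* T) (hgh : h.comp (algebraMap A M) = g.comp (algebraMap A L)) :
    L ⊗[A] M →+* T :=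
  letI : Algebra A T := (g.comp (algebraMap A L)).toAlgebra
  (Algebra.TensorProduct.lift (A := L) (B := M) (C := T) (S := A) { g with commutes' := fun _ => rfl }
    { h with commutes' := fun a => RingHom.congr_fun hgh a } fun _ _ => .all ..).toRingHom

theorem liftRing_tmul {A L M T : Type u} [CommRing A] [CommRing L] [CommRing M] [CommRing T] [Algebra A L]
    [Algebra A M] (g : L →+* T) (h : M →+* T) (hgh : h.comp (algebraMap A M) = g.comp (algebraMap A L))
    (x : L) (y : M) : liftRing g h hgh (x ⊗ₜ[A] y) = g x * h y := by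
  simp [liftRing]

namespace RingGrpd

variable {A B : Type u} [CommRing A] [CommRing B] (G : RingGrpd A B)

/-- `B` as an algebra over `A` through the source. -/
@[nolint unusedArguments]
def SB (_ : RingGrpd A B) : Type u := B

/-- `B` as an algebra over `A` through the target. -/
@[nolint unusedArguments]
def TB (_ : RingGrpd A B) : Type u := B

instance : CommRing G.SB := inferInstanceAs (CommRing B)
instance : CommRing G.TB := inferInstanceAs (CommRing B)
noncomputable instance : Algebra A G.SB := G.s.toAlgebra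
noncomputable instance : Algebra A G.TB := G.t.toAlgebra

/-- The invariant functions. -/
def invariants : Subring A := RingHom.eqLocus G.s G.t

theorem mem_invariants {a : A} : a ∈ G.invariants ↔ G.s a = G.t a := Iff.rfl

/-- The identity section, linear over the source. -/
noncomputable def epsilon : G.SB →ₐ[A] A :=
  { (G.e : G.SB →+* A) with commutes' := fun a => RingHom.congr_fun G.e_s a }

theorem comp_congr {T : Type u} [CommRing T] {α α' β β' : B →+* T} (ha : α = α') (hb : β = β')
    (h : α.comp G.s = β.comp G.t) (h' : α'.comp G.s = β'.comp G.t) : G.comp α β h = G.comp α' β' h' := by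
  subst ha hb; rfl

/-- First projection of pairs of composable arrows. -/
noncomputable def leftT : B →+* G.TB ⊗[A] G.SB :=
  (Algebra.TensorProduct.includeLeft : G.TB →ₐ[A] G.TB ⊗[A] G.SB).toRingHom

/-- Second projection of pairs of composable arrows. -/
noncomputable def rightT : B →+* G.TB ⊗[A] G.SB :=
  (Algebra.TensorProduct.includeRight : G.SB →ₐ[A] G.TB ⊗[A] G.SB).toRingHom

/-- First projection of pairs of arrows with the same source. -/
noncomputable def leftS : B →+* G.SB ⊗[A] G.SB :=
  (Algebra.TensorProduct.includeLeft : G.SB →ₐ[A] G.SB ⊗[A] G.SB).toRingHom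

/-- Second projection of pairs of arrows with the same source. -/
noncomputable def rightS : B →+* G.SB ⊗[A] G.SB :=
  (Algebra.TensorProduct.includeRight : G.SB →ₐ[A] G.SB ⊗[A] G.SB).toRingHom

theorem rightT_s : G.rightT.comp G.s = G.leftT.comp G.t := by
  refine RingHom.ext fun a => ?_
  show (1 : G.TB) ⊗ₜ[A] (algebraMap A G.SB a) = (algebraMap A G.TB a) ⊗ₜ[A] (1 : G.SB)
  rw [Algebra.algebraMap_eq_smul_one, Algebra.algebraMap_eq_smul_one, smul_tmul]

theorem leftS_s : G.leftS.comp G.s = G.rightS.comp G.s := by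
  refine RingHom.ext fun a => ?_
  show (algebraMap A G.SB a) ⊗ₜ[A] (1 : G.SB) = (1 : G.SB) ⊗ₜ[A] (algebraMap A G.SB a)
  rw [Algebra.algebraMap_eq_smul_one, smul_tmul]

theorem ext_of_left_right {T : Type u} [CommRing T] {L M : Type u} [CommRing L] [CommRing M] [Algebra A L]
    [Algebra A M] {f g : L ⊗[A] M →+* T} (hl : ∀ x : L, f (x ⊗ₜ 1) = g (x ⊗ₜ 1))
    (hr : ∀ y : M, f (1 ⊗ₜ y) = g (1 ⊗ₜ y)) : f = g := by
  refine RingHom.ext fun z => ?_
  induction z using TensorProduct.induction_on with
  | zero => simp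
  | add x y hx hy => simp only [map_add, hx, hy]
  | tmul x y =>
    rw [show x ⊗ₜ[A] y = (x ⊗ₜ[A] (1 : M)) * ((1 : L) ⊗ₜ[A] y) by simp, map_mul, map_mul, hl, hr]

theorem rightS_compat : G.rightS.comp G.s = (G.leftS.comp G.i).comp G.t := by
  rw [RingHom.comp_assoc, G.i_t, G.leftS_s]

/-- `(α, β) ↦ (α, β ∘ α⁻¹)`. -/
noncomputable def phi : G.TB ⊗[A] G.SB →+* G.SB ⊗[A] G.SB :=
  liftRing (L := G.TB) (M := G.SB) G.leftS (G.comp G.rightS (G.leftS.comp G.i) G.rightS_compat)
    (show (G.comp G.rightS (G.leftS.comp G.i) G.rightS_compat).comp G.s = G.leftS.comp G.t by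
      rw [G.comp_s, RingHom.comp_assoc, G.i_s])

theorem phi_left (x : B) : G.phi (G.leftT x) = G.leftS x := by
  exact (liftRing_tmul (L := G.TB) (M := G.SB) _ _ _ x 1).trans ((congrArg _ (map_one _)).trans (mul_one _))

theorem phi_right (x : B) : G.phi (G.rightT x) = G.comp G.rightS (G.leftS.comp G.i) G.rightS_compat x := by
  exact (liftRing_tmul (L := G.TB) (M := G.SB) _ _ _ 1 x).trans
    ((congrArg (fun z => z * _) (map_one _)).trans (one_mul _))

/-- `(α, γ) ↦ (α, γ ∘ α)`. -/
noncomputable def psi : G.SB ⊗[A] G.SB →+* G.TB ⊗[A] G.SB :=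
  liftRing (L := G.SB) (M := G.SB) G.leftT (G.comp G.rightT G.leftT G.rightT_s)
    (G.comp_s G.rightT G.leftT G.rightT_s)

theorem psi_left (x : B) : G.psi (G.leftS x) = G.leftT x := by
  exact (liftRing_tmul (L := G.SB) (M := G.SB) _ _ _ x 1).trans ((congrArg _ (map_one _)).trans (mul_one _))

theorem psi_right (x : B) : G.psi (G.rightS x) = G.comp G.rightT G.leftT G.rightT_s x := by
  exact (liftRing_tmul (L := G.SB) (M := G.SB) _ _ _ 1 x).trans
    ((congrArg (fun z => z * _) (map_one _)).trans (one_mul _))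

theorem psi_phi (z : G.TB ⊗[A] G.SB) : G.psi (G.phi z) = z := by
  refine RingHom.congr_fun (f := G.psi.comp G.phi) (g := RingHom.id _) (ext_of_left_right ?_ ?_) z
  · refine fun (x : B) => ?_
    show G.psi (G.phi (G.leftT x)) = G.leftT x
    rw [phi_left, psi_left]
  · refine fun (y : B) => ?_
    show G.psi (G.phi (G.rightT y)) = G.rightT y
    rw [phi_right]
    refine RingHom.congr_fun (f := G.psi.comp (G.comp G.rightS (G.leftS.comp G.i) G.rightS_compat)) ?_ y
    have hc : (G.psi.comp G.rightS).comp G.s = (G.psi.comp (G.leftS.comp G.i)).comp G.t := by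
      rw [RingHom.comp_assoc, G.rightS_compat, ← RingHom.comp_assoc]
    rw [G.comp_map G.psi G.rightS (G.leftS.comp G.i) G.rightS_compat hc]
    have e1 : G.psi.comp G.rightS = G.comp G.rightT G.leftT G.rightT_s := RingHom.ext G.psi_right
    have e2 : G.psi.comp (G.leftS.comp G.i) = G.leftT.comp G.i := RingHom.ext fun x => G.psi_left (G.i x)
    have h' : (G.comp G.rightT G.leftT G.rightT_s).comp G.s = (G.leftT.comp G.i).comp G.t := by
      rw [← e1, ← e2]; exact hc
    have hli : G.leftT.comp G.s = (G.leftT.comp G.i).comp G.t := by rw [RingHom.comp_assoc, G.i_t]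
    rw [G.comp_congr e1 e2 hc h', G.assoc G.rightT G.leftT (G.leftT.comp G.i) G.rightT_s hli h'
      (by rw [G.comp_t]; exact G.rightT_s)]
    have h5 : G.rightT.comp G.s = ((G.rightT.comp G.s).comp G.e).comp G.t := by
      rw [RingHom.comp_assoc, G.e_t, RingHom.comp_id]
    rw [G.comp_congr rfl ((G.comp_i G.leftT hli).trans (by rw [← G.rightT_s]))
      (by rw [G.comp_t]; exact G.rightT_s) h5, G.comp_e G.rightT h5]

theorem phi_psi (z : G.SB ⊗[A] G.SB) : G.phi (G.psi z) = z := by
  refine RingHom.congr_fun (f := G.phi.comp G.psi) (g := RingHom.id _) (ext_of_left_right ?_ ?_) z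
  · refine fun (x : B) => ?_
    show G.phi (G.psi (G.leftS x)) = G.leftS x
    rw [psi_left, phi_left]
  · refine fun (y : B) => ?_
    show G.phi (G.psi (G.rightS y)) = G.rightS y
    rw [psi_right]
    refine RingHom.congr_fun (f := G.phi.comp (G.comp G.rightT G.leftT G.rightT_s)) ?_ y
    have hc : (G.phi.comp G.rightT).comp G.s = (G.phi.comp G.leftT).comp G.t := by
      rw [RingHom.comp_assoc, G.rightT_s, ← RingHom.comp_assoc]
    rw [G.comp_map G.phi G.rightT G.leftT G.rightT_s hc]
    have e1 : G.phi.comp G.rightT = G.comp G.rightS (G.leftS.comp G.i) G.rightS_compat := RingHom.ext G.phi_right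
    have e2 : G.phi.comp G.leftT = G.leftS := RingHom.ext G.phi_left
    have h' : (G.comp G.rightS (G.leftS.comp G.i) G.rightS_compat).comp G.s = G.leftS.comp G.t := by
      rw [← e1, ← e2]; exact hc
    have hil : (G.leftS.comp G.i).comp G.s = G.leftS.comp G.t := by rw [RingHom.comp_assoc, G.i_s]
    rw [G.comp_congr e1 e2 hc h', G.assoc G.rightS (G.leftS.comp G.i) G.leftS G.rightS_compat hil h'
      (by rw [G.comp_t]; exact G.rightS_compat)]
    have h5 : G.rightS.comp G.s = ((G.rightS.comp G.s).comp G.e).comp G.t := by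
      rw [RingHom.comp_assoc, G.e_t, RingHom.comp_id]
    rw [G.comp_congr rfl ((G.i_comp G.leftS hil).trans (by rw [G.leftS_s]))
      (by rw [G.comp_t]; exact G.rightS_compat) h5, G.comp_e G.rightS h5]

theorem phi_rightT_t (f : A) : G.phi (G.rightT (G.t f)) = G.rightS (G.t f) := by
  rw [phi_right]
  exact RingHom.congr_fun (G.comp_t G.rightS (G.leftS.comp G.i) G.rightS_compat) f

/-- The two base changes of `s` along `t` and along `s` agree. -/
noncomputable def phiEquiv : (G.TB ⊗[A] G.SB) ≃+* (G.SB ⊗[A] G.SB) :=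
  { G.phi with invFun := G.psi, left_inv := G.psi_phi, right_inv := G.phi_psi }

variable (p : ProjPres A G.SB)

/-- The base change of a presentation along the target. -/
noncomputable def presT : ProjPres G.TB (G.TB ⊗[A] G.SB) :=
  letI := Algebra.TensorProduct.rightAlgebra (R := A) (A := G.TB) (B := G.SB)
  p.baseChange G.TB (G.TB ⊗[A] G.SB)

/-- The base change of a presentation along the source. -/
noncomputable def presS : ProjPres G.SB (G.SB ⊗[A] G.SB) :=
  @ProjPres.baseChange A G.SB _ _ _ p G.SB (G.SB ⊗[A] G.SB) _ _ _ _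
    (Algebra.TensorProduct.rightAlgebra) _ _ _ _

/-- `B` seen through the target and through the source. -/
noncomputable def tsEquiv : G.TB ≃+* G.SB := RingEquiv.refl B

/-- The algebra structure transported to the target. -/
@[instance_reducible]
noncomputable def algTS : Algebra G.TB (G.SB ⊗[A] G.SB) := (G.leftS : G.TB →+* G.SB ⊗[A] G.SB).toAlgebra

/-- The comparison of the two base changes. -/
noncomputable def phiAlgEquiv :
    letI := G.algTS
    (G.TB ⊗[A] G.SB) ≃ₐ[G.TB] (G.SB ⊗[A] G.SB) :=
  letI := G.algTS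
  AlgEquiv.ofRingEquiv (f := G.phiEquiv) fun x => G.phi_left x

/-- The base change along the source, viewed over the target. -/
noncomputable def presS' :
    letI := G.algTS
    ProjPres G.TB (G.SB ⊗[A] G.SB) :=
  letI := G.algTS
  (G.presS p).transport G.tsEquiv fun _ => rfl

theorem norm_mem_invariants (f : A) : p.norm (G.t f) ∈ G.invariants := by
  let _ := G.algTS
  have h1 : (G.presT p).norm (G.rightT (G.t f)) = G.t (p.norm (G.t f)) := by
    let _ := Algebra.TensorProduct.rightAlgebra (R := A) (A := G.TB) (B := G.SB)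
    exact p.norm_baseChange (L := G.TB) (P := G.TB ⊗[A] G.SB) (G.t f)
  have h2 : (G.presS p).norm (G.rightS (G.t f)) = G.s (p.norm (G.t f)) :=
    @ProjPres.norm_baseChange A G.SB _ _ _ p G.SB (G.SB ⊗[A] G.SB) _ _ _ _
      (Algebra.TensorProduct.rightAlgebra) _ _ _ _ (G.t f)
  have h3 : G.phiAlgEquiv (G.rightT (G.t f)) = G.rightS (G.t f) := G.phi_rightT_t f
  have h4 := ProjPres.norm_algEquiv (G.presT p) (G.presS' p) G.phiAlgEquiv (G.rightT (G.t f))
  rw [h3] at h4
  have h5 : G.tsEquiv ((G.presS' p).norm (G.rightS (G.t f))) = (G.presS p).norm (G.rightS (G.t f)) :=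
    ProjPres.norm_transport _ _ _ _
  rw [mem_invariants, ← h1, ← h2, ← h5, ← h4]
  rfl

theorem charpoly_mem_invariants (f : A) (j : ℕ) : (p.charpoly (G.t f)).coeff j ∈ G.invariants := by
  let _ := G.algTS
  have h1 : (G.presT p).charpoly (G.rightT (G.t f)) = (p.charpoly (G.t f)).map (algebraMap A G.TB) := by
    let _ := Algebra.TensorProduct.rightAlgebra (R := A) (A := G.TB) (B := G.SB)
    exact p.charpoly_baseChange (L := G.TB) (P := G.TB ⊗[A] G.SB) (G.t f)
  have h2 : (G.presS p).charpoly (G.rightS (G.t f)) = (p.charpoly (G.t f)).map (algebraMap A G.SB) :=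
    @ProjPres.charpoly_baseChange A G.SB _ _ _ p G.SB (G.SB ⊗[A] G.SB) _ _ _ _
      (Algebra.TensorProduct.rightAlgebra) _ _ _ _ (G.t f)
  have h3 : G.phiAlgEquiv (G.rightT (G.t f)) = G.rightS (G.t f) := G.phi_rightT_t f
  have h4 := ProjPres.charpoly_algEquiv (G.presT p) (G.presS' p) G.phiAlgEquiv rfl (G.rightT (G.t f))
  rw [h3] at h4
  have h5 : ((G.presS' p).charpoly (G.rightS (G.t f))).map (G.tsEquiv : G.TB →+* G.SB) =
      (G.presS p).charpoly (G.rightS (G.t f)) := ProjPres.charpoly_transport _ _ _ _
  rw [← h4, h1, h2] at h5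
  have h6 := congrArg (fun q => Polynomial.coeff q j) h5
  simp only [Polynomial.coeff_map] at h6
  exact h6.symm

/-- The ring is integral over the invariants. -/
theorem isIntegralElem (p : ProjPres A G.SB) (f : A) : G.invariants.subtype.IsIntegralElem f := by
  have hp : ∀ c ∈ (p.charpoly (G.t f)).coeffs, c ∈ (G.invariants : Set A) := by
    intro c hc
    obtain ⟨j, -, rfl⟩ := Polynomial.mem_coeffs_iff.1 hc
    exact G.charpoly_mem_invariants p f j
  refine ⟨(p.charpoly (G.t f)).toSubring G.invariants hp, (Polynomial.monic_toSubring _ _ _).2 (p.charpoly_monic _), ?_⟩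
  let z : G.SB := G.t f
  have h : G.epsilon (Polynomial.aeval z (p.charpoly z)) = G.epsilon 0 := congrArg G.epsilon (p.aeval_charpoly z)
  rw [map_zero, ← Polynomial.aeval_algHom_apply,
    show G.epsilon z = f from RingHom.congr_fun G.e_t f, Polynomial.coe_aeval_eq_eval,
    show p.charpoly z = p.charpoly (G.t f) from rfl,
    ← Polynomial.map_toSubring (p.charpoly (G.t f)) G.invariants hp, Polynomial.eval_map] at h
  exact h

end RingGrpd

end Groth.Agent.GrpdLib
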