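import Groth.Agent.Stk19b.FlfQuot
import Groth.Agent.AlgSpLib.QuasiAffPts
import Groth.Agent.S0593
import Mathlib.AlgebraicGeometry.Sites.Fpqc
import Mathlib.AlgebraicGeometry.Morphisms.FlatDescent

/-! The quotient of a groupoid by a finite locally free subgroupoid which is an equivalence relation. -/

universe u

set_option autoImplicit false
set_option backward.isDefEq.respectTransparency.types false
set_option maxHeartbeats 800000

open CategoryTheory CategoryTheory.Limits AlgebraicGeometry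

namespace Groth.Agent.GrpdLib.SubQuot

variable {S : Scheme.{u}} (G : Grpd.GroupoidScheme S) {P : Scheme.{u}} (ιP : P ⟶ G.R)

theorem lift_congr {T : Scheme.{u}} {a a' b b' : T ⟶ G.R} (ha : a = a') (hb : b = b')
    (h : a ≫ G.s = b ≫ G.t) :
    pullback.lift a b h ≫ G.c = pullback.lift a' b' (ha ▸ hb ▸ h) ≫ G.c := by
  subst ha hb; rfl

variable [Mono ιP] (eP : G.U ⟶ P) (heP : eP ≫ ιP = G.e) (iP : P ⟶ P) (hiP : iP ≫ ιP = ιP ≫ G.i)
  (cP : pullback (ιP ≫ G.s) (ιP ≫ G.t) ⟶ P)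
  (hcP : cP ≫ ιP = pullback.map (ιP ≫ G.s) (ιP ≫ G.t) G.s G.t ιP ιP (𝟙 G.U) (Category.comp_id _) (Category.comp_id _) ≫ G.c)

include hcP in
theorem comp_incl {T : Scheme.{u}} (α β : T ⟶ P) (h : α ≫ ιP ≫ G.s = β ≫ ιP ≫ G.t) :
    (pullback.lift α β h ≫ cP) ≫ ιP =
      pullback.lift (α ≫ ιP) (β ≫ ιP) (by rw [Category.assoc, Category.assoc]; exact h) ≫ G.c := by
  rw [Category.assoc, hcP, ← Category.assoc]
  congr 1
  apply pullback.hom_ext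
  · rw [Category.assoc, pullback.lift_fst, pullback.lift_fst_assoc, pullback.lift_fst]
  · rw [Category.assoc, pullback.lift_snd, pullback.lift_snd_assoc, pullback.lift_snd]

/-- The subgroupoid as a groupoid scheme. -/
noncomputable def sub : Grpd.GroupoidScheme S where
  U := G.U
  R := P
  pU := G.pU
  pR := ιP ≫ G.pR
  s := ιP ≫ G.s
  t := ιP ≫ G.t
  e := eP
  i := iP
  c := cP
  s_over := by rw [Category.assoc, G.s_over]
  t_over := by rw [Category.assoc, G.t_over]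
  comp_s α β h := by
    rw [← Category.assoc _ ιP, comp_incl G ιP cP hcP α β h, G.comp_s, Category.assoc]
  comp_t α β h := by
    rw [← Category.assoc _ ιP, comp_incl G ιP cP hcP α β h, G.comp_t, Category.assoc]
  assoc α β γ h₁ h₂ := by
    rw [← cancel_mono ιP]
    refine (comp_incl G ιP cP hcP _ _ _).trans (Eq.trans ?_ (comp_incl G ιP cP hcP _ _ _).symm)
    refine (lift_congr G (comp_incl G ιP cP hcP α β h₁) rfl _).trans ?_
    refine (G.assoc _ _ _ (by simpa using h₁) (by simpa using h₂)).trans ?_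
    exact lift_congr G rfl (comp_incl G ιP cP hcP β γ h₂).symm _
  e_s := by rw [← Category.assoc, heP, G.e_s]
  e_t := by rw [← Category.assoc, heP, G.e_t]
  comp_e α := by
    rw [← cancel_mono ιP, comp_incl G ιP cP hcP]
    refine (lift_congr G rfl ?_ _).trans (G.comp_e (α ≫ ιP))
    simp only [Category.assoc, heP]
  e_comp α := by
    rw [← cancel_mono ιP, comp_incl G ιP cP hcP]
    refine (lift_congr G ?_ rfl _).trans (G.e_comp (α ≫ ιP))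
    simp only [Category.assoc, heP]
  i_s := by rw [← Category.assoc, hiP, Category.assoc, G.i_s]
  i_t := by rw [← Category.assoc, hiP, Category.assoc, G.i_t]
  comp_i α := by
    rw [← cancel_mono ιP, comp_incl G ιP cP hcP]
    refine (lift_congr G rfl (by simp only [Category.assoc, hiP]) _).trans ((G.comp_i (α ≫ ιP)).trans ?_)
    simp only [Category.assoc, heP]
  i_comp α := by
    rw [← cancel_mono ιP, comp_incl G ιP cP hcP]
    refine (lift_congr G (by simp only [Category.assoc, hiP]) rfl _).trans ((G.i_comp (α ≫ ιP)).trans ?_)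
    simp only [Category.assoc, heP]

/-- Arrows of `P` between two given `M`-equivalent points. -/
structure Rel (G : Grpd.GroupoidScheme S) (ιP : P ⟶ G.R) {M : Scheme.{u}} (m : G.U ⟶ M) (mS : M ⟶ S) where
  hm : m ≫ mS = G.pU
  sq : IsPullback (ιP ≫ G.t) (ιP ≫ G.s) m m

variable {M : Scheme.{u}} {m : G.U ⟶ M} {mS : M ⟶ S}

variable {G ιP} in
/-- The arrow `a ← b` of `P`, as an arrow of `R`. -/
noncomputable def Rel.arr (D : Rel G ιP m mS) {T : Scheme.{u}} (a b : T ⟶ G.U) (h : a ≫ m = b ≫ m) : T ⟶ G.R :=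
  D.sq.lift a b h ≫ ιP

variable {G ιP}

theorem Rel.arr_t (D : Rel G ιP m mS) {T : Scheme.{u}} (a b : T ⟶ G.U) (h : a ≫ m = b ≫ m) :
    D.arr a b h ≫ G.t = a := by
  rw [Rel.arr, Category.assoc]; exact D.sq.lift_fst _ _ _

theorem Rel.arr_s (D : Rel G ιP m mS) {T : Scheme.{u}} (a b : T ⟶ G.U) (h : a ≫ m = b ≫ m) :
    D.arr a b h ≫ G.s = b := by
  rw [Rel.arr, Category.assoc]; exact D.sq.lift_snd _ _ _

theorem Rel.arr_eq (D : Rel G ιP m mS) {T : Scheme.{u}} (a b : T ⟶ G.U) (h : a ≫ m = b ≫ m) (p : T ⟶ P)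
    (hp₁ : p ≫ ιP ≫ G.t = a) (hp₂ : p ≫ ιP ≫ G.s = b) : D.arr a b h = p ≫ ιP := by
  rw [Rel.arr]
  congr 1
  exact D.sq.hom_ext ((D.sq.lift_fst _ _ _).trans hp₁.symm) ((D.sq.lift_snd _ _ _).trans hp₂.symm)

theorem Rel.arr_comp (D : Rel G ιP m mS) {T T' : Scheme.{u}} (f : T' ⟶ T) (a b : T ⟶ G.U) (h : a ≫ m = b ≫ m) :
    f ≫ D.arr a b h = D.arr (f ≫ a) (f ≫ b) (by rw [Category.assoc, h, Category.assoc]) := by
  rw [Rel.arr, Rel.arr, ← Category.assoc]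
  congr 1
  apply D.sq.hom_ext <;> simp

include heP in
theorem Rel.arr_self (D : Rel G ιP m mS) {T : Scheme.{u}} (a : T ⟶ G.U) : D.arr a a rfl = a ≫ G.e := by
  rw [D.arr_eq a a rfl (a ≫ eP) (by rw [Category.assoc, reassoc_of% heP, G.e_t, Category.comp_id])
    (by rw [Category.assoc, reassoc_of% heP, G.e_s, Category.comp_id]), Category.assoc, heP]

include hcP in
theorem Rel.arr_trans (D : Rel G ιP m mS) {T : Scheme.{u}} (a b d : T ⟶ G.U) (h : a ≫ m = b ≫ m)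
    (h' : b ≫ m = d ≫ m) :
    cmp G (D.arr a b h) (D.arr b d h') (by rw [D.arr_s, D.arr_t]) = D.arr a d (h.trans h') := by
  have hh : D.sq.lift a b h ≫ ιP ≫ G.s = D.sq.lift b d h' ≫ ιP ≫ G.t := by
    rw [D.sq.lift_snd, D.sq.lift_fst]
  have e := comp_incl G ιP cP hcP (D.sq.lift a b h) (D.sq.lift b d h') hh
  refine e.symm.trans (D.arr_eq a d _ _ ?_ ?_).symm
  · rw [← Category.assoc, e]
    exact (G.comp_t _ _ _).trans (D.arr_t a b h)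
  · rw [← Category.assoc, e]
    exact (G.comp_s _ _ _).trans (D.arr_s b d h')

/-- `p(a ← t r) ∘ r ∘ p(s r ← b)`. -/
noncomputable def Rel.act (D : Rel G ιP m mS) {T : Scheme.{u}} (r : T ⟶ G.R) (a b : T ⟶ G.U)
    (ha : a ≫ m = (r ≫ G.t) ≫ m) (hb : (r ≫ G.s) ≫ m = b ≫ m) : T ⟶ G.R :=
  cmp G (cmp G (D.arr a (r ≫ G.t) ha) r (D.arr_s _ _ _)) (D.arr (r ≫ G.s) b hb)
    (by rw [cmp_s, D.arr_t])

theorem Rel.act_t (D : Rel G ιP m mS) {T : Scheme.{u}} (r : T ⟶ G.R) (a b : T ⟶ G.U)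
    (ha : a ≫ m = (r ≫ G.t) ≫ m) (hb : (r ≫ G.s) ≫ m = b ≫ m) : D.act r a b ha hb ≫ G.t = a := by
  rw [Rel.act, cmp_t, cmp_t, D.arr_t]

theorem Rel.act_s (D : Rel G ιP m mS) {T : Scheme.{u}} (r : T ⟶ G.R) (a b : T ⟶ G.U)
    (ha : a ≫ m = (r ≫ G.t) ≫ m) (hb : (r ≫ G.s) ≫ m = b ≫ m) : D.act r a b ha hb ≫ G.s = b := by
  rw [Rel.act, cmp_s, D.arr_s]

theorem Rel.act_congr (D : Rel G ιP m mS) {T : Scheme.{u}} {r r' : T ⟶ G.R} {a a' b b' : T ⟶ G.U}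
    (er : r = r') (ea : a = a') (eb : b = b') (ha : a ≫ m = (r ≫ G.t) ≫ m) (hb : (r ≫ G.s) ≫ m = b ≫ m) :
    D.act r a b ha hb = D.act r' a' b' (by rw [← er, ← ea]; exact ha) (by rw [← er, ← eb]; exact hb) := by
  subst er ea eb; rfl

theorem Rel.arr_congr (D : Rel G ιP m mS) {T : Scheme.{u}} {a a' b b' : T ⟶ G.U}
    (ea : a = a') (eb : b = b') (h : a ≫ m = b ≫ m) :
    D.arr a b h = D.arr a' b' (ea ▸ eb ▸ h) := by
  subst ea eb; rfl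

theorem Rel.act_comp (D : Rel G ιP m mS) {T T' : Scheme.{u}} (f : T' ⟶ T) (r : T ⟶ G.R) (a b : T ⟶ G.U)
    (ha : a ≫ m = (r ≫ G.t) ≫ m) (hb : (r ≫ G.s) ≫ m = b ≫ m) :
    f ≫ D.act r a b ha hb = D.act (f ≫ r) (f ≫ a) (f ≫ b)
      (by simp only [Category.assoc] at ha ⊢; rw [ha]) (by simp only [Category.assoc] at hb ⊢; rw [hb]) := by
  rw [Rel.act, comp_cmp, Rel.act]
  refine cmp_congr G ?_ ?_ _ _
  · rw [comp_cmp]
    refine cmp_congr G ?_ rfl _ _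
    rw [D.arr_comp]
    exact D.arr_congr rfl (Category.assoc _ _ _).symm _
  · rw [D.arr_comp]
    exact D.arr_congr (Category.assoc _ _ _).symm rfl _

theorem e_cmp {T : Scheme.{u}} (r : T ⟶ G.R) (h : (r ≫ G.t ≫ G.e) ≫ G.s = r ≫ G.t) :
    cmp G (r ≫ G.t ≫ G.e) r h = r := G.e_comp r

theorem cmp_e {T : Scheme.{u}} (r : T ⟶ G.R) (h : r ≫ G.s = (r ≫ G.s ≫ G.e) ≫ G.t) :
    cmp G r (r ≫ G.s ≫ G.e) h = r := G.comp_e r

theorem cmp_assoc {T : Scheme.{u}} (a b d : T ⟶ G.R) (h₁ : a ≫ G.s = b ≫ G.t) (h₂ : b ≫ G.s = d ≫ G.t)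
    (h₃ : cmp G a b h₁ ≫ G.s = d ≫ G.t) (h₄ : a ≫ G.s = cmp G b d h₂ ≫ G.t) :
    cmp G (cmp G a b h₁) d h₃ = cmp G a (cmp G b d h₂) h₄ := G.assoc a b d h₁ h₂

include heP in
theorem Rel.act_self (D : Rel G ιP m mS) {T : Scheme.{u}} (r : T ⟶ G.R) :
    D.act r (r ≫ G.t) (r ≫ G.s) rfl rfl = r := by
  refine (cmp_congr G ((cmp_congr G ((D.arr_self eP heP _).trans (Category.assoc _ _ _)) rfl _ ?_).trans (e_cmp r ?_))
    ((D.arr_self eP heP _).trans (Category.assoc _ _ _)) _ ?_).trans (cmp_e r ?_)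
  all_goals simp only [Category.assoc, G.e_s, G.e_t, Category.comp_id]

theorem regroup {T : Scheme.{u}} (A₁ A₂ r B₁ B₂ : T ⟶ G.R) (h₁ : A₁ ≫ G.s = A₂ ≫ G.t)
    (h₂ : A₂ ≫ G.s = r ≫ G.t) (h₃ : r ≫ G.s = B₁ ≫ G.t) (h₄ : B₁ ≫ G.s = B₂ ≫ G.t) :
    cmp G (cmp G A₁ (cmp G (cmp G A₂ r h₂) B₁ ((cmp_s G A₂ r h₂).trans h₃))
        (h₁.trans ((cmp_t G A₂ r h₂).symm.trans (cmp_t G _ B₁ _).symm))) B₂
        ((cmp_s G _ _ _).trans ((cmp_s G _ B₁ _).trans h₄)) =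
      cmp G (cmp G (cmp G A₁ A₂ h₁) r ((cmp_s G A₁ A₂ h₁).trans h₂)) (cmp G B₁ B₂ h₄)
        ((cmp_s G _ r _).trans (h₃.trans (cmp_t G B₁ B₂ h₄).symm)) := by
  have hX : cmp G A₁ (cmp G A₂ r h₂) (h₁.trans (cmp_t G A₂ r h₂).symm) =
      cmp G (cmp G A₁ A₂ h₁) r ((cmp_s G A₁ A₂ h₁).trans h₂) := (cmp_assoc A₁ A₂ r h₁ h₂ _ _).symm
  rw [cmp_congr G (cmp_assoc A₁ (cmp G A₂ r h₂) B₁ (h₁.trans (cmp_t G A₂ r h₂).symm)
    ((cmp_s G A₂ r h₂).trans h₃) ((cmp_s G _ _ _).trans ((cmp_s G A₂ r h₂).trans h₃)) _).symm rfl _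
    ((cmp_s G _ B₁ _).trans h₄)]
  rw [cmp_assoc _ B₁ B₂ _ h₄ _ ((cmp_s G _ _ _).trans ((cmp_s G A₂ r h₂).trans (h₃.trans (cmp_t G B₁ B₂ h₄).symm)))]
  exact cmp_congr G hX rfl _ _

include hcP in
theorem Rel.act_act (D : Rel G ιP m mS) {T : Scheme.{u}} (r : T ⟶ G.R) (a b a' b' : T ⟶ G.U)
    (ha : a ≫ m = (r ≫ G.t) ≫ m) (hb : (r ≫ G.s) ≫ m = b ≫ m)
    (ha' : a' ≫ m = a ≫ m) (hb' : b ≫ m = b' ≫ m) :
    D.act (D.act r a b ha hb) a' b' (ha'.trans (congrArg (· ≫ m) (D.act_t r a b ha hb).symm))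
        ((congrArg (· ≫ m) (D.act_s r a b ha hb)).trans hb') =
      D.act r a' b' (ha'.trans ha) (hb.trans hb') := by
  have h₂ : D.arr a (r ≫ G.t) ha ≫ G.s = r ≫ G.t := D.arr_s _ _ _
  have h₃ : r ≫ G.s = D.arr (r ≫ G.s) b hb ≫ G.t := (D.arr_t _ _ _).symm
  have h₄ : D.arr (r ≫ G.s) b hb ≫ G.s = D.arr b b' hb' ≫ G.t := (D.arr_s _ _ _).trans (D.arr_t _ _ _).symm
  have h₁ : D.arr a' a ha' ≫ G.s = D.arr a (r ≫ G.t) ha ≫ G.t := (D.arr_s _ _ _).trans (D.arr_t _ _ _).symm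
  have e := regroup (D.arr a' a ha') (D.arr a (r ≫ G.t) ha) r (D.arr (r ≫ G.s) b hb) (D.arr b b' hb') h₁ h₂ h₃ h₄
  unfold Rel.act
  have gen : ∀ (x : T ⟶ G.R) (hx₁ : x ≫ G.t = a) (hx₂ : x ≫ G.s = b) (hp : a' ≫ m = (x ≫ G.t) ≫ m)
      (hq : (x ≫ G.s) ≫ m = b' ≫ m) (k₁ : D.arr a' (x ≫ G.t) hp ≫ G.s = x ≫ G.t)
      (k₂ : cmp G (D.arr a' (x ≫ G.t) hp) x k₁ ≫ G.s = D.arr (x ≫ G.s) b' hq ≫ G.t),
      cmp G (cmp G (D.arr a' (x ≫ G.t) hp) x k₁) (D.arr (x ≫ G.s) b' hq) k₂ =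
        cmp G (cmp G (D.arr a' a ha') x ((D.arr_s _ _ _).trans hx₁.symm)) (D.arr b b' hb')
          ((cmp_s G _ _ _).trans (hx₂.trans (D.arr_t _ _ _).symm)) := by
    intro x hx₁ hx₂
    subst hx₁ hx₂
    intros
    rfl
  refine Eq.trans ?_ (e.trans ?_)
  · exact gen _ ((cmp_t G _ _ _).trans ((cmp_t G _ _ _).trans (D.arr_t _ _ _))) ((cmp_s G _ _ _).trans (D.arr_s _ _ _)) _ _ _ _
  · exact cmp_congr G (cmp_congr G (D.arr_trans cP hcP a' a (r ≫ G.t) ha' ha) rfl _ _)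
      (D.arr_trans cP hcP (r ≫ G.s) b b' hb hb') _ _

end Groth.Agent.GrpdLib.SubQuot
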