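import Groth.Agent.GrpdLib.SubQuot

/-! The category of `T`-points of a groupoid scheme, and calculus for the action of the subgroupoid. -/

universe u

set_option autoImplicit false
set_option backward.isDefEq.respectTransparency.types false
set_option maxHeartbeats 800000

open CategoryTheory CategoryTheory.Limits AlgebraicGeometry

namespace Groth.Agent.GrpdLib.SubQuot

variable {S : Scheme.{u}} {G : Grpd.GroupoidScheme S}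

/-- The `T`-points of the objects. -/
structure Pts (G : Grpd.GroupoidScheme S) (T : Scheme.{u}) where
  pt : T ⟶ G.U

variable {T : Scheme.{u}}

noncomputable instance : Category.{u} (Pts G T) where
  Hom b a := {r : T ⟶ G.R // r ≫ G.s = b.pt ∧ r ≫ G.t = a.pt}
  id a := ⟨a.pt ≫ G.e, by rw [Category.assoc, G.e_s, Category.comp_id],
    by rw [Category.assoc, G.e_t, Category.comp_id]⟩
  comp f g := ⟨cmp G g.1 f.1 (g.2.1.trans f.2.2.symm), (cmp_s G _ _ _).trans f.2.1, (cmp_t G _ _ _).trans g.2.2⟩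
  id_comp f := Subtype.ext ((cmp_congr G rfl ((congrArg (· ≫ G.e) f.2.1.symm).trans (Category.assoc _ _ _)) _ _).trans
    (cmp_e f.1 (by rw [Category.assoc, Category.assoc, G.e_t, Category.comp_id])))
  comp_id f := Subtype.ext ((cmp_congr G ((congrArg (· ≫ G.e) f.2.2.symm).trans (Category.assoc _ _ _)) rfl _ _).trans
    (e_cmp f.1 (by rw [Category.assoc, Category.assoc, G.e_s, Category.comp_id])))
  assoc f g h := Subtype.ext (cmp_assoc h.1 g.1 f.1 _ _ _ _).symm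

theorem Pts.comp_val {a b d : Pts G T} (f : a ⟶ b) (g : b ⟶ d) :
    (f ≫ g).1 = cmp G g.1 f.1 (g.2.1.trans f.2.2.symm) := rfl

theorem Pts.id_val (a : Pts G T) : (𝟙 a : a ⟶ a).1 = a.pt ≫ G.e := rfl

theorem Pts.inv_eq {a b : Pts G T} (f : a ⟶ b) :
    ∃ g : b ⟶ a, g.1 = f.1 ≫ G.i ∧ f ≫ g = 𝟙 a ∧ g ≫ f = 𝟙 b :=
  ⟨⟨f.1 ≫ G.i, (i_comp_s G f.1).trans f.2.2, (i_comp_t G f.1).trans f.2.1⟩, rfl,
    Subtype.ext ((G.i_comp f.1).trans (by rw [← Category.assoc, f.2.1]; rfl)),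
    Subtype.ext ((G.comp_i f.1).trans (by rw [← Category.assoc, f.2.2]; rfl))⟩

theorem Pts.val_inv {a b : Pts G T} (f : a ⟶ b) (g : b ⟶ a) (h : f ≫ g = 𝟙 a) : g.1 = f.1 ≫ G.i := by
  obtain ⟨g', hg', -, h2⟩ := Pts.inv_eq f
  rw [← hg']
  refine congrArg Subtype.val ?_
  calc g = (g' ≫ f) ≫ g := by rw [h2, Category.id_comp]
    _ = g' := by rw [Category.assoc, h, Category.comp_id]

variable {P : Scheme.{u}} {ιP : P ⟶ G.R} [Mono ιP] {M : Scheme.{u}} {m : G.U ⟶ M} {mS : M ⟶ S}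

/-- An arrow of `P` in the category of points. -/
noncomputable def Rel.hom (D : Rel G ιP m mS) (a b : Pts G T) (h : a.pt ≫ m = b.pt ≫ m) : b ⟶ a :=
  ⟨D.arr a.pt b.pt h, D.arr_s _ _ _, D.arr_t _ _ _⟩

/-- An arrow as a morphism of points. -/
noncomputable def arrowHom (r : T ⟶ G.R) : (⟨r ≫ G.s⟩ : Pts G T) ⟶ ⟨r ≫ G.t⟩ := ⟨r, rfl, rfl⟩

theorem Rel.act_eq_val (D : Rel G ιP m mS) (r : T ⟶ G.R) (a b : T ⟶ G.U)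
    (ha : a ≫ m = (r ≫ G.t) ≫ m) (hb : (r ≫ G.s) ≫ m = b ≫ m) :
    D.act r a b ha hb = ((D.hom ⟨r ≫ G.s⟩ ⟨b⟩ hb) ≫ arrowHom r ≫ D.hom ⟨a⟩ ⟨r ≫ G.t⟩ ha).1 := rfl

variable (eP : G.U ⟶ P) (heP : eP ≫ ιP = G.e) (iP : P ⟶ P) (hiP : iP ≫ ιP = ιP ≫ G.i)
  (cP : pullback (ιP ≫ G.s) (ιP ≫ G.t) ⟶ P)
  (hcP : cP ≫ ιP = pullback.map (ιP ≫ G.s) (ιP ≫ G.t) G.s G.t ιP ιP (𝟙 G.U) (Category.comp_id _) (Category.comp_id _) ≫ G.c)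

include hcP in
theorem Rel.hom_trans (D : Rel G ιP m mS) (a b d : Pts G T) (h : a.pt ≫ m = b.pt ≫ m) (h' : b.pt ≫ m = d.pt ≫ m) :
    D.hom b d h' ≫ D.hom a b h = D.hom a d (h.trans h') :=
  Subtype.ext (D.arr_trans cP hcP a.pt b.pt d.pt h h')

include heP in
theorem Rel.hom_self (D : Rel G ιP m mS) (a : Pts G T) : D.hom a a rfl = 𝟙 a :=
  Subtype.ext (D.arr_self eP heP a.pt)

include heP hcP in
/-- The composite through `P` of two acted arrows is the acted composite. -/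
theorem Rel.mid (D : Rel G ιP m mS) (r₁ r₂ : T ⟶ G.R) (a b a' b' : T ⟶ G.U)
    (ha : a ≫ m = (r₁ ≫ G.t) ≫ m) (hb : (r₁ ≫ G.s) ≫ m = b ≫ m)
    (ha' : a' ≫ m = (r₂ ≫ G.t) ≫ m) (hb' : (r₂ ≫ G.s) ≫ m = b' ≫ m) (h : b ≫ m = a' ≫ m) :
    cmp G (cmp G (D.act r₁ a b ha hb) (D.arr b a' h) ((D.act_s _ _ _ _ _).trans (D.arr_t _ _ _).symm))
        (D.act r₂ a' b' ha' hb') ((cmp_s G _ _ _).trans ((D.arr_s _ _ _).trans (D.act_t _ _ _ _ _).symm)) =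
      cmp G (cmp G (D.arr a (r₁ ≫ G.t) ha)
        (cmp G (cmp G r₁ (D.arr (r₁ ≫ G.s) (r₂ ≫ G.t) (hb.trans (h.trans ha'))) (D.arr_t _ _ _).symm) r₂
          ((cmp_s G _ _ _).trans (D.arr_s _ _ _)))
        ((D.arr_s _ _ _).trans ((cmp_t G _ _ _).trans (cmp_t G _ _ _)).symm))
        (D.arr (r₂ ≫ G.s) b' hb') ((cmp_s G _ _ _).trans ((cmp_s G _ _ _).trans (D.arr_t _ _ _).symm)) := by
  have key : (D.hom ⟨r₂ ≫ G.s⟩ ⟨b'⟩ hb' ≫ arrowHom r₂ ≫ D.hom ⟨a'⟩ ⟨r₂ ≫ G.t⟩ ha') ≫ D.hom ⟨b⟩ ⟨a'⟩ h ≫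
        (D.hom ⟨r₁ ≫ G.s⟩ ⟨b⟩ hb ≫ arrowHom r₁ ≫ D.hom ⟨a⟩ ⟨r₁ ≫ G.t⟩ ha) =
      D.hom ⟨r₂ ≫ G.s⟩ ⟨b'⟩ hb' ≫ (arrowHom r₂ ≫ D.hom ⟨r₁ ≫ G.s⟩ ⟨r₂ ≫ G.t⟩ (hb.trans (h.trans ha')) ≫ arrowHom r₁) ≫
        D.hom ⟨a⟩ ⟨r₁ ≫ G.t⟩ ha := by
    simp only [Category.assoc]
    rw [reassoc_of% D.hom_trans cP hcP ⟨b⟩ ⟨a'⟩ ⟨r₂ ≫ G.t⟩ h ha',
      reassoc_of% D.hom_trans cP hcP ⟨r₁ ≫ G.s⟩ ⟨b⟩ ⟨r₂ ≫ G.t⟩ hb (h.trans ha')]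
  exact congrArg Subtype.val key

include hcP hiP heP in
/-- The inverse of an acted arrow. -/
theorem Rel.act_i (D : Rel G ιP m mS) (r : T ⟶ G.R) (a b : T ⟶ G.U)
    (ha : a ≫ m = (r ≫ G.t) ≫ m) (hb : (r ≫ G.s) ≫ m = b ≫ m) :
    D.act r a b ha hb ≫ G.i = D.act (r ≫ G.i) b a (by rw [i_comp_t]; exact hb.symm) (by rw [i_comp_s]; exact ha.symm) := by
  obtain ⟨ri, hri, h1, h2⟩ := Pts.inv_eq (arrowHom r)
  have hg : ((D.hom ⟨r ≫ G.t⟩ ⟨a⟩ ha.symm) ≫ ri ≫ D.hom ⟨b⟩ ⟨r ≫ G.s⟩ hb.symm).1 =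
      D.act r a b ha hb ≫ G.i := by
    refine Pts.val_inv (D.hom ⟨r ≫ G.s⟩ ⟨b⟩ hb ≫ arrowHom r ≫ D.hom ⟨a⟩ ⟨r ≫ G.t⟩ ha) _ ?_
    simp only [Category.assoc]
    rw [reassoc_of% D.hom_trans cP hcP ⟨r ≫ G.t⟩ ⟨a⟩ ⟨r ≫ G.t⟩ ha.symm ha, D.hom_self eP heP, Category.id_comp,
      reassoc_of% h1, D.hom_trans cP hcP, D.hom_self eP heP]
  rw [← hg]
  have gen : ∀ (a' b' : T ⟶ G.U) (ea : a' = r ≫ G.t) (eb : b' = r ≫ G.s)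
      (x : (⟨a'⟩ : Pts G T) ⟶ ⟨b'⟩) (hx : x.1 = r ≫ G.i) (p : a' ≫ m = a ≫ m) (q : b ≫ m = b' ≫ m),
      (D.hom ⟨a'⟩ ⟨a⟩ p ≫ x ≫ D.hom ⟨b⟩ ⟨b'⟩ q).1 = D.act (r ≫ G.i) b a (by rw [i_comp_t]; exact hb.symm)
        (by rw [i_comp_s]; exact ha.symm) := by
    intro a' b' ea eb x hx p q
    obtain ⟨xv, hxs, hxt⟩ := x
    simp only at hx
    subst hx
    have ea' : a' = (r ≫ G.i) ≫ G.s := hxs.symm
    have eb' : b' = (r ≫ G.i) ≫ G.t := hxt.symm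
    subst ea' eb'
    rfl
  exact gen _ _ rfl rfl ri hri _ _

end Groth.Agent.GrpdLib.SubQuot
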