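import Groth.Agent.GrpdLib.SubQuotMain

/-! Descent of the structure maps to the quotient of arrows. -/

universe u

set_option autoImplicit false
set_option backward.isDefEq.respectTransparency.types false
set_option maxHeartbeats 800000

open CategoryTheory CategoryTheory.Limits AlgebraicGeometry

namespace Groth.Agent.GrpdLib.SubQuot

variable {S : Scheme.{u}} {G : Grpd.GroupoidScheme S} {P : Scheme.{u}} {ιP : P ⟶ G.R} [Mono ιP]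
  {M : Scheme.{u}} {m : G.U ⟶ M} {mS : M ⟶ S}
  (eP : G.U ⟶ P) (heP : eP ≫ ιP = G.e) (iP : P ⟶ P) (hiP : iP ≫ ιP = ιP ≫ G.i)
  (cP : pullback (ιP ≫ G.s) (ιP ≫ G.t) ⟶ P)
  (hcP : cP ≫ ιP = pullback.map (ιP ≫ G.s) (ιP ≫ G.t) G.s G.t ιP ιP (𝟙 G.U) (Category.comp_id _) (Category.comp_id _) ≫ G.c)
  (D : Rel G ιP m mS) {N : Scheme.{u}} {q : G.R ⟶ N}
  (sqq : IsPullback D.tE (pullback.fst (G.j ≫ D.sqMap) D.sqMap) q q)

include sqq in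
theorem Rel.act_q {T : Scheme.{u}} (r : T ⟶ G.R) (a b : T ⟶ G.U) (ha : a ≫ m = (r ≫ G.t) ≫ m)
    (hb : (r ≫ G.s) ≫ m = b ≫ m) : D.act r a b ha hb ≫ q = r ≫ q := by
  rw [← D.mkE_tE r a b ha hb, Category.assoc, sqq.w, ← Category.assoc, D.mkE_fst]

include sqq in
theorem Rel.q_end {T : Scheme.{u}} (g₁ g₂ : T ⟶ G.R) (hg : g₁ ≫ q = g₂ ≫ q) :
    ∃ (ha : (g₁ ≫ G.t) ≫ m = (g₂ ≫ G.t) ≫ m) (hb : (g₂ ≫ G.s) ≫ m = (g₁ ≫ G.s) ≫ m),
      g₁ = D.act g₂ (g₁ ≫ G.t) (g₁ ≫ G.s) ha hb := by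
  obtain ⟨x, rfl, rfl⟩ : ∃ x : T ⟶ D.E, x ≫ D.tE = g₁ ∧ x ≫ pullback.fst _ _ = g₂ :=
    ⟨sqq.lift g₁ g₂ hg, sqq.lift_fst _ _ _, sqq.lift_snd _ _ _⟩
  have e1 : (x ≫ D.tE) ≫ G.t = x ≫ pullback.snd _ _ ≫ pullback.fst G.pU G.pU := by rw [D.comp_tE, D.act_t]
  have e2 : (x ≫ D.tE) ≫ G.s = x ≫ pullback.snd _ _ ≫ pullback.snd G.pU G.pU := by rw [D.comp_tE, D.act_s]
  refine ⟨by rw [e1]; exact D.cond_t x, by rw [e2]; exact D.cond_s x, ?_⟩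
  exact (D.comp_tE x).trans (D.act_congr rfl e1.symm e2.symm _ _)

include sqq in
theorem Rel.exists_h [Flat q] [Surjective q] [QuasiCompact q] :
    ∃ h : N ⟶ pullback mS mS, q ≫ h = G.j ≫ D.sqMap := by
  refine ⟨EffectiveEpi.desc q (G.j ≫ D.sqMap) (fun g₁ g₂ hg => ?_), EffectiveEpi.fac _ _ _⟩
  obtain ⟨x, rfl, rfl⟩ : ∃ x, x ≫ D.tE = g₁ ∧ x ≫ pullback.fst (G.j ≫ D.sqMap) D.sqMap = g₂ :=
    ⟨sqq.lift g₁ g₂ hg, sqq.lift_fst _ _ _, sqq.lift_snd _ _ _⟩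
  rw [Category.assoc, Category.assoc, ← Category.assoc D.tE, D.tE_j, pullback.condition]

include eP heP cP hcP sqq in
theorem Rel.exists_e [Flat m] [Surjective m] [QuasiCompact m] : ∃ eH : M ⟶ N, m ≫ eH = G.e ≫ q := by
  refine ⟨EffectiveEpi.desc m (G.e ≫ q) (fun g₁ g₂ hg => ?_), EffectiveEpi.fac _ _ _⟩
  have hs : (g₁ ≫ G.e) ≫ G.s = g₁ := by rw [Category.assoc, G.e_s, Category.comp_id]
  have ht : (g₁ ≫ G.e) ≫ G.t = g₁ := by rw [Category.assoc, G.e_t, Category.comp_id]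
  have h1 := D.act_q sqq (g₁ ≫ G.e) g₂ g₂ (hg.symm.trans (congrArg (· ≫ m) ht).symm)
    ((congrArg (· ≫ m) hs).trans hg)
  have h2 : D.act (g₁ ≫ G.e) g₂ g₂ (hg.symm.trans (congrArg (· ≫ m) ht).symm)
      ((congrArg (· ≫ m) hs).trans hg) = g₂ ≫ G.e := by
    refine (cmp_congr G ?_ (D.arr_congr hs rfl _) _
      ((D.arr_s _ _ _).trans (D.arr_t g₁ g₂ hg).symm : D.arr g₂ g₁ hg.symm ≫ G.s = _)).trans
      ((D.arr_trans cP hcP g₂ g₁ g₂ hg.symm hg).trans (D.arr_self eP heP g₂))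
    refine (cmp_congr G (D.arr_congr rfl ht _) ((congrArg (· ≫ G.e) (D.arr_s g₂ g₁ hg.symm).symm).trans
      (Category.assoc _ _ _)) _ ?_).trans (cmp_e _ ?_)
    all_goals exact ((Category.assoc _ _ _).trans (congrArg (_ ≫ ·) ((Category.assoc _ _ _).trans
      ((congrArg (G.s ≫ ·) G.e_t).trans (Category.comp_id _))))).symm
  rw [h2] at h1
  rw [← Category.assoc, ← Category.assoc]
  exact h1.symm

include eP heP iP hiP cP hcP sqq in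
theorem Rel.exists_i [Flat q] [Surjective q] [QuasiCompact q] : ∃ iH : N ⟶ N, q ≫ iH = G.i ≫ q := by
  refine ⟨EffectiveEpi.desc q (G.i ≫ q) (fun g₁ g₂ hg => ?_), EffectiveEpi.fac _ _ _⟩
  obtain ⟨ha, hb, he⟩ := D.q_end sqq g₁ g₂ hg
  rw [← Category.assoc, ← Category.assoc, he, D.act_i eP heP iP hiP cP hcP, D.act_q sqq]

/-- Composition of arrows through an arrow of `P`. -/
noncomputable def Rel.comp3 {T : Scheme.{u}} (r₁ r₂ : T ⟶ G.R) (hr : (r₁ ≫ G.s) ≫ m = (r₂ ≫ G.t) ≫ m) :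
    T ⟶ G.R :=
  cmp G (cmp G r₁ (D.arr (r₁ ≫ G.s) (r₂ ≫ G.t) hr) (D.arr_t _ _ _).symm) r₂ ((cmp_s G _ _ _).trans (D.arr_s _ _ _))

theorem Rel.comp3_congr {T : Scheme.{u}} {r₁ r₁' r₂ r₂' : T ⟶ G.R} (e1 : r₁ = r₁') (e2 : r₂ = r₂')
    (hr : (r₁ ≫ G.s) ≫ m = (r₂ ≫ G.t) ≫ m) : D.comp3 r₁ r₂ hr = D.comp3 r₁' r₂' (e1 ▸ e2 ▸ hr) := by
  subst e1 e2; rfl

theorem Rel.comp_comp3 {T T' : Scheme.{u}} (f : T' ⟶ T) (r₁ r₂ : T ⟶ G.R)
    (hr : (r₁ ≫ G.s) ≫ m = (r₂ ≫ G.t) ≫ m) :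
    f ≫ D.comp3 r₁ r₂ hr = D.comp3 (f ≫ r₁) (f ≫ r₂) (by simp only [Category.assoc] at hr ⊢; rw [hr]) := by
  rw [Rel.comp3, comp_cmp, Rel.comp3]
  refine cmp_congr G ?_ rfl _ _
  rw [comp_cmp]
  refine cmp_congr G rfl ?_ _ _
  rw [D.arr_comp]
  exact D.arr_congr (Category.assoc _ _ _).symm (Category.assoc _ _ _).symm _

include eP heP cP hcP sqq in
theorem Rel.comp3_inv {T : Scheme.{u}} (r₁ r₂ : T ⟶ G.R) (a b a' b' : T ⟶ G.U) (ha : a ≫ m = (r₁ ≫ G.t) ≫ m)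
    (hb : (r₁ ≫ G.s) ≫ m = b ≫ m) (ha' : a' ≫ m = (r₂ ≫ G.t) ≫ m) (hb' : (r₂ ≫ G.s) ≫ m = b' ≫ m)
    (hr : b ≫ m = a' ≫ m) (hr' : (D.act r₁ a b ha hb ≫ G.s) ≫ m = (D.act r₂ a' b' ha' hb' ≫ G.t) ≫ m) :
    D.comp3 (D.act r₁ a b ha hb) (D.act r₂ a' b' ha' hb') hr' ≫ q = D.comp3 r₁ r₂ (hb.trans (hr.trans ha')) ≫ q := by
  have e := D.mid eP heP cP hcP r₁ r₂ a b a' b' ha hb ha' hb' hr
  have e' : D.comp3 (D.act r₁ a b ha hb) (D.act r₂ a' b' ha' hb') hr' =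
      cmp G (cmp G (D.act r₁ a b ha hb) (D.arr b a' hr) ((D.act_s _ _ _ _ _).trans (D.arr_t _ _ _).symm))
        (D.act r₂ a' b' ha' hb') ((cmp_s G _ _ _).trans ((D.arr_s _ _ _).trans (D.act_t _ _ _ _ _).symm)) :=
    cmp_congr G (cmp_congr G rfl (D.arr_congr (D.act_s _ _ _ _ _) (D.act_t _ _ _ _ _) _) _ _) rfl _ _
  rw [e', e]
  have et : D.comp3 r₁ r₂ (hb.trans (hr.trans ha')) ≫ G.t = r₁ ≫ G.t := (cmp_t G _ _ _).trans (cmp_t G _ _ _)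
  have es : D.comp3 r₁ r₂ (hb.trans (hr.trans ha')) ≫ G.s = r₂ ≫ G.s := cmp_s G _ _ _
  refine Eq.trans (congrArg (· ≫ q) ?_) (D.act_q sqq (D.comp3 r₁ r₂ (hb.trans (hr.trans ha'))) a b'
    (by rw [et]; exact ha) (by rw [es]; exact hb'))
  exact cmp_congr G (cmp_congr G (D.arr_congr rfl et.symm _) rfl _ _) (D.arr_congr es.symm rfl _) _ _

variable {sH tH : N ⟶ M}

include eP heP cP hcP sqq in
theorem Rel.exists_c [Flat q] [Surjective q] [QuasiCompact q] (hsH : q ≫ sH = G.s ≫ m) (htH : q ≫ tH = G.t ≫ m) :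
    ∃ cH : pullback sH tH ⟶ N, ∀ {T : Scheme.{u}} (x₁ x₂ : T ⟶ G.R) (hx : x₁ ≫ G.s = x₂ ≫ G.t)
      (hy : (x₁ ≫ q) ≫ sH = (x₂ ≫ q) ≫ tH), pullback.lift (x₁ ≫ q) (x₂ ≫ q) hy ≫ cH = cmp G x₁ x₂ hx ≫ q := by
  let qq : pullback (G.s ≫ m) (G.t ≫ m) ⟶ pullback sH tH :=
    pullback.map (G.s ≫ m) (G.t ≫ m) sH tH q q (𝟙 M) ((Category.comp_id _).trans hsH.symm)
      ((Category.comp_id _).trans htH.symm)
  have : Flat qq := MorphismProperty.pullbackMap (P := @Flat) ‹_› ‹_› hsH.symm htH.symm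
  have : Surjective qq := MorphismProperty.pullbackMap (P := @Surjective) ‹_› ‹_› hsH.symm htH.symm
  have : QuasiCompact qq := MorphismProperty.pullbackMap (P := @QuasiCompact) ‹_› ‹_› hsH.symm htH.symm
  have qq_fst : qq ≫ pullback.fst sH tH = pullback.fst _ _ ≫ q := pullback.lift_fst _ _ _
  have qq_snd : qq ≫ pullback.snd sH tH = pullback.snd _ _ ≫ q := pullback.lift_snd _ _ _
  have hcond : ∀ {T : Scheme.{u}} (w : T ⟶ pullback (G.s ≫ m) (G.t ≫ m)),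
      ((w ≫ pullback.fst _ _) ≫ G.s) ≫ m = ((w ≫ pullback.snd _ _) ≫ G.t) ≫ m := fun w => by
    simp only [Category.assoc, pullback.condition]
  refine ⟨EffectiveEpi.desc qq
    (D.comp3 (𝟙 _ ≫ pullback.fst (G.s ≫ m) (G.t ≫ m)) (𝟙 _ ≫ pullback.snd _ _) (hcond (𝟙 _)) ≫ q)
    (fun g₁ g₂ hg => ?_), fun x₁ x₂ hx hy => ?_⟩
  · rw [← Category.assoc g₁, ← Category.assoc g₂, D.comp_comp3, D.comp_comp3]
    have h1 : (g₁ ≫ pullback.fst _ _) ≫ q = (g₂ ≫ pullback.fst _ _) ≫ q := by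
      rw [Category.assoc, ← qq_fst, reassoc_of% hg, qq_fst, Category.assoc]
    have h2 : (g₁ ≫ pullback.snd _ _) ≫ q = (g₂ ≫ pullback.snd _ _) ≫ q := by
      rw [Category.assoc, ← qq_snd, reassoc_of% hg, qq_snd, Category.assoc]
    obtain ⟨ha, hb, he⟩ := D.q_end sqq _ _ h1
    obtain ⟨ha', hb', he'⟩ := D.q_end sqq _ _ h2
    refine (congrArg (· ≫ q) (D.comp3_congr
      ((congrArg (g₁ ≫ ·) (Category.id_comp _)).trans he) ((congrArg (g₁ ≫ ·) (Category.id_comp _)).trans he') _)).trans ?_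
    refine (D.comp3_inv eP heP cP hcP sqq (g₂ ≫ pullback.fst _ _) (g₂ ≫ pullback.snd _ _) _ _ _ _ ha hb ha' hb'
      (hcond g₁) _).trans ?_
    exact congrArg (· ≫ q) (D.comp3_congr (congrArg (g₂ ≫ ·) (Category.id_comp _)).symm
      (congrArg (g₂ ≫ ·) (Category.id_comp _)).symm _)
  · have hm' : x₁ ≫ G.s ≫ m = x₂ ≫ G.t ≫ m := by rw [← Category.assoc, hx, Category.assoc]
    have hw : pullback.lift (x₁ ≫ q) (x₂ ≫ q) hy = pullback.lift x₁ x₂ hm' ≫ qq := by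
      apply pullback.hom_ext
      · rw [pullback.lift_fst, Category.assoc, qq_fst, pullback.lift_fst_assoc]
      · rw [pullback.lift_snd, Category.assoc, qq_snd, pullback.lift_snd_assoc]
    rw [hw, Category.assoc, EffectiveEpi.fac, ← Category.assoc, D.comp_comp3]
    refine congrArg (· ≫ q) ((D.comp3_congr (show _ = x₁ by rw [Category.id_comp, pullback.lift_fst])
      (show _ = x₂ by rw [Category.id_comp, pullback.lift_snd]) _).trans ?_)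
    refine cmp_congr G ((cmp_congr G rfl ((D.arr_congr rfl hx.symm _).trans ((D.arr_self eP heP _).trans
      (Category.assoc _ _ _))) _ ?_).trans (cmp_e _ ?_)) rfl _ hx
    all_goals rw [Category.assoc, Category.assoc, G.e_t, Category.comp_id]

end Groth.Agent.GrpdLib.SubQuot
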