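import Groth.Agent.GrpdLib.SubQuotDesc

/-! Assembly of the quotient groupoid. -/

universe u

set_option autoImplicit false
set_option backward.isDefEq.respectTransparency.types false
set_option maxHeartbeats 800000

open CategoryTheory CategoryTheory.Limits AlgebraicGeometry

namespace Groth.Agent.GrpdLib.SubQuot

variable {S : Scheme.{u}} {G : Grpd.GroupoidScheme S} {P : Scheme.{u}} {ιP : P ⟶ G.R} [Mono ιP]
  {M : Scheme.{u}} {m : G.U ⟶ M} {mS : M ⟶ S}
  (eP : G.U ⟶ P) (heP : eP ≫ ιP = G.e) (iP : P ⟶ P) (hiP : iP ≫ ιP = ιP ≫ G.i)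
  (cP : pullback (ιP ≫ G.s) (ιP ≫ G.t) ⟶ P)
  (hcP : cP ≫ ιP = pullback.map (ιP ≫ G.s) (ιP ≫ G.t) G.s G.t ιP ιP (𝟙 G.U) (Category.comp_id _) (Category.comp_id _) ≫ G.c)
  (D : Rel G ιP m mS) {N : Scheme.{u}} {q : G.R ⟶ N}
  (sqq : IsPullback D.tE (pullback.fst (G.j ≫ D.sqMap) D.sqMap) q q)
  {sH tH : N ⟶ M} {cH : pullback sH tH ⟶ N}

theorem exists_lift1 [Flat q] [Surjective q] [QuasiCompact q] {T : Scheme.{u}} (α : T ⟶ N) :
    ∃ (T' : Scheme.{u}) (f : T' ⟶ T) (α' : T' ⟶ G.R), Epi f ∧ f ≫ α = α' ≫ q :=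
  ⟨pullback α q, pullback.fst α q, pullback.snd α q, inferInstance, pullback.condition⟩

include sqq in
theorem Rel.exists_lift2 [Flat q] [Surjective q] [QuasiCompact q] (hsH : q ≫ sH = G.s ≫ m)
    (htH : q ≫ tH = G.t ≫ m) {T : Scheme.{u}} (α β : T ⟶ N) (hab : α ≫ sH = β ≫ tH) :
    ∃ (T' : Scheme.{u}) (f : T' ⟶ T) (α' β' : T' ⟶ G.R), Epi f ∧ f ≫ α = α' ≫ q ∧ f ≫ β = β' ≫ q ∧
      α' ≫ G.s = β' ≫ G.t := by
  obtain ⟨T₁, f₁, α₁, _, hα⟩ := exists_lift1 (q := q) α
  obtain ⟨T₂, f₂, β₂, _, hβ⟩ := exists_lift1 (q := q) (f₁ ≫ β)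
  have hm' : ((f₂ ≫ α₁) ≫ G.s) ≫ m = (β₂ ≫ G.t) ≫ m := by
    rw [Category.assoc _ G.s, ← hsH, Category.assoc _ G.t, ← htH, Category.assoc, ← reassoc_of% hα,
      ← reassoc_of% hβ, hab]
  refine ⟨T₂, f₂ ≫ f₁, f₂ ≫ α₁, D.act β₂ ((f₂ ≫ α₁) ≫ G.s) (β₂ ≫ G.s) hm' rfl, epi_comp _ _, ?_, ?_, ?_⟩
  · rw [Category.assoc, hα, Category.assoc]
  · rw [Category.assoc, hβ, D.act_q sqq]
  · rw [D.act_t]

theorem eval2 (hc : ∀ {T : Scheme.{u}} (x₁ x₂ : T ⟶ G.R) (hx : x₁ ≫ G.s = x₂ ≫ G.t)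
      (hy : (x₁ ≫ q) ≫ sH = (x₂ ≫ q) ≫ tH), pullback.lift (x₁ ≫ q) (x₂ ≫ q) hy ≫ cH = cmp G x₁ x₂ hx ≫ q)
    {T T' : Scheme.{u}} (f : T' ⟶ T) (α β : T ⟶ N) (h : α ≫ sH = β ≫ tH) (α' β' : T' ⟶ G.R)
    (ha : f ≫ α = α' ≫ q) (hb : f ≫ β = β' ≫ q) (hx : α' ≫ G.s = β' ≫ G.t) :
    f ≫ pullback.lift α β h ≫ cH = cmp G α' β' hx ≫ q := by
  have hy : (α' ≫ q) ≫ sH = (β' ≫ q) ≫ tH := by rw [← ha, ← hb, Category.assoc, h, Category.assoc]
  rw [← Category.assoc, show f ≫ pullback.lift α β h = pullback.lift (α' ≫ q) (β' ≫ q) hy from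
    pullback.hom_ext (by rw [Category.assoc, pullback.lift_fst, ha, pullback.lift_fst])
      (by rw [Category.assoc, pullback.lift_snd, hb, pullback.lift_snd]), hc α' β' hx hy]

include sqq in
theorem Rel.isPullback_h [Flat q] [Surjective q] [QuasiCompact q] (h : N ⟶ pullback mS mS)
    (hh : q ≫ h = G.j ≫ D.sqMap) : IsPullback q G.j h D.sqMap := by
  let κ : G.R ⟶ pullback h D.sqMap := pullback.lift q G.j hh
  let q' : D.E ⟶ pullback h D.sqMap :=
    pullback.lift (pullback.fst _ _ ≫ q) (pullback.snd _ _) (by rw [Category.assoc, hh]; exact pullback.condition)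
  have hq' : IsPullback (pullback.fst (G.j ≫ D.sqMap) D.sqMap) q' q (pullback.fst h D.sqMap) := by
    refine IsPullback.of_bot (h₃₁ := D.sqMap) (h₂₁ := pullback.fst h D.sqMap) (v₂₁ := pullback.snd h D.sqMap)
      (v₂₂ := h) ?_ (pullback.lift_fst _ _ _).symm (IsPullback.of_hasPullback h D.sqMap)
    rw [pullback.lift_snd, hh]
    exact IsPullback.of_hasPullback _ _
  have : Flat q' := MorphismProperty.of_isPullback (P := @Flat) hq' ‹_›
  have : Surjective q' := MorphismProperty.of_isPullback (P := @Surjective) hq' ‹_›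
  have : QuasiCompact q' := MorphismProperty.of_isPullback (P := @QuasiCompact) hq' ‹_›
  have hκ : IsPullback (𝟙 D.E) D.tE q' κ := by
    refine IsPullback.of_isLimit (f := q') (g := κ) (c := PullbackCone.mk (𝟙 D.E) D.tE ?_) (PullbackCone.IsLimit.mk _ (fun w => w.fst) (fun w => Category.comp_id _) ?_
      (fun w k h1 _ => (Category.comp_id k).symm.trans h1))
    · rw [Category.id_comp]
      apply pullback.hom_ext
      · rw [pullback.lift_fst, Category.assoc, pullback.lift_fst, sqq.w]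
      · rw [pullback.lift_snd, Category.assoc, pullback.lift_snd, D.tE_j]
    · intro w
      have h1 : (w.fst ≫ pullback.fst _ _) ≫ q = w.snd ≫ q := by
        have := congrArg (· ≫ pullback.fst h D.sqMap) w.condition
        simp only [q', κ, Category.assoc, pullback.lift_fst, pullback.lift_snd] at this ⊢
        exact this
      have h2 : w.fst ≫ pullback.snd _ _ = w.snd ≫ G.j := by
        have := congrArg (· ≫ pullback.snd h D.sqMap) w.condition
        simp only [q', κ, Category.assoc, pullback.lift_fst, pullback.lift_snd] at this ⊢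
        exact this
      obtain ⟨ha, hb, he⟩ := D.q_end sqq _ _ h1.symm
      show w.fst ≫ D.tE = w.snd
      refine (D.comp_tE w.fst).trans ((D.act_congr rfl ?_ ?_ _ _).trans he.symm)
      · rw [reassoc_of% h2, j_fst]
      · rw [reassoc_of% h2, j_snd]
  have : IsIso κ := MorphismProperty.of_isPullback_of_descendsAlong (P := MorphismProperty.isomorphisms Scheme)
    (Q := @Surjective ⊓ @Flat ⊓ @QuasiCompact) hκ ⟨⟨inferInstance, inferInstance⟩, inferInstance⟩
    (inferInstanceAs (IsIso (𝟙 D.E)))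
  exact IsPullback.of_iso_pullback ⟨hh⟩ (asIso κ) (pullback.lift_fst _ _ _) (pullback.lift_snd _ _ _)


include eP heP iP hiP cP hcP sqq in
/-- The quotient groupoid on `M`, given the quotient `q` of the arrows. -/
theorem Rel.exists_quotient_grpd [Flat m] [Surjective m] [QuasiCompact m] [Flat q] [Surjective q]
    [QuasiCompact q] :
    ∃ (H : Grpd.GroupoidScheme S) (φ : Grpd.GroupoidScheme.Hom G H) (hU : H.U = M),
      φ.fU ≫ eqToHom hU = m ∧ eqToHom hU ≫ mS = H.pU ∧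
      IsPullback φ.fR G.j H.j
        (pullback.map G.pU G.pU H.pU H.pU φ.fU φ.fU (𝟙 S)
          ((Category.comp_id _).trans φ.fU_over.symm) ((Category.comp_id _).trans φ.fU_over.symm)) := by
  obtain ⟨h, hh⟩ := D.exists_h sqq
  obtain ⟨eH, heH⟩ := D.exists_e eP heP cP hcP sqq
  obtain ⟨iH, hiH⟩ := D.exists_i eP heP iP hiP cP hcP sqq
  let tH : N ⟶ M := h ≫ pullback.fst mS mS
  let sH : N ⟶ M := h ≫ pullback.snd mS mS
  have htH : q ≫ tH = G.t ≫ m := by
    rw [reassoc_of% hh, D.sqMap_fst, reassoc_of% j_fst (G := G)]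
  have hsH : q ≫ sH = G.s ≫ m := by
    rw [reassoc_of% hh, D.sqMap_snd, reassoc_of% j_snd (G := G)]
  obtain ⟨cH, hc⟩ := D.exists_c eP heP cP hcP sqq hsH htH
  have he_t : eH ≫ tH = 𝟙 M := by
    rw [← cancel_epi m, reassoc_of% heH, htH, reassoc_of% G.e_t, Category.comp_id]
  have he_s : eH ≫ sH = 𝟙 M := by
    rw [← cancel_epi m, reassoc_of% heH, hsH, reassoc_of% G.e_s, Category.comp_id]
  have hi_t : iH ≫ tH = sH := by
    rw [← cancel_epi q, reassoc_of% hiH, htH, reassoc_of% G.i_t, hsH]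
  have hi_s : iH ≫ sH = tH := by
    rw [← cancel_epi q, reassoc_of% hiH, hsH, reassoc_of% G.i_s, htH]
  have hcs : ∀ {T : Scheme.{u}} (α β : T ⟶ N) (hab : α ≫ sH = β ≫ tH),
      (pullback.lift α β hab ≫ cH) ≫ sH = β ≫ sH ∧ (pullback.lift α β hab ≫ cH) ≫ tH = α ≫ tH := by
    intro T α β hab
    obtain ⟨T', f, α', β', _, ha, hb, hx⟩ := D.exists_lift2 sqq hsH htH α β hab
    constructor <;> rw [← cancel_epi f]
    · rw [← Category.assoc, eval2 hc f α β hab α' β' ha hb hx, reassoc_of% hb, Category.assoc, hsH,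
        ← Category.assoc, cmp_s, Category.assoc]
    · rw [← Category.assoc, eval2 hc f α β hab α' β' ha hb hx, reassoc_of% ha, Category.assoc, htH,
        ← Category.assoc, cmp_t, Category.assoc]
  let H : Grpd.GroupoidScheme S :=
    { U := M
      R := N
      pU := mS
      pR := h ≫ pullback.fst mS mS ≫ mS
      s := sH
      t := tH
      e := eH
      i := iH
      c := cH
      s_over := by rw [Category.assoc, ← pullback.condition]
      t_over := by rw [Category.assoc]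
      comp_s := fun α β hαβ => (hcs α β hαβ).1
      comp_t := fun α β hαβ => (hcs α β hαβ).2
      assoc := fun {T} α β γ h₁ h₂ => by
        obtain ⟨T₁, f₁, α₁, β₁, _, ha, hb, hx⟩ := D.exists_lift2 sqq hsH htH α β h₁
        obtain ⟨T₂, f₂, γ₂, _, hc'⟩ := exists_lift1 (q := q) (f₁ ≫ γ)
        have hm' : ((f₂ ≫ β₁) ≫ G.s) ≫ m = (γ₂ ≫ G.t) ≫ m := by
          rw [Category.assoc _ G.s, ← hsH, Category.assoc _ G.t, ← htH, Category.assoc, ← reassoc_of% hb,
            ← reassoc_of% hc', h₂]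
        let γ' := D.act γ₂ ((f₂ ≫ β₁) ≫ G.s) (γ₂ ≫ G.s) hm' rfl
        have hx' : (f₂ ≫ α₁) ≫ G.s = (f₂ ≫ β₁) ≫ G.t := by rw [Category.assoc, hx, Category.assoc]
        have hy' : (f₂ ≫ β₁) ≫ G.s = γ' ≫ G.t := (D.act_t _ _ _ _ _).symm
        have hA : (f₂ ≫ f₁) ≫ α = (f₂ ≫ α₁) ≫ q := by rw [Category.assoc, ha, Category.assoc]
        have hB : (f₂ ≫ f₁) ≫ β = (f₂ ≫ β₁) ≫ q := by rw [Category.assoc, hb, Category.assoc]
        have hC : (f₂ ≫ f₁) ≫ γ = γ' ≫ q := by rw [Category.assoc, hc', D.act_q sqq]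
        rw [← cancel_epi (f₂ ≫ f₁)]
        refine (eval2 hc (f₂ ≫ f₁) _ γ _ (cmp G _ _ hx') γ' ?_ hC ((cmp_s G _ _ _).trans hy')).trans ?_
        · exact eval2 hc (f₂ ≫ f₁) α β h₁ _ _ hA hB hx'
        refine Eq.trans ?_ (eval2 hc (f₂ ≫ f₁) α _ _ (f₂ ≫ α₁) (cmp G _ _ hy') hA ?_
          (hx'.trans (cmp_t G _ _ _).symm)).symm
        · exact congrArg (· ≫ q) (cmp_assoc _ _ _ _ _ _ _)
        · exact eval2 hc (f₂ ≫ f₁) β γ h₂ _ _ hB hC hy'
      e_s := he_s
      e_t := he_t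
      comp_e := fun {T} α => by
        obtain ⟨T', f, α', _, ha⟩ := exists_lift1 (q := q) α
        rw [← cancel_epi f]
        refine (eval2 hc f α _ _ α' (α' ≫ G.s ≫ G.e) ha ?_ ?_).trans ?_
        · rw [reassoc_of% ha, reassoc_of% hsH, heH, Category.assoc, Category.assoc]
        · rw [Category.assoc, Category.assoc, G.e_t, Category.comp_id]
        · rw [cmp_e, ha]
      e_comp := fun {T} α => by
        obtain ⟨T', f, α', _, ha⟩ := exists_lift1 (q := q) α
        rw [← cancel_epi f]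
        refine (eval2 hc f _ α _ (α' ≫ G.t ≫ G.e) α' ?_ ha ?_).trans ?_
        · rw [reassoc_of% ha, reassoc_of% htH, heH, Category.assoc, Category.assoc]
        · rw [Category.assoc, Category.assoc, G.e_s, Category.comp_id]
        · rw [e_cmp, ha]
      i_s := hi_s
      i_t := hi_t
      comp_i := fun {T} α => by
        obtain ⟨T', f, α', _, ha⟩ := exists_lift1 (q := q) α
        rw [← cancel_epi f]
        refine (eval2 hc f α _ _ α' (α' ≫ G.i) ha ?_ (i_comp_t G α').symm).trans ?_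
        · rw [reassoc_of% ha, hiH, Category.assoc]
        · rw [show cmp G α' (α' ≫ G.i) (i_comp_t G α').symm = α' ≫ G.t ≫ G.e from G.comp_i α', reassoc_of% ha,
            reassoc_of% htH, heH, Category.assoc, Category.assoc]
      i_comp := fun {T} α => by
        obtain ⟨T', f, α', _, ha⟩ := exists_lift1 (q := q) α
        rw [← cancel_epi f]
        refine (eval2 hc f _ α _ (α' ≫ G.i) α' ?_ ha (i_comp_s G α')).trans ?_
        · rw [reassoc_of% ha, hiH, Category.assoc]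
        · rw [show cmp G (α' ≫ G.i) α' (i_comp_s G α') = α' ≫ G.s ≫ G.e from G.i_comp α', reassoc_of% ha,
            reassoc_of% hsH, heH, Category.assoc, Category.assoc] }
  let φ : Grpd.GroupoidScheme.Hom G H :=
    { fU := m
      fR := q
      fU_over := D.hm
      comm_s := hsH
      comm_t := htH
      comm_c := fun α β hαβ => (hc α β hαβ _).symm }
  refine ⟨H, φ, rfl, Category.comp_id _, Category.id_comp _, ?_⟩
  have hj : H.j = h := by
    apply pullback.hom_ext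
    · exact pullback.lift_fst _ _ _
    · exact pullback.lift_snd _ _ _
  rw [hj]
  show IsPullback q G.j h D.sqMap
  exact D.isPullback_h sqq h hh

end Groth.Agent.GrpdLib.SubQuot
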