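import Groth.Agent.GrpdLib.SubQuotCat

/-! Construction of the quotient groupoid. -/

universe u

set_option autoImplicit false
set_option backward.isDefEq.respectTransparency.types false
set_option maxHeartbeats 1600000

open CategoryTheory CategoryTheory.Limits AlgebraicGeometry

namespace Groth.Agent.GrpdLib.SubQuot

variable {S : Scheme.{u}} {G : Grpd.GroupoidScheme S} {P : Scheme.{u}} {ιP : P ⟶ G.R} [Mono ιP]
  {M : Scheme.{u}} {m : G.U ⟶ M} {mS : M ⟶ S}
  (eP : G.U ⟶ P) (heP : eP ≫ ιP = G.e) (iP : P ⟶ P) (hiP : iP ≫ ιP = ιP ≫ G.i)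
  (cP : pullback (ιP ≫ G.s) (ιP ≫ G.t) ⟶ P)
  (hcP : cP ≫ ιP = pullback.map (ιP ≫ G.s) (ιP ≫ G.t) G.s G.t ιP ιP (𝟙 G.U) (Category.comp_id _) (Category.comp_id _) ≫ G.c)
  (D : Rel G ιP m mS)

/-- `U ×_S U ⟶ M ×_S M`. -/
noncomputable def Rel.sqMap : pullback G.pU G.pU ⟶ pullback mS mS :=
  pullback.map G.pU G.pU mS mS m m (𝟙 S) ((Category.comp_id _).trans D.hm.symm) ((Category.comp_id _).trans D.hm.symm)

/-- Arrows together with a new pair of end points. -/
noncomputable abbrev Rel.E : Scheme.{u} := pullback (G.j ≫ D.sqMap) D.sqMap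

theorem j_fst : G.j ≫ pullback.fst G.pU G.pU = G.t := pullback.lift_fst _ _ _

theorem j_snd : G.j ≫ pullback.snd G.pU G.pU = G.s := pullback.lift_snd _ _ _

theorem Rel.sqMap_fst : D.sqMap ≫ pullback.fst mS mS = pullback.fst G.pU G.pU ≫ m := pullback.lift_fst _ _ _

theorem Rel.sqMap_snd : D.sqMap ≫ pullback.snd mS mS = pullback.snd G.pU G.pU ≫ m := pullback.lift_snd _ _ _

theorem Rel.cond_t {T : Scheme.{u}} (x : T ⟶ D.E) :
    (x ≫ pullback.snd _ _ ≫ pullback.fst G.pU G.pU) ≫ m = ((x ≫ pullback.fst (G.j ≫ D.sqMap) D.sqMap) ≫ G.t) ≫ m := by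
  have h := congrArg (fun w => x ≫ w ≫ pullback.fst mS mS) (pullback.condition (f := G.j ≫ D.sqMap) (g := D.sqMap))
  simp only [Category.assoc, D.sqMap_fst, reassoc_of% j_fst (G := G)] at h ⊢
  exact h.symm

theorem Rel.cond_s {T : Scheme.{u}} (x : T ⟶ D.E) :
    ((x ≫ pullback.fst (G.j ≫ D.sqMap) D.sqMap) ≫ G.s) ≫ m = (x ≫ pullback.snd _ _ ≫ pullback.snd G.pU G.pU) ≫ m := by
  have h := congrArg (fun w => x ≫ w ≫ pullback.snd mS mS) (pullback.condition (f := G.j ≫ D.sqMap) (g := D.sqMap))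
  simp only [Category.assoc, D.sqMap_snd, reassoc_of% j_snd (G := G)] at h ⊢
  exact h

/-- The moved arrow. -/
noncomputable def Rel.tE : D.E ⟶ G.R :=
  D.act (𝟙 D.E ≫ pullback.fst (G.j ≫ D.sqMap) D.sqMap) (𝟙 D.E ≫ pullback.snd _ _ ≫ pullback.fst G.pU G.pU)
    (𝟙 D.E ≫ pullback.snd _ _ ≫ pullback.snd G.pU G.pU) (D.cond_t (𝟙 D.E)) (D.cond_s (𝟙 D.E))

theorem Rel.comp_tE {T : Scheme.{u}} (x : T ⟶ D.E) :
    x ≫ D.tE = D.act (x ≫ pullback.fst _ _) (x ≫ pullback.snd _ _ ≫ pullback.fst G.pU G.pU)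
      (x ≫ pullback.snd _ _ ≫ pullback.snd G.pU G.pU) (D.cond_t x) (D.cond_s x) := by
  rw [Rel.tE, D.act_comp]
  exact D.act_congr (by rw [Category.id_comp]) (by rw [Category.id_comp]) (by rw [Category.id_comp]) _ _

theorem Rel.tE_j : D.tE ≫ G.j = pullback.snd (G.j ≫ D.sqMap) D.sqMap := by
  apply pullback.hom_ext
  · rw [Category.assoc, j_fst]
    exact (D.act_t _ _ _ _ _).trans (Category.id_comp _)
  · rw [Category.assoc, j_snd]
    exact (D.act_s _ _ _ _ _).trans (Category.id_comp _)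

theorem Rel.comp_snd {T : Scheme.{u}} (x : T ⟶ D.E) : x ≫ pullback.snd _ _ = (x ≫ D.tE) ≫ G.j := by
  rw [Category.assoc, D.tE_j]

/-- A point of `D.E` with given arrow and end points. -/
noncomputable def Rel.mkE {T : Scheme.{u}} (r : T ⟶ G.R) (a b : T ⟶ G.U)
    (ha : a ≫ m = (r ≫ G.t) ≫ m) (hb : (r ≫ G.s) ≫ m = b ≫ m) : T ⟶ D.E :=
  pullback.lift r (pullback.lift a b (by
    rw [← D.hm, reassoc_of% ha, ← reassoc_of% hb, D.hm, G.t_over, G.s_over])) (by
    apply pullback.hom_ext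
    · simp only [Category.assoc, D.sqMap_fst, reassoc_of% j_fst (G := G), pullback.lift_fst_assoc]
      simp only [Category.assoc] at ha
      exact ha.symm
    · simp only [Category.assoc, D.sqMap_snd, reassoc_of% j_snd (G := G), pullback.lift_snd_assoc]
      simp only [Category.assoc] at hb
      exact hb)

theorem Rel.mkE_fst {T : Scheme.{u}} (r : T ⟶ G.R) (a b : T ⟶ G.U)
    (ha : a ≫ m = (r ≫ G.t) ≫ m) (hb : (r ≫ G.s) ≫ m = b ≫ m) : D.mkE r a b ha hb ≫ pullback.fst _ _ = r :=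
  pullback.lift_fst _ _ _

theorem Rel.mkE_tE {T : Scheme.{u}} (r : T ⟶ G.R) (a b : T ⟶ G.U)
    (ha : a ≫ m = (r ≫ G.t) ≫ m) (hb : (r ≫ G.s) ≫ m = b ≫ m) : D.mkE r a b ha hb ≫ D.tE = D.act r a b ha hb := by
  rw [D.comp_tE]
  exact D.act_congr (D.mkE_fst _ _ _ _ _) (by rw [Rel.mkE, pullback.lift_snd_assoc, pullback.lift_fst])
    (by rw [Rel.mkE, pullback.lift_snd_assoc, pullback.lift_snd]) _ _

/-- The groupoid on `R` of moving end points inside `P`-classes. -/
noncomputable def Rel.arrows : Grpd.GroupoidScheme S where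
  U := G.R
  R := D.E
  pU := G.pR
  pR := pullback.fst _ _ ≫ G.pR
  s := pullback.fst _ _
  t := D.tE
  e := pullback.lift (𝟙 G.R) G.j (Category.id_comp _)
  i := pullback.lift D.tE (pullback.fst (G.j ≫ D.sqMap) D.sqMap ≫ G.j) (by
    rw [reassoc_of% D.tE_j, Category.assoc]; exact pullback.condition.symm)
  c := pullback.lift (pullback.snd _ _ ≫ pullback.fst (G.j ≫ D.sqMap) D.sqMap)
      (pullback.fst _ _ ≫ pullback.snd (G.j ≫ D.sqMap) D.sqMap) (by
    have h1 := pullback.condition (f := pullback.fst (G.j ≫ D.sqMap) D.sqMap) (g := D.tE)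
    have h2 := pullback.condition (f := G.j ≫ D.sqMap) (g := D.sqMap)
    rw [Category.assoc, Category.assoc, h2, ← D.tE_j]
    simp only [Category.assoc]
    rw [← reassoc_of% h1, h2, ← Category.assoc D.tE, D.tE_j])
  s_over := rfl
  t_over := by
    have h := D.cond_t (𝟙 D.E)
    simp only [Category.id_comp, Category.assoc] at h
    rw [Rel.tE, ← G.t_over, reassoc_of% D.act_t]
    simp only [Category.id_comp, Category.assoc, ← D.hm, reassoc_of% h]
  comp_s α β h := by rw [Category.assoc, pullback.lift_fst, ← Category.assoc, pullback.lift_snd]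
  comp_t α β h := by
    rw [D.comp_tE (pullback.lift α β h ≫ _), D.comp_tE α]
    have hf : α ≫ pullback.fst _ _ = β ≫ D.tE := h
    have h₁ : (α ≫ pullback.snd _ _ ≫ pullback.fst G.pU G.pU) ≫ m =
        (β ≫ pullback.snd _ _ ≫ pullback.fst G.pU G.pU) ≫ m := by
      rw [D.cond_t α, hf, D.comp_tE, D.act_t]
    have h₂ : (β ≫ pullback.snd _ _ ≫ pullback.snd G.pU G.pU) ≫ m =
        (α ≫ pullback.snd _ _ ≫ pullback.snd G.pU G.pU) ≫ m := by
      rw [← D.cond_s α, hf, D.comp_tE, D.act_s]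
    refine Eq.trans (D.act_congr (r' := β ≫ pullback.fst (G.j ≫ D.sqMap) D.sqMap)
      (a' := α ≫ pullback.snd (G.j ≫ D.sqMap) D.sqMap ≫ pullback.fst G.pU G.pU)
      (b' := α ≫ pullback.snd (G.j ≫ D.sqMap) D.sqMap ≫ pullback.snd G.pU G.pU) ?_ ?_ ?_ _ _)
      ((D.act_act cP hcP _ _ _ _ _ (D.cond_t β) (D.cond_s β) h₁ h₂).symm.trans
        (D.act_congr (hf.trans (D.comp_tE β)).symm rfl rfl _ _))
    · rw [Category.assoc, pullback.lift_fst, ← Category.assoc, pullback.lift_snd]
    · rw [Category.assoc, pullback.lift_snd_assoc, Category.assoc, pullback.lift_fst_assoc]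
    · rw [Category.assoc, pullback.lift_snd_assoc, Category.assoc, pullback.lift_fst_assoc]
  assoc α β γ h₁ h₂ := by
    apply pullback.hom_ext <;>
      simp only [Category.assoc, pullback.lift_fst, pullback.lift_snd, pullback.lift_fst_assoc, pullback.lift_snd_assoc]
  e_s := pullback.lift_fst _ _ _
  e_t := by
    rw [D.comp_tE]
    refine (D.act_congr (pullback.lift_fst _ _ _) ?_ ?_ _ _).trans ((D.act_congr rfl (Category.id_comp G.t).symm
      (Category.id_comp G.s).symm rfl rfl).trans (D.act_self eP heP (𝟙 G.R)))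
    · rw [pullback.lift_snd_assoc, j_fst]
    · rw [pullback.lift_snd_assoc, j_snd]
  comp_e α := by
    apply pullback.hom_ext
    · simp only [Category.assoc, pullback.lift_fst, pullback.lift_snd_assoc, Category.comp_id]
    · simp only [Category.assoc, pullback.lift_snd, pullback.lift_fst_assoc]
  e_comp α := by
    apply pullback.hom_ext
    · simp only [Category.assoc, pullback.lift_fst, pullback.lift_snd_assoc]
    · simp only [Category.assoc, pullback.lift_snd, pullback.lift_fst_assoc, D.tE_j]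
  i_s := pullback.lift_fst _ _ _
  i_t := by
    rw [D.comp_tE]
    refine (D.act_congr (pullback.lift_fst _ _ _ |>.trans ((Category.id_comp _).symm.trans (D.comp_tE (𝟙 D.E))))
      (show _ = (𝟙 D.E ≫ pullback.fst (G.j ≫ D.sqMap) D.sqMap) ≫ G.t by
        rw [pullback.lift_snd_assoc, Category.assoc, j_fst, Category.id_comp])
      (show _ = (𝟙 D.E ≫ pullback.fst (G.j ≫ D.sqMap) D.sqMap) ≫ G.s by
        rw [pullback.lift_snd_assoc, Category.assoc, j_snd, Category.id_comp]) _ _).trans ?_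
    rw [D.act_act cP hcP _ _ _ _ _ (D.cond_t (𝟙 D.E)) (D.cond_s (𝟙 D.E)) (D.cond_t (𝟙 D.E)).symm
      (D.cond_s (𝟙 D.E)).symm]
    exact (D.act_self eP heP _).trans (Category.id_comp _)
  comp_i α := by
    apply pullback.hom_ext
    · simp only [Category.assoc, pullback.lift_fst, pullback.lift_snd_assoc, Category.comp_id]
    · simp only [Category.assoc, pullback.lift_snd, pullback.lift_fst_assoc, D.tE_j]
  i_comp α := by
    apply pullback.hom_ext
    · simp only [Category.assoc, pullback.lift_fst, pullback.lift_snd_assoc, Category.comp_id]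
    · simp only [Category.assoc, pullback.lift_snd, pullback.lift_fst_assoc]

end Groth.Agent.GrpdLib.SubQuot
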